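/-
Groups in which every element of order divisible by `p` has order `p`, and norm identities for
fixed-point-free actions.

Main results (namespace `Cfsg.Agent.PartCls`): `pow_card_eq_one`, `pow_prime_eq_one`, `Iso`,
`Iso.not_dvd`, `Iso.not_dvd_index`, `Iso.hughes_or_frobenius`.
-/
import Cfsg.Agent.EqLemmas
import Cfsg.Agent.Lib.Cores.Basic
import Cfsg.Agent.Lib.FourPrimes.Main
import Cfsg.Agent.Lib.OddOrderTheorem.Basic
import Cfsg.Agent.Lib.Frobenius.Basic
import Cfsg.Agent.Lib.SplitAut.Basic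

set_option autoImplicit false

namespace Cfsg.Agent.PartCls

open Subgroup
open scoped IsMulCommutative

variable {Y : Type*} [Group Y] {V : Type*} [CommGroup V] (ρ : Y →* MulAut V)

/-- If `y` of prime order acts without fixed points on `M`, `M` without fixed points on `V` and the
conjugates of `y` have trivial norm, the order of `M` kills `V`. -/
theorem pow_card_eq_one [Finite Y] {M : Subgroup Y} (hM : M ≠ ⊥) {p : ℕ} (hp : p.Prime) {y : Y}
    (hy : y ^ p = 1) (hn : y ∈ normalizer (M : Set Y)) (hC : ∀ m ∈ M, Commute m y → m = 1)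
    (hfpf : ∀ m ∈ M, m ≠ 1 → ∀ v, ρ m v = v → v = 1)
    (hnorm : ∀ m ∈ M, ∀ v, ∏ i ∈ Finset.range p, ρ ((m * y * m⁻¹) ^ i) v = 1) (v : V) :
    v ^ Nat.card M = 1 := by
  classical
  haveI := Fintype.ofFinite M
  have hfix : ∀ w, ∏ m : M, ρ m w = 1 := by
    intro w
    obtain ⟨m₀, hm₀, hm₁⟩ : ∃ m, m ∈ M ∧ m ≠ 1 := by
      obtain ⟨m, hm⟩ := M.ne_bot_iff_exists_ne_one.1 hM
      exact ⟨m, m.2, fun e => hm (Subtype.ext e)⟩
    refine hfpf m₀ hm₀ hm₁ _ ?_
    rw [map_prod]
    refine Fintype.prod_equiv (Equiv.mulLeft ⟨m₀, hm₀⟩) _ _ fun m => ?_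
    rw [Equiv.coe_mulLeft, Subgroup.coe_mul, map_mul, MulAut.mul_apply]
  have hstep : ∀ i, 0 < i → i < p → ∀ w, ∏ m : M, ρ ((m : Y) * y ^ i * (m : Y)⁻¹) w = 1 := by
    intro i hi0 hip w
    have hnk : ∀ m : M, (m : Y) * y ^ i * (m : Y)⁻¹ * (y ^ i)⁻¹ ∈ M := fun m => by
      have h := (mem_normalizer_iff.1 (pow_mem hn i) _).1 (M.inv_mem m.2)
      simpa [mul_assoc] using M.mul_mem m.2 h
    let φ : M → M := fun m => ⟨_, hnk m⟩
    have hinj : Function.Injective φ := by
      intro a b hab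
      have e := congrArg Subtype.val hab
      simp only [φ, mul_left_inj] at e
      have hc : Commute ((b : Y)⁻¹ * a) (y ^ i) := by
        show _ * _ = _ * _
        calc (b : Y)⁻¹ * a * y ^ i = (b : Y)⁻¹ * ((a : Y) * y ^ i * (a : Y)⁻¹) * a := by group
          _ = y ^ i * ((b : Y)⁻¹ * a) := by rw [e]; group
      have hcop : Nat.Coprime i p := (hp.coprime_iff_not_dvd.2 fun h =>
        absurd (Nat.le_of_dvd hi0 h) (not_le.2 hip)).symm
      obtain ⟨j, hj⟩ := exists_pow_eq_self_of_coprime (n := i) (x := y)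
        (hcop.coprime_dvd_right (orderOf_dvd_of_pow_eq_one hy))
      have hc' := hc.pow_right j
      rw [hj] at hc'
      exact Subtype.ext (inv_mul_eq_one.1 (hC _ (M.mul_mem (M.inv_mem b.2) a.2) hc')).symm
    have key := hfix (ρ (y ^ i) w)
    rw [← (Finite.injective_iff_bijective.1 hinj).prod_comp fun m : M => ρ (m : Y) (ρ (y ^ i) w)] at key
    rw [← key]
    refine Finset.prod_congr rfl fun m _ => ?_
    rw [← MulAut.mul_apply, ← map_mul]
    simp only [φ, inv_mul_cancel_right]
  have hall : ∏ m : M, ∏ i ∈ Finset.range p, ρ ((m : Y) * y ^ i * (m : Y)⁻¹) v = 1 :=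
    Finset.prod_eq_one fun m _ => by simpa only [conj_pow] using hnorm m m.2 v
  rw [Finset.prod_comm, Finset.prod_eq_single 0] at hall
  · simpa [Finset.prod_const, Nat.card_eq_fintype_card] using hall
  · intro i hi hi0
    exact hstep i (Nat.pos_of_ne_zero hi0) (Finset.mem_range.1 hi) v
  · intro h
    exact absurd (Finset.mem_range.2 hp.pos) h

/-- Two commuting elements of order `p` whose products all have trivial norm. -/
theorem pow_prime_eq_one {p : ℕ} (hp : p.Prime) {a b : Y} (hab : Commute a b)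
    (hb : ∀ k, 0 < k → k < p → ∀ v, ∏ j ∈ Finset.range p, ρ ((b ^ k) ^ j) v = 1)
    (hc : ∀ i, i < p → ∀ v, ∏ j ∈ Finset.range p, ρ ((a * b ^ i) ^ j) v = 1) (v : V) : v ^ p = 1 := by
  have h := SplitAut.norm_eq_pow_of_two_commuting (a := ρ a) (b := ρ b) hp.pos (hab.map ρ) v
    (fun k hk hk' => by simpa only [map_pow] using hb k hk hk' v)
    (fun i _ hi => by simpa only [map_pow, map_mul] using hc i hi v)
  rw [← h]
  simpa only [map_pow, pow_zero, mul_one] using hc 0 hp.pos v

/-- Every element of order divisible by `p` has order `p`. -/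
def Iso (p : ℕ) (G : Type*) [Group G] : Prop := ∀ x : G, p ∣ orderOf x → orderOf x = p

variable {ρ} {p : ℕ} {G : Type*} [Group G]

theorem Iso.map (h : Iso p G) {H : Type*} [Group H] {f : G →* H} (hf : Function.Surjective f)
    (hp : p.Prime) : Iso p H := fun x hx => by
  obtain ⟨g, rfl⟩ := hf x
  have hd := orderOf_map_dvd f g
  rw [h g (hx.trans hd)] at hd
  exact ((Nat.dvd_prime hp).1 hd).resolve_left fun e => hp.one_lt.ne' (Nat.dvd_one.1 (e ▸ hx))

theorem Iso.orderOf_eq (h : Iso p G) (hp : p.Prime) {x : G} (hx : x ≠ 1) {k : ℕ} (hk : x ^ p ^ k = 1) :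
    orderOf x = p := by
  obtain ⟨j, -, hj⟩ := (Nat.dvd_prime_pow hp).1 (orderOf_dvd_of_pow_eq_one hk)
  refine h x (hj ▸ dvd_pow_self p ?_)
  rintro rfl
  exact hx (orderOf_eq_one_iff.1 (by simpa using hj))

theorem Iso.eq_one_of_commute (h : Iso p G) (hp : p.Prime) {y z : G} (hy : orderOf y = p)
    (hz : ¬ p ∣ orderOf z) (hc : Commute z y) : z = 1 := by
  have hco : (orderOf z).Coprime (orderOf y) := by
    rw [hy]; exact (hp.coprime_iff_not_dvd.2 hz).symm
  have h1 := hc.orderOf_mul_eq_mul_orderOf_of_coprime hco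
  rw [h (z * y) (h1 ▸ hy.symm ▸ Dvd.intro_left _ rfl), hy] at h1
  exact orderOf_eq_one_iff.1 (mul_eq_right₀ hp.ne_zero |>.1 h1.symm)

/-- A group with the property, trivial `p`-core and a suitable module has order prime to `p`. -/
theorem Iso.not_dvd [Finite Y] [Finite V] [Nontrivial V] (hI : Iso p Y) (hp : p.Prime)
    (hexp : ∀ v : V, v ^ p = 1) (hfpf : ∀ z : Y, z ≠ 1 → ¬ p ∣ orderOf z → ∀ v, ρ z v = v → v = 1)
    (hnorm : ∀ y : Y, orderOf y = p → ∀ v, ∏ i ∈ Finset.range p, ρ (y ^ i) v = 1)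
    (hO : Cfsg.pCore p Y = ⊥) : ¬ p ∣ Nat.card Y := by
  classical
  haveI := Fact.mk hp
  obtain ⟨w, hw⟩ := exists_ne (1 : V)
  have hker : ρ.ker = ⊥ := by
    have hP : IsPGroup p ρ.ker := fun z => ⟨1, by
      by_cases hz : p ∣ orderOf (z : Y)
      · rw [pow_one, ← hI z hz, Subgroup.orderOf_coe, pow_orderOf_eq_one]
      · have : (z : Y) = 1 := by
          by_contra h1
          exact hw (hfpf z h1 hz w (by rw [MonoidHom.mem_ker.1 z.2]; rfl))
        rw [show z = 1 from Subtype.ext this, one_pow]⟩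
    exact le_bot_iff.1 (hO ▸ Cores.le_pCore (MonoidHom.normal_ker ρ) hP)
  intro hdvd
  obtain ⟨y, hy⟩ := exists_prime_orderOf_dvd_card' p hdvd
  have hy1 : y ≠ 1 := fun e => hp.one_lt.ne' (by rw [← hy, e, orderOf_one])
  have hinj : Function.Injective ρ := (MonoidHom.ker_eq_bot_iff ρ).1 hker
  rcases hp.eq_two_or_odd with rfl | hodd
  · refine hy1 (hinj ?_)
    refine MulEquiv.ext fun v => ?_
    have h := hnorm y hy v
    rw [Finset.prod_range_succ, Finset.prod_range_one, pow_zero, pow_one, map_one, MulAut.one_apply] at h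
    rw [map_one, MulAut.one_apply, eq_comm, ← mul_left_cancel_iff (a := v), ← pow_two, hexp, h]
  by_cases hev : 2 ∣ Nat.card Y
  · haveI := Fact.mk Nat.prime_two
    obtain ⟨t, ht⟩ := exists_prime_orderOf_dvd_card' 2 hev
    have ht1 : t ≠ 1 := fun e => by rw [e, orderOf_one] at ht; omega
    have htp : ¬ p ∣ orderOf t := by
      rw [ht]; intro h; have := Nat.le_of_dvd two_pos h; have := hp.two_le; omega
    have hinv : ∀ v, ρ t v = v⁻¹ := fun v => by
      refine eq_inv_of_mul_eq_one_left (hfpf t ht1 htp _ ?_)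
      rw [map_mul, ← MulAut.mul_apply, ← map_mul, ← pow_two, ← ht, pow_orderOf_eq_one, map_one,
        MulAut.one_apply, mul_comm]
    have hc : Commute t y := hinj (MulEquiv.ext fun v => by
      rw [map_mul, map_mul, MulAut.mul_apply, MulAut.mul_apply, hinv, hinv, map_inv])
    exact ht1 (hI.eq_one_of_commute hp hy htp hc)
  · haveI := OddOrderTheorem.solvable (G := Y) (Nat.not_even_iff_odd.1 fun h => hev (even_iff_two_dvd.1 h))
    haveI : Nontrivial Y := ⟨⟨y, 1, hy1⟩⟩
    obtain ⟨q, hq, -, hM⟩ := FourPrimes.exists_pCore_ne_bot Y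
    have hqp : q ≠ p := fun e => hM (e ▸ hO)
    haveI := Fact.mk hq
    set M := Cfsg.pCore q Y
    haveI : M.Normal := Cores.pCore_normal q Y
    have hMp : ∀ m ∈ M, ¬ p ∣ orderOf m := by
      intro m hm h
      obtain ⟨k, hk⟩ := (Cores.isPGroup_pCore q Y) ⟨m, hm⟩
      have h' := h.trans (orderOf_dvd_of_pow_eq_one (n := q ^ k) (congrArg Subtype.val hk))
      exact hqp ((Nat.prime_dvd_prime_iff_eq hp hq).1 (hp.dvd_of_dvd_pow h')).symm
    have key := pow_card_eq_one ρ hM hp (by rw [← hy, pow_orderOf_eq_one])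
      (by rw [Subgroup.normalizer_eq_top]; trivial)
      (fun m hm hc => hI.eq_one_of_commute hp hy (hMp m hm) hc)
      (fun m hm hm1 => hfpf m hm1 (hMp m hm))
      (fun m _ => hnorm _ (by rw [← hy]; exact orderOf_injective (MulAut.conj m).toMonoidHom (MulAut.conj m).injective y))
      w
    have h1 : orderOf w ∣ Nat.card M := orderOf_dvd_of_pow_eq_one key
    rw [orderOf_eq_prime (hexp w) hw] at h1
    obtain ⟨k, hk⟩ := (Cores.isPGroup_pCore q Y).exists_card_eq
    exact hqp ((Nat.prime_dvd_prime_iff_eq hp hq).1 (hp.dvd_of_dvd_pow (hk ▸ h1))).symm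

theorem coe_prod_conj {U : Subgroup G} [U.Normal] [IsMulCommutative U] (y : G) (v : U) (n : ℕ) :
    ((∏ i ∈ Finset.range n, MulAut.conjNormal (y ^ i) v : U) : G) = ((v : G) * y) ^ n * (y ^ n)⁻¹ := by
  induction n with
  | zero => simp
  | succ n ih =>
    rw [Finset.prod_range_succ, Subgroup.coe_mul, ih, MulAut.conjNormal_apply, pow_succ ((v : G) * y)]
    group

/-- A group with the property and nontrivial `p`-core has a `p`-group Sylow core. -/
theorem Iso.not_dvd_index [Finite G] (hI : Iso p G) (hp : p.Prime) (hU : Cfsg.pCore p G ≠ ⊥) :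
    ¬ p ∣ (Cfsg.pCore p G).index := by
  classical
  haveI := Fact.mk hp
  set U := Cfsg.pCore p G
  haveI : U.Normal := Cores.pCore_normal p G
  have hUp : IsPGroup p U := Cores.isPGroup_pCore p G
  let Z : Subgroup G := (center U).map U.subtype
  haveI : Z.Normal := Cores.map_subtype_normal_of_characteristic U (center U)
  haveI : IsMulCommutative Z := by infer_instance
  haveI : Nontrivial U := (nontrivial_iff_ne_bot U).2 hU
  haveI : Nontrivial Z := by
    haveI := hUp.center_nontrivial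
    exact (equivMapOfInjective (center U) U.subtype U.subtype_injective).symm.toEquiv.nontrivial
  have hker : U ≤ (MulAut.conjNormal (H := Z)).ker := by
    intro u hu
    refine MonoidHom.mem_ker.2 (MulEquiv.ext fun v => Subtype.ext ?_)
    obtain ⟨c, hc, hcv⟩ := v.2
    have := congrArg Subtype.val (mem_center_iff.1 hc ⟨u, hu⟩)
    rw [MulAut.conjNormal_apply, MulAut.one_apply, ← hcv]
    simp only [Subgroup.coe_subtype, Subgroup.coe_mul] at this ⊢
    rw [this, mul_inv_cancel_right]
  have hvp : ∀ v : Z, (v : G) ≠ 1 → orderOf (v : G) = p := fun v hv => by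
    obtain ⟨k, hk⟩ := hUp ⟨v, map_subtype_le _ v.2⟩
    exact hI.orderOf_eq hp hv (congrArg Subtype.val hk)
  rw [index_eq_card]
  refine Iso.not_dvd (ρ := QuotientGroup.lift U (MulAut.conjNormal (H := Z)) hker)
    (hI.map (QuotientGroup.mk'_surjective U) hp) hp ?_ ?_ ?_ (Cores.pCore_quotient_self p G)
  · intro v
    by_cases hv : (v : G) = 1
    · rw [show v = 1 from Subtype.ext hv, one_pow]
    · exact Subtype.ext (by rw [SubgroupClass.coe_pow, ← hvp v hv, pow_orderOf_eq_one]; rfl)
  · intro z hz hzp v hfix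
    obtain ⟨x, rfl⟩ := QuotientGroup.mk'_surjective U z
    have hxp : ¬ p ∣ orderOf x := fun h => by
      have hd := orderOf_map_dvd (QuotientGroup.mk' U) x
      rw [hI x h] at hd
      rcases (Nat.dvd_prime hp).1 hd with e | e
      · exact hz (orderOf_eq_one_iff.1 e)
      · exact hzp (e ▸ dvd_rfl)
    by_contra hv
    have hv' : (v : G) ≠ 1 := fun e => hv (Subtype.ext e)
    have hc : Commute x (v : G) := by
      have h := congrArg Subtype.val hfix
      rw [QuotientGroup.mk'_apply, QuotientGroup.lift_mk, MulAut.conjNormal_apply] at h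
      exact mul_inv_eq_iff_eq_mul.1 h
    exact hz (by rw [hI.eq_one_of_commute hp (hvp v hv') hxp hc, map_one])
  · intro y hy v
    obtain ⟨x, rfl⟩ := QuotientGroup.mk'_surjective U y
    have key : ∀ g : G, QuotientGroup.mk' U g = QuotientGroup.mk' U x → g ^ p = 1 := fun g hg => by
      have hd := orderOf_map_dvd (QuotientGroup.mk' U) g
      rw [hg, hy] at hd
      rw [← hI g hd, pow_orderOf_eq_one]
    refine Subtype.ext ?_
    have e : ∀ i, QuotientGroup.lift U (MulAut.conjNormal (H := Z)) hker (QuotientGroup.mk' U x ^ i) =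
        MulAut.conjNormal (x ^ i) := fun i => by rw [← map_pow]; exact QuotientGroup.lift_mk' _ _ _
    simp only [e]
    rw [coe_prod_conj, key ((v : G) * x) ?_, key x rfl, inv_one, mul_one]
    · rfl
    · rw [map_mul, QuotientGroup.mk'_apply, (QuotientGroup.eq_one_iff (v : G)).2 (map_subtype_le _ v.2),
        one_mul]

theorem Iso.hughes_or_frobenius [Finite G] (hI : Iso p G) (hp : p.Prime) (hU : Cfsg.pCore p G ≠ ⊥) :
    Subgroup.closure {g : G | g ^ p ≠ 1} ≠ ⊤ ∨ ∃ A : Subgroup G, Cfsg.IsFrobeniusComplement A := by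
  classical
  haveI := Fact.mk hp
  set U := Cfsg.pCore p G
  haveI : U.Normal := Cores.pCore_normal p G
  have hUp : IsPGroup p U := Cores.isPGroup_pCore p G
  by_cases htop : U = ⊤
  · left
    have h1 : ∀ g : G, g ^ p = 1 := fun g => by
      by_cases hg : g = 1
      · rw [hg, one_pow]
      · obtain ⟨k, hk⟩ := hUp ⟨g, htop ▸ mem_top g⟩
        rw [← hI.orderOf_eq hp hg (congrArg Subtype.val hk), pow_orderOf_eq_one]
    intro h
    have he : {g : G | g ^ p ≠ 1} = ∅ := Set.eq_empty_of_forall_notMem fun g hg => hg (h1 g)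
    rw [he, Subgroup.closure_empty] at h
    exact hU (eq_bot_iff.2 (h ▸ le_top))
  · right
    obtain ⟨k, hk⟩ := hUp.exists_card_eq
    have hco : (Nat.card U).Coprime U.index := hk ▸
      Nat.Coprime.pow_left k (hp.coprime_iff_not_dvd.2 (hI.not_dvd_index hp hU))
    obtain ⟨A, hA⟩ := exists_right_complement'_of_coprime hco
    refine ⟨A, Frobenius.FPF.isFrobeniusComplement hA hU (fun e => htop ?_) ?_⟩
    · subst e
      exact isComplement'_bot_right.1 hA
    · intro a ha ha1 u hu hcomm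
      by_contra hu1
      obtain ⟨j, hj⟩ := hUp ⟨u, hu⟩
      refine ha1 (hI.eq_one_of_commute hp (hI.orderOf_eq hp hu1 (congrArg Subtype.val hj)) (fun h => ?_) hcomm)
      refine hI.not_dvd_index hp hU (h.trans ?_)
      rw [hA.symm.index_eq_card]
      exact Subgroup.orderOf_dvd_natCard A ha

end Cfsg.Agent.PartCls
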