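/-
Groups with a nontrivial partition: conjugation invariant refinement and elementary properties.

Main results (namespace `Cfsg.Agent.PartCls`): `Part`, `exists_part`, `Part.eq_of_mem`, `Part.zpow`,
`Part.commute_dichotomy`, `Part.pow_mem_eq_one`, `Part.inverts`, `Part.comm_of_inverted`, `Part.restrict`.
-/
import Cfsg.Agent.EqLemmas
import Cfsg.Agent.Lib.Involution.Basic

set_option autoImplicit false

namespace Cfsg.Agent.PartCls

open Subgroup

/-- A conjugation invariant partition, given by the member containing each element. -/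
structure Part (G : Type*) [Group G] where
  /-- The member containing an element. -/
  comp : G → Subgroup G
  mem' : ∀ x, x ≠ 1 → x ∈ comp x
  eq' : ∀ x y, x ≠ 1 → y ≠ 1 → y ∈ comp x → comp y = comp x
  conj' : ∀ g x, x ≠ 1 → comp (g * x * g⁻¹) = (comp x).map (MulAut.conj g).toMonoidHom
  ne_top' : ∀ x, x ≠ 1 → comp x ≠ ⊤

variable {G : Type*} [Group G]

theorem exists_part (S : Set (Subgroup G)) (hS2 : ∃ H ∈ S, ∃ K ∈ S, H ≠ K) (hS1 : ∀ H ∈ S, H ≠ ⊥)
    (hpart : ∀ g : G, g ≠ 1 → ∃! H : Subgroup G, H ∈ S ∧ g ∈ H) : Nonempty (Part G) := by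
  classical
  let H0 : G → Subgroup G := fun g => if h : g ≠ 1 then (hpart g h).choose else ⊥
  have hmem : ∀ g, g ≠ 1 → H0 g ∈ S ∧ g ∈ H0 g := fun g hg => by
    simp only [H0, dif_pos hg]
    exact (hpart g hg).choose_spec.1
  have huniq : ∀ g, g ≠ 1 → ∀ K ∈ S, g ∈ K → K = H0 g := fun g hg K hK hgK => by
    simp only [H0, dif_pos hg]
    exact (hpart g hg).choose_spec.2 K ⟨hK, hgK⟩
  have hc1 : ∀ g x : G, x ≠ 1 → g⁻¹ * x * g ≠ 1 := fun g x hx h => hx (by simpa [mul_eq_one_iff_eq_inv] using h)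
  refine ⟨{
    comp := fun x => ⨅ g : G, (H0 (g⁻¹ * x * g)).map (MulAut.conj g).toMonoidHom
    mem' := ?_, eq' := ?_, conj' := ?_, ne_top' := ?_ }⟩
  · intro x hx
    refine mem_iInf.2 fun g => ⟨g⁻¹ * x * g, (hmem _ (hc1 g x hx)).2, ?_⟩
    simp [mul_assoc]
  · intro x y hx hy h
    refine iInf_congr fun g => ?_
    obtain ⟨z, hz, hzy⟩ := mem_iInf.1 h g
    have hz' : g⁻¹ * y * g = z := by rw [← hzy]; simp [mul_assoc]
    rw [huniq _ (hc1 g y hy) _ (hmem _ (hc1 g x hx)).1 (hz' ▸ hz)]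
  · intro a x hx
    rw [Subgroup.map_iInf _ (MulAut.conj a).injective]
    refine Equiv.iInf_congr (Equiv.mulLeft a⁻¹) fun g => ?_
    rw [Subgroup.map_map]
    have e1 : (Equiv.mulLeft a⁻¹) g = a⁻¹ * g := rfl
    rw [e1, show (a⁻¹ * g)⁻¹ * x * (a⁻¹ * g) = g⁻¹ * (a * x * a⁻¹) * g by group]
    congr 1
    ext y
    simp only [MonoidHom.coe_comp, MulEquiv.coe_toMonoidHom, Function.comp_apply, MulAut.conj_apply]
    group
  · intro x hx h
    have h1 := iInf_le (fun g : G => (H0 (g⁻¹ * x * g)).map (MulAut.conj g).toMonoidHom) 1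
    have htop : H0 x = ⊤ := by
      have h1' := top_le_iff.1 (h.ge.trans h1)
      refine eq_top_iff.2 fun y _ => ?_
      obtain ⟨z, hz, rfl⟩ := h1'.ge (mem_top y)
      simpa using hz
    obtain ⟨H, hH, K, hK, hne⟩ := hS2
    have key : ∀ M ∈ S, M = H0 x := fun M hM => by
      obtain ⟨m, hm, hm1⟩ := (M.ne_bot_iff_exists_ne_one).1 (hS1 M hM) |> fun ⟨m, hm⟩ =>
        (⟨m.1, m.2, fun e => hm (Subtype.ext e)⟩ : ∃ m, m ∈ M ∧ m ≠ 1)
      rw [huniq m hm1 M hM hm, huniq m hm1 _ (hmem x hx).1 (htop ▸ mem_top m)]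
    exact hne ((key H hH).trans (key K hK).symm)

namespace Part

variable (P : Part G)

theorem mem {x : G} (hx : x ≠ 1) : x ∈ P.comp x := P.mem' x hx

theorem eq_of_mem {x y : G} (hx : x ≠ 1) (hy : y ≠ 1) (h : y ∈ P.comp x) : P.comp y = P.comp x :=
  P.eq' x y hx hy h

theorem eq_of_mem_mem {x y z : G} (hx : x ≠ 1) (hy : y ≠ 1) (hz : z ≠ 1) (h1 : z ∈ P.comp x)
    (h2 : z ∈ P.comp y) : P.comp x = P.comp y :=
  (P.eq_of_mem hx hz h1).symm.trans (P.eq_of_mem hy hz h2)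

theorem zpow {x : G} {k : ℤ} (hk : x ^ k ≠ 1) : P.comp (x ^ k) = P.comp x := by
  have hx : x ≠ 1 := fun e => hk (by rw [e, one_zpow])
  exact P.eq_of_mem hx hk (zpow_mem (P.mem hx) k)

theorem pow {x : G} {k : ℕ} (hk : x ^ k ≠ 1) : P.comp (x ^ k) = P.comp x := by
  rw [← zpow_natCast] at hk ⊢
  exact P.zpow hk

theorem mem_conj_iff {g x y : G} (hx : x ≠ 1) :
    y ∈ P.comp (g * x * g⁻¹) ↔ g⁻¹ * y * g ∈ P.comp x := by
  rw [P.conj' g x hx]
  constructor
  · rintro ⟨z, hz, rfl⟩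
    simpa [mul_assoc] using hz
  · intro h
    exact ⟨_, h, by simp [mul_assoc]⟩

theorem comp_ne_bot {x : G} (hx : x ≠ 1) : P.comp x ≠ ⊥ := fun h =>
  hx (mem_bot.1 (h ▸ P.mem hx))

theorem ne_top {x : G} (hx : x ≠ 1) : P.comp x ≠ ⊤ := P.ne_top' x hx

theorem mem_normalizer_of_comp_eq [Finite G] {g x : G} (hx : x ≠ 1)
    (h : P.comp (g * x * g⁻¹) = P.comp x) : g ∈ normalizer (P.comp x : Set G) := by
  refine mem_normalizer_fintype fun z hz => ?_
  rw [SetLike.mem_coe, ← h, P.mem_conj_iff hx]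
  simpa [mul_assoc] using hz

theorem mem_normalizer_of_conj_mem [Finite G] {g x z : G} (hx : x ≠ 1) (hz : z ≠ 1) (hzx : z ∈ P.comp x)
    (h : g * z * g⁻¹ ∈ P.comp x) : g ∈ normalizer (P.comp x : Set G) := by
  have e := P.eq_of_mem hx hz hzx
  rw [← e] at h ⊢
  exact P.mem_normalizer_of_comp_eq hz (P.eq_of_mem hz (fun e' => hz (by simpa using e')) h)

theorem mem_normalizer_of_commute [Finite G] {g x : G} (hx : x ≠ 1) (h : Commute g x) :
    g ∈ normalizer (P.comp x : Set G) :=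
  P.mem_normalizer_of_comp_eq hx (by rw [h.eq, mul_inv_cancel_right])

theorem conj_mem {g x y : G} (hg : g ∈ normalizer (P.comp x : Set G)) (hy : y ∈ P.comp x) :
    g * y * g⁻¹ ∈ P.comp x :=
  (mem_normalizer_iff.1 hg y).1 hy

theorem mem_or_eq [Finite G] {x y : G} (hx : x ≠ 1) (hy : y ≠ 1) (h : Commute x y) :
    y ∈ P.comp x ∨ orderOf x = orderOf y ∧ (orderOf x).Prime := by
  refine or_iff_not_imp_left.2 fun hn => ?_
  have key : ∀ a b : G, a ≠ 1 → b ≠ 1 → Commute a b → b ∉ P.comp a → orderOf b ≤ orderOf a := by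
    intro a b ha hb hab hn'
    by_contra hlt
    push Not at hlt
    have h1 : b ^ orderOf a ≠ 1 := fun e =>
      absurd (Nat.le_of_dvd (orderOf_pos a) (orderOf_dvd_of_pow_eq_one e)) (not_le.2 hlt)
    have hpow : (a * b) ^ orderOf a = b ^ orderOf a := by rw [hab.mul_pow, pow_orderOf_eq_one, one_mul]
    have hab1 : a * b ≠ 1 := fun e => h1 (by rw [← hpow, e, one_pow])
    have e1 : P.comp (a * b) = P.comp b := by rw [← P.pow (hpow ▸ h1), hpow, P.pow h1]
    have h2 : a ∈ P.comp b := by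
      have := mul_mem (e1 ▸ P.mem hab1) (inv_mem (P.mem hb))
      rwa [mul_inv_cancel_right] at this
    exact hn' (P.eq_of_mem hb ha h2 ▸ P.mem hb)
  have hn2 : x ∉ P.comp y := fun h2 => hn (P.eq_of_mem hy hx h2 ▸ P.mem hy)
  have heq : orderOf x = orderOf y := le_antisymm (key y x hy hx h.symm hn2) (key x y hx hy h hn)
  refine ⟨heq, ?_⟩
  obtain ⟨r, hr, hrd⟩ := Nat.exists_prime_and_dvd fun e => hx (orderOf_eq_one_iff.1 e)
  by_contra hnp
  obtain ⟨m, hm⟩ := hrd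
  have hm1 : m ≠ 1 := fun e => hnp (by rw [hm, e, mul_one]; exact hr)
  have hxr : orderOf (x ^ r) = m := by
    rw [orderOf_pow, hm, Nat.gcd_mul_right_left]
    exact Nat.mul_div_cancel_left m hr.pos
  have hxr1 : x ^ r ≠ 1 := fun e => hm1 (by rw [← hxr, e, orderOf_one])
  have hc := key (x ^ r) y hxr1 hy (h.pow_left r) fun h2 => hn (P.pow hxr1 ▸ h2)
  rw [hxr, ← heq, hm] at hc
  have h0 : 0 < m := Nat.pos_of_ne_zero fun e => by rw [e, mul_zero] at hm; exact (orderOf_pos x).ne' hm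
  have : 2 * m ≤ r * m := Nat.mul_le_mul_right m hr.two_le
  omega

theorem mem_of_order_ne [Finite G] {x y : G} (hx : x ≠ 1) (hy : y ≠ 1) (h : Commute x y)
    (ho : orderOf x ≠ orderOf y) : y ∈ P.comp x :=
  (P.mem_or_eq hx hy h).resolve_right fun h' => ho h'.1

theorem pow_eq_one_of_mem {y : G} {x : G} {m : ℕ} (hx : x ≠ 1) (hy : y ∉ P.comp x)
    (h : y ^ m ∈ P.comp x) : y ^ m = 1 := by
  by_contra h1
  have hy1 : y ≠ 1 := fun e => h1 (by rw [e, one_pow])
  exact hy (P.eq_of_mem hx h1 h ▸ P.pow h1 ▸ P.mem hy1)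

theorem orderOf_eq_two {x u : G} (hx : x ≠ 1) (hu : u ∉ P.comp x)
    (hu2 : u * u ∈ P.comp x) : orderOf u = 2 :=
  Involution.orderOf_of_sq (by rw [← pow_two]; exact P.pow_eq_one_of_mem hx hu (by rwa [pow_two]))
    fun e => hu (e ▸ one_mem _)

theorem inverts {x u h : G} (hx : x ≠ 1) (hu2 : u * u = 1) (hu : u ∉ P.comp x)
    (hn : u ∈ normalizer (P.comp x : Set G)) (hh : h ∈ P.comp x) : u * h * u⁻¹ = h⁻¹ := by
  have hhu : h * u ∉ P.comp x := fun h' => hu ((mul_mem_cancel_left hh).1 h')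
  have hm : h * u * (h * u) ∈ P.comp x := by
    have hui : u⁻¹ = u := inv_eq_of_mul_eq_one_right hu2
    have := mul_mem hh (P.conj_mem hn hh)
    rw [hui] at this
    simpa [mul_assoc] using this
  have h1 := P.pow_eq_one_of_mem hx hhu (m := 2) (by rwa [pow_two])
  rw [pow_two] at h1
  have hui : u⁻¹ = u := inv_eq_of_mul_eq_one_right hu2
  rw [hui]
  refine (inv_eq_of_mul_eq_one_right ?_).symm
  simpa [mul_assoc] using h1

theorem comm_of_inverted {x u a b : G} (hx : x ≠ 1) (hu2 : u * u = 1) (hu : u ∉ P.comp x)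
    (hn : u ∈ normalizer (P.comp x : Set G)) (ha : a ∈ P.comp x) (hb : b ∈ P.comp x) : a * b = b * a := by
  have h : u * (a * b) * u⁻¹ = (u * a * u⁻¹) * (u * b * u⁻¹) := by group
  rw [P.inverts hx hu2 hu hn (mul_mem ha hb), P.inverts hx hu2 hu hn ha, P.inverts hx hu2 hu hn hb,
    mul_inv_rev] at h
  have := congrArg (·⁻¹) h
  simpa using this

/-- The partition induced on a subgroup in no member. -/
def restrict (M : Subgroup G) (hM : ∀ x ∈ M, x ≠ 1 → ¬ M ≤ P.comp x) : Part M where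
  comp x := (P.comp (x : G)).subgroupOf M
  mem' x hx := P.mem fun e => hx (Subtype.ext e)
  eq' x y hx hy h := by
    rw [P.eq_of_mem (fun e => hx (Subtype.ext e)) (fun e => hy (Subtype.ext e)) (mem_subgroupOf.1 h)]
  conj' g x hx := by
    ext z
    rw [mem_subgroupOf, Subgroup.coe_mul, Subgroup.coe_mul, Subgroup.coe_inv,
      P.mem_conj_iff (fun e => hx (Subtype.ext e))]
    constructor
    · intro h
      exact ⟨g⁻¹ * z * g, h, by simp [mul_assoc]⟩
    · rintro ⟨w, hw, rfl⟩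
      simpa [mul_assoc] using mem_subgroupOf.1 hw
  ne_top' x hx h := hM x x.2 (fun e => hx (Subtype.ext e)) (subgroupOf_eq_top.1 h)

@[simp] theorem restrict_comp (M : Subgroup G) (hM : ∀ x ∈ M, x ≠ 1 → ¬ M ≤ P.comp x) (x : M) :
    (P.restrict M hM).comp x = (P.comp (x : G)).subgroupOf M := rfl

end Part

end Cfsg.Agent.PartCls
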