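/-
The elements normalising a member of a partition.

Main results (namespace `Cfsg.Agent.PartCls`): `exists_pPow`, `exists_center_order`, `omegaZ`,
`exists_frobenius_of_fpf`, `Part.comm_mem`, `Part.isNilpotent_of_commute`, `Part.orderOf_eq_of_dvd`.
-/
import Cfsg.Agent.Lib.PartitionClass.Basic
import Cfsg.Agent.Lib.PGroup.Basic
import Cfsg.Agent.Lib.Cores.Fitting
import Cfsg.Agent.Lib.Frobenius.Basic
import Cfsg.Agent.Lib.SplitAut.Basic
import Cfsg.Agent.Lib.Signalizer.PAction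
import Cfsg.Agent.S4249

set_option autoImplicit false

namespace Cfsg.Agent.PartCls

open Subgroup

universe u

variable {G : Type u} [Group G] [Finite G]

/-- A power of order a nontrivial power of a prime divisor of the order. -/
theorem exists_pPow {p : ℕ} (hp : p.Prime) {x : G} (h : p ∣ orderOf x) :
    ∃ m k : ℕ, 0 < k ∧ orderOf (x ^ m) = p ^ k := by
  refine ⟨orderOf x / p ^ (orderOf x).factorization p, (orderOf x).factorization p, ?_, ?_⟩
  · exact hp.factorization_pos_of_dvd (orderOf_pos x).ne' h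
  · have hd := Nat.ordProj_dvd (orderOf x) p
    rw [orderOf_pow, Nat.gcd_eq_right (Nat.div_dvd_of_dvd hd), Nat.div_div_self hd (orderOf_pos x).ne']

/-- A nilpotent group has a central element of every prime order dividing its order. -/
theorem exists_center_order {H : Subgroup G} (hH : Group.IsNilpotent H) {p : ℕ} (hp : p.Prime)
    (h : p ∣ Nat.card H) : ∃ v ∈ H, orderOf v = p ∧ ∀ w ∈ H, Commute v w := by
  haveI := Fact.mk hp
  haveI := hH
  obtain ⟨P⟩ := (inferInstance : Nonempty (Sylow p H))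
  haveI : (P : Subgroup H).Normal :=
    Sylow.normal_of_normalizerCondition Group.normalizerCondition_of_isNilpotent P
  obtain ⟨⟨z, hz⟩, hz1'⟩ :=
    ne_bot_iff_exists_ne_one.1 (Cores.inf_center_ne_bot (P : Subgroup H) (P.ne_bot_of_dvd_card h))
  have hz1 : z ≠ 1 := fun e => hz1' (Subtype.ext e)
  obtain ⟨k, hk⟩ := P.isPGroup' ⟨z, hz.1⟩
  have hk' : z ^ p ^ k = 1 := congrArg Subtype.val hk
  obtain ⟨j, -, hj⟩ := (Nat.dvd_prime_pow hp).1 (orderOf_dvd_of_pow_eq_one hk')
  have hj0 : j ≠ 0 := fun e => hz1 (orderOf_eq_one_iff.1 (by simpa [e] using hj))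
  refine ⟨((z ^ p ^ (j - 1) : H) : G), SetLike.coe_mem _, ?_, fun w hw => ?_⟩
  · rw [orderOf_coe, orderOf_pow' _ (pow_ne_zero _ hp.ne_zero), hj,
      Nat.gcd_eq_right (pow_dvd_pow p (Nat.sub_le j 1)), Nat.pow_div (Nat.sub_le j 1) hp.pos,
      show j - (j - 1) = 1 by omega, pow_one]
  · have := congrArg Subtype.val (mem_center_iff.1 (pow_mem hz.2 (p ^ (j - 1))) ⟨w, hw⟩)
    exact this.symm

/-- A normal subgroup with no element outside commuting with a nontrivial element inside. -/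
theorem exists_frobenius_of_fpf {W : Subgroup G} [W.Normal] (h0 : W ≠ ⊥) (h1 : W ≠ ⊤)
    (hfpf : ∀ g ∉ W, ∀ w ∈ W, Commute g w → w = 1) : ∃ A : Subgroup G, Cfsg.IsFrobeniusComplement A := by
  have hco : (Nat.card W).Coprime W.index := by
    refine Nat.coprime_of_dvd fun r hr hrW hri => ?_
    haveI := Fact.mk hr
    obtain ⟨x, hx⟩ := exists_prime_orderOf_dvd_card' (G := W) r hrW
    have hxG : orderOf (x : G) = r := by rw [orderOf_coe, hx]
    obtain ⟨P, hP⟩ := (IsPGroup.of_card (G := zpowers (x : G)) (n := 1)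
      (by rw [Nat.card_zpowers, hxG, pow_one])).exists_le_sylow
    obtain ⟨g, hgP, hgW⟩ := SetLike.not_le_iff_exists.1
      fun h : (P : Subgroup G) ≤ W => P.not_dvd_index (hri.trans (index_dvd_of_le h))
    have hne : W.subgroupOf (P : Subgroup G) ≠ ⊥ := fun e => by
      have : (⟨x, hP (mem_zpowers _)⟩ : (P : Subgroup G)) ∈ W.subgroupOf (P : Subgroup G) := x.2
      rw [e, mem_bot] at this
      rw [show (x : G) = 1 from congrArg Subtype.val this, orderOf_one] at hxG
      exact hr.one_lt.ne hxG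
    obtain ⟨z, hz, hzc, hzo⟩ := PGroup.exists_central_order_p P.isPGroup' hne
    have h1 := hfpf g hgW z hz (congrArg Subtype.val (mem_center_iff.1 hzc ⟨g, hgP⟩))
    rw [show z = 1 from Subtype.ext h1, orderOf_one] at hzo
    exact hr.one_lt.ne hzo
  obtain ⟨A, hA⟩ := exists_right_complement'_of_coprime hco
  refine ⟨A, Frobenius.FPF.isFrobeniusComplement hA h0 (fun e => h1 ?_) ?_⟩
  · subst e
    exact isComplement'_bot_right.1 hA
  · intro a ha ha1 w hw hc
    refine hfpf a (fun haW => ha1 ?_) w hw hc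
    exact mem_bot.1 (hA.disjoint.le_bot ⟨haW, ha⟩)

/-- The central elements of `H` of order dividing `p`. -/
def omegaZ (H : Subgroup G) (p : ℕ) : Subgroup G where
  carrier := {v | v ∈ H ∧ v ^ p = 1 ∧ ∀ w ∈ H, Commute v w}
  mul_mem' {a b} ha hb := ⟨mul_mem ha.1 hb.1,
    by rw [(ha.2.2 b hb.1).mul_pow, ha.2.1, hb.2.1, mul_one],
    fun w hw => (ha.2.2 w hw).mul_left (hb.2.2 w hw)⟩
  one_mem' := ⟨one_mem _, one_pow _, fun w _ => Commute.one_left w⟩
  inv_mem' {a} ha := ⟨inv_mem ha.1, by rw [inv_pow, ha.2.1, inv_one],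
    fun w hw => (ha.2.2 w hw).inv_left⟩

omit [Finite G] in
theorem mem_omegaZ {H : Subgroup G} {p : ℕ} {v : G} :
    v ∈ omegaZ H p ↔ v ∈ H ∧ v ^ p = 1 ∧ ∀ w ∈ H, Commute v w := Iff.rfl

omit [Finite G] in
theorem conj_mem_omegaZ {H : Subgroup G} {p : ℕ} {g v : G} (hg : g ∈ normalizer (H : Set G))
    (hv : v ∈ omegaZ H p) : g * v * g⁻¹ ∈ omegaZ H p :=
  ⟨(mem_normalizer_iff.1 hg v).1 hv.1, by rw [conj_pow, hv.2.1, mul_one, mul_inv_cancel], fun w hw => by
    have hw' : g⁻¹ * w * g⁻¹⁻¹ ∈ H := (mem_normalizer_iff.1 (inv_mem hg) w).1 hw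
    have := (Commute.conj_iff g).2 (hv.2.2 _ hw')
    simpa [mul_assoc] using this⟩

instance omegaZ_comm (H : Subgroup G) (p : ℕ) : IsMulCommutative (omegaZ H p) :=
  ⟨⟨fun a b => Subtype.ext (a.2.2.2 b b.2.1)⟩⟩

instance omegaZ_normal (H : Subgroup G) [H.Normal] (p : ℕ) : (omegaZ H p).Normal :=
  ⟨fun v hv g => conj_mem_omegaZ (by rw [normalizer_eq_top]; trivial) hv⟩

theorem exists_omegaZ {H : Subgroup G} (hH : Group.IsNilpotent H) {p : ℕ} (hp : p.Prime)
    (h : p ∣ Nat.card H) : ∃ v ∈ omegaZ H p, orderOf v = p := by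
  obtain ⟨v, hv, hvo, hvc⟩ := exists_center_order hH hp h
  exact ⟨v, ⟨hv, by rw [← hvo, pow_orderOf_eq_one], hvc⟩, hvo⟩

namespace Part

variable (P : Part G)

theorem comm_mem {z v : G} (hz : z ≠ 1) (hv : v ∈ normalizer (P.comp z : Set G)) :
    z * v * z⁻¹ * v⁻¹ ∈ P.comp z := by
  have := mul_mem (P.mem hz) (P.conj_mem hv (inv_mem (P.mem hz)))
  simpa [mul_assoc] using this

theorem isNilpotent_of_commute {x y h : G} (hx : x ≠ 1) (hy : y ∈ normalizer (P.comp x : Set G))
    (hyn : y ∉ P.comp x) (hh : h ∈ P.comp x) (hh1 : h ≠ 1) (hc : Commute y h) :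
    Group.IsNilpotent (P.comp x) ∧ (orderOf y).Prime ∧ orderOf y = orderOf h := by
  have hy1 : y ≠ 1 := fun e => hyn (e ▸ one_mem _)
  obtain ⟨he, hprime⟩ := (P.mem_or_eq hh1 hy1 hc.symm).resolve_left
    fun h' => hyn (P.eq_of_mem hx hh1 hh ▸ h')
  refine ⟨?_, he ▸ hprime, he.symm⟩
  set H := P.comp x
  set p := orderOf y
  have hp : p.Prime := he ▸ hprime
  set X := H ⊔ zpowers y
  have hHX : H ≤ X := le_sup_left
  have hXN : X ≤ normalizer (H : Set G) := sup_le le_normalizer (zpowers_le.2 hy)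
  haveI : (H.subgroupOf X).Normal := Cores.subgroupOf_normal_of_le_normalizer hXN
  set q := QuotientGroup.mk' (H.subgroupOf X)
  set yX : X := ⟨y, (le_sup_right : zpowers y ≤ X) (mem_zpowers y)⟩
  have htop : (⊤ : Subgroup (X ⧸ H.subgroupOf X)) = zpowers (q yX) := by
    refine le_antisymm ?_ le_top
    rw [← map_top_of_surjective q (QuotientGroup.mk'_surjective _)]
    have hle : X ≤ ((zpowers (q yX)).comap q).map X.subtype := sup_le
      (fun a ha => ⟨⟨a, hHX ha⟩, by
        show q _ ∈ zpowers (q yX)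
        rw [show q ⟨a, hHX ha⟩ = 1 from (QuotientGroup.eq_one_iff (N := H.subgroupOf X) _).2 ha]
        exact one_mem _, rfl⟩)
      (zpowers_le.2 ⟨yX, mem_comap.2 (mem_zpowers _), rfl⟩)
    rintro _ ⟨a, -, rfl⟩
    obtain ⟨b, hb, hba⟩ := hle a.2
    rw [← Subtype.ext hba]
    exact hb
  haveI := Fact.mk hp
  have hordq : orderOf (q yX) = p := by
    refine orderOf_eq_prime ?_ fun e => ?_
    · rw [← map_pow, show yX ^ p = 1 from Subtype.ext (pow_orderOf_eq_one y), map_one]
    · rw [QuotientGroup.mk'_apply, QuotientGroup.eq_one_iff] at e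
      exact hyn e
  have hcard : Nat.card (X ⧸ H.subgroupOf X) = p := by
    rw [← card_top, htop, Nat.card_zpowers, hordq]
  have hN := SplitAut.isNilpotent_of_split S4249.thompson (H.subgroupOf X) hp
    (by rw [index_eq_card, hcard]) fun z hz => by
      refine Subtype.ext ?_
      refine P.pow_eq_one_of_mem hx (show (z : G) ∉ H from hz) ?_
      have : q (z ^ p) = 1 := by rw [map_pow, ← hcard, pow_card_eq_one']
      rw [QuotientGroup.mk'_apply, QuotientGroup.eq_one_iff] at this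
      simpa [mem_subgroupOf] using this
  haveI := hN
  exact Group.nilpotent_of_mulEquiv (subgroupOfEquivOfLe hHX)

/-- Outside a nilpotent member whose order is divisible by `p`, the elements of its normaliser of
order divisible by `p` have order `p`. -/
theorem orderOf_eq_of_dvd {x : G} (hx : x ≠ 1) (hN : Group.IsNilpotent (P.comp x)) {p : ℕ}
    (hp : p.Prime) (hd : p ∣ Nat.card (P.comp x)) {z : G} (hz : z ∈ normalizer (P.comp x : Set G))
    (hzn : z ∉ P.comp x) (hzp : p ∣ orderOf z) : orderOf z = p := by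
  haveI := Fact.mk hp
  have hz1 : z ≠ 1 := fun e => hzn (e ▸ one_mem _)
  obtain ⟨m, k, hk, hy⟩ := exists_pPow hp hzp
  set y := z ^ m
  have hy1 : y ≠ 1 := fun e => by
    rw [e, orderOf_one] at hy
    exact (Nat.one_lt_pow hk.ne' hp.one_lt).ne hy
  have hyn : y ∉ P.comp x := fun h => hzn (P.eq_of_mem hx hy1 h ▸ P.pow hy1 ▸ P.mem hz1)
  -- a fixed point of `y` among the central elements of order dividing `p`
  let V : Subgroup G := omegaZ (P.comp x) p
  let S : Set G := {v | v ∈ V ∧ v ≠ 1}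
  obtain ⟨v, ⟨hvV, hv1⟩, hfix⟩ : ∃ v ∈ S, y * v * y⁻¹ = v := by
    have hA : IsPGroup p (zpowers y) := IsPGroup.of_card (n := k) (by rw [Nat.card_zpowers, hy])
    have hV : IsPGroup p V := fun v => ⟨1, Subtype.ext (by simpa using v.2.2.1)⟩
    obtain ⟨n, hn⟩ := hV.exists_card_eq
    obtain ⟨c, hc, hco⟩ := exists_omegaZ hN hp hd
    have hV2 : p ∣ Nat.card V := hco ▸ Subgroup.orderOf_dvd_natCard V hc
    have hS : ¬ p ∣ Nat.card S := by
      intro h
      have e : Nat.card S + 1 = Nat.card V := by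
        have hS' : S = (V : Set G) \ {1} := rfl
        rw [hS', Nat.card_coe_set_eq, Set.ncard_sdiff_singleton_add_one (one_mem V), ← Nat.card_coe_set_eq]
        rfl
      rw [← e] at hV2
      exact hp.not_dvd_one ((Nat.dvd_add_right h).1 hV2)
    obtain ⟨v, hv, hvf⟩ := Signalizer.exists_fixed_mem hA S hS fun a ha w hw =>
      ⟨conj_mem_omegaZ (zpowers_le.2 (pow_mem hz m) ha) hw.1, fun e => hw.2 (conj_eq_one_iff.1 e)⟩
    exact ⟨v, hv, hvf y (mem_zpowers y)⟩
  have hc : Commute y v := mul_inv_eq_iff_eq_mul.1 hfix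
  have hvo : orderOf v = p := orderOf_eq_prime hvV.2.1 hv1
  have hvn : v ∉ P.comp y := fun h => hyn (P.eq_of_mem hx hv1 hvV.1 ▸ (P.eq_of_mem hy1 hv1 h).symm ▸ P.mem hy1)
  have hvN : v ∈ normalizer (P.comp z : Set G) := by
    rw [← P.pow (x := z) (k := m) hy1]
    exact P.mem_normalizer_of_commute hy1 hc.symm
  have hzv : Commute z v := by
    have h1 := P.comm_mem hz1 hvN
    have h2 : z * v * z⁻¹ * v⁻¹ ∈ P.comp x := mul_mem (P.conj_mem hz hvV.1) (inv_mem hvV.1)
    by_contra hne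
    have hne' : z * v * z⁻¹ * v⁻¹ ≠ 1 := fun e => hne (mul_inv_eq_iff_eq_mul.1 (mul_inv_eq_one.1 e))
    exact hzn (P.eq_of_mem_mem hz1 hx hne' h1 h2 ▸ P.mem hz1)
  rcases P.mem_or_eq hz1 hv1 hzv with h | h
  · exact absurd (P.pow (x := z) (k := m) hy1 ▸ h) hvn
  · exact h.1.trans hvo

end Part

end Cfsg.Agent.PartCls
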