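/-
A partition and a normal abelian subgroup contained in no member.

Main results (namespace `Cfsg.Agent.PartCls`): `Part.abelian_normal` (`S₄`, Hughes or Frobenius).
-/
import Cfsg.Agent.Lib.PartitionClass.Iso
import Cfsg.Agent.Lib.PartitionClass.Local
import Cfsg.Agent.Lib.Involution.BaerSuzuki
import Cfsg.Agent.Lib.PSL2.Groups

set_option autoImplicit false

namespace Cfsg.Agent.PartCls

open Subgroup
open scoped IsMulCommutative

universe u

variable {G : Type u} [Group G] [Finite G]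

namespace Part

variable (P : Part G)

theorem not_le_comp {A : Subgroup G} [A.Normal] (hA0 : A ≠ ⊥) (hnn : ∀ x, x ≠ 1 → ¬ (P.comp x).Normal)
    {x : G} (hx : x ≠ 1) : ¬ A ≤ P.comp x := by
  intro hle
  obtain ⟨⟨a, ha⟩, ha1⟩ := ne_bot_iff_exists_ne_one.1 hA0
  have ha1' : a ≠ 1 := fun e => ha1 (Subtype.ext e)
  refine hnn x hx (normalizer_eq_top_iff.1 (eq_top_iff.2 fun g _ => ?_))
  exact P.mem_normalizer_of_conj_mem hx ha1' (hle ha) (hle (Subgroup.Normal.conj_mem inferInstance a ha g))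

variable {A : Subgroup G} [A.Normal] [IsMulCommutative A] (hA0 : A ≠ ⊥)
  (hnn : ∀ x, x ≠ 1 → ¬ (P.comp x).Normal)
include hA0 hnn

theorem exists_exponent : ∃ p : ℕ, p.Prime ∧ ∀ a ∈ A, a ≠ 1 → orderOf a = p := by
  obtain ⟨⟨a, ha⟩, ha1⟩ := ne_bot_iff_exists_ne_one.1 hA0
  have ha1' : a ≠ 1 := fun e => ha1 (Subtype.ext e)
  obtain ⟨b, hb, hbn⟩ := SetLike.not_le_iff_exists.1 (P.not_le_comp hA0 hnn ha1')
  have hb1 : b ≠ 1 := fun e => hbn (e ▸ one_mem _)
  have hc : ∀ c ∈ A, ∀ d ∈ A, Commute c d := fun c hc d hd =>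
    congrArg Subtype.val (mul_comm (⟨c, hc⟩ : A) ⟨d, hd⟩)
  obtain ⟨hab, hp⟩ := (P.mem_or_eq ha1' hb1 (hc a ha b hb)).resolve_left hbn
  refine ⟨orderOf a, hp, fun c hcA hc1 => ?_⟩
  rcases P.mem_or_eq ha1' hc1 (hc a ha c hcA) with h | h
  · rcases P.mem_or_eq hc1 hb1 (hc c hcA b hb) with h' | h'
    · exact absurd (P.eq_of_mem ha1' hc1 h ▸ h') hbn
    · exact h'.1.trans hab.symm
  · exact h.1.symm

variable {p : ℕ} (hp : p.Prime) (hexp : ∀ a ∈ A, a ≠ 1 → orderOf a = p)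
include hp hexp

theorem pow_exp {a : G} (ha : a ∈ A) : a ^ p = 1 := by
  by_cases h1 : a = 1
  · rw [h1, one_pow]
  · rw [← hexp a ha h1, pow_orderOf_eq_one]

theorem isPGroup_A : IsPGroup p A := fun a =>
  ⟨1, Subtype.ext (by rw [SubgroupClass.coe_pow, pow_one, P.pow_exp hA0 hnn hp hexp a.2]; rfl)⟩

/-- An element of order a proper multiple of `p` lies in a member meeting `A`. -/
theorem comp_meets {x : G} (hd : p ∣ orderOf x) (hne : orderOf x ≠ p) :
    ∃ v ∈ A, v ≠ 1 ∧ v ∈ P.comp x := by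
  haveI := Fact.mk hp
  have hx1 : x ≠ 1 := fun e => hp.not_dvd_one (by rwa [e, orderOf_one] at hd)
  obtain ⟨m, k, hk, hy⟩ := exists_pPow hp hd
  have hy1 : x ^ m ≠ 1 := fun e => by
    rw [e, orderOf_one] at hy
    exact (Nat.one_lt_pow hk.ne' hp.one_lt).ne hy
  obtain ⟨n, hn⟩ := (P.isPGroup_A hA0 hnn hp hexp).exists_card_eq
  have hn0 : n ≠ 0 := fun e => hA0 (card_eq_one.1 (by rw [hn, e, pow_zero]))
  obtain ⟨v, ⟨hv, hv1⟩, hfix⟩ := Signalizer.exists_fixed_mem
    (IsPGroup.of_card (G := zpowers (x ^ m)) (n := k) (by rw [Nat.card_zpowers, hy]))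
    {v | v ∈ A ∧ v ≠ 1} (by
      have e : {v : G | v ∈ A ∧ v ≠ 1} = (A : Set G) \ {1} := rfl
      intro h
      have h1 : Nat.card ({v : G | v ∈ A ∧ v ≠ 1} : Set G) + 1 = Nat.card A := by
        rw [e, Nat.card_coe_set_eq, Set.ncard_sdiff_singleton_add_one (one_mem A), ← Nat.card_coe_set_eq]
        rfl
      have h2 : p ∣ Nat.card A := hn ▸ dvd_pow_self p hn0
      rw [← h1] at h2
      exact hp.not_dvd_one ((Nat.dvd_add_right h).1 h2))
    (fun a _ v hv => ⟨Subgroup.Normal.conj_mem inferInstance v hv.1 a, fun e => hv.2 (conj_eq_one_iff.1 e)⟩)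
  have hc : Commute (x ^ m) v := mul_inv_eq_iff_eq_mul.1 (hfix _ (mem_zpowers _))
  by_cases hvx : v ∈ P.comp x
  · exact ⟨v, hv, hv1, hvx⟩
  have hvN : v ∈ normalizer (P.comp x : Set G) := by
    rw [← P.pow (x := x) (k := m) hy1]
    exact P.mem_normalizer_of_commute hy1 hc.symm
  refine ⟨x * v * x⁻¹ * v⁻¹, mul_mem (Subgroup.Normal.conj_mem inferInstance v hv x) (inv_mem hv),
    fun e => ?_, P.comm_mem hx1 hvN⟩
  rcases P.mem_or_eq hx1 hv1 (mul_inv_eq_iff_eq_mul.1 (mul_inv_eq_one.1 e)) with h | h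
  · exact hvx h
  · exact hne (h.1.trans (hexp v hv hv1))

/-- The `p`th power of an element of a member meeting `A` is given by the norm of any element of
`A` outside it. -/
theorem pow_eq_norm {c h a : G} (hc : c ∈ A) (hc1 : c ≠ 1) (hh : h ∈ P.comp c) (ha : a ∈ A)
    (han : a ∉ P.comp c) :
    (((∏ i ∈ Finset.range p, MulAut.conjNormal (h ^ i) ⟨a, ha⟩ : A)) : G) = (h ^ p)⁻¹ := by
  have hN : a ∈ normalizer (P.comp c : Set G) :=
    P.mem_normalizer_of_commute hc1 (congrArg Subtype.val (mul_comm (⟨a, ha⟩ : A) ⟨c, hc⟩))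
  have hmem : (a * h) ^ p ∈ P.comp c := by
    set X := normalizer (P.comp c : Set G)
    haveI : ((P.comp c).subgroupOf X).Normal := Cores.subgroupOf_normal_of_le_normalizer le_rfl
    set aX : X := ⟨a, hN⟩
    set hX : X := ⟨h, le_normalizer hh⟩
    have e : QuotientGroup.mk' ((P.comp c).subgroupOf X) ((aX * hX) ^ p) = 1 := by
      rw [map_pow, map_mul, show QuotientGroup.mk' ((P.comp c).subgroupOf X) hX = 1 from
        (QuotientGroup.eq_one_iff (N := (P.comp c).subgroupOf X) _).2 hh, mul_one, ← map_pow,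
        show aX ^ p = 1 from Subtype.ext (P.pow_exp hA0 hnn hp hexp ha), map_one]
    exact (QuotientGroup.eq_one_iff (N := (P.comp c).subgroupOf X) _).1 e
  have han' : a * h ∉ P.comp c := fun h' => han ((mul_mem_cancel_right hh).1 h')
  rw [coe_prod_conj, P.pow_eq_one_of_mem hc1 han' hmem, one_mul]

theorem pow_mem {c h : G} (hc : c ∈ A) (hc1 : c ≠ 1) (hh : h ∈ P.comp c) : h ^ p ∈ A := by
  obtain ⟨a, ha, han⟩ := SetLike.not_le_iff_exists.1 (P.not_le_comp hA0 hnn hc1)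
  rw [← inv_mem_iff, ← P.pow_eq_norm hA0 hnn hp hexp hc hc1 hh ha han]
  exact SetLike.coe_mem _

/-- An element of order a proper multiple of `p`: `p = 2` and it has order four. -/
theorem exceptional {x : G} (hd : p ∣ orderOf x) (hne : orderOf x ≠ p) :
    p = 2 ∧ orderOf x = 4 ∧ x ^ 2 ∈ A ∧ x ^ 2 ≠ 1 ∧
      ∀ a ∈ A, a ∉ P.comp x → x * a * x⁻¹ = a * x ^ 2 := by
  haveI := Fact.mk hp
  have hx1 : x ≠ 1 := fun e => hp.not_dvd_one (by rwa [e, orderOf_one] at hd)
  obtain ⟨v, hv, hv1, hvx⟩ := P.comp_meets hA0 hnn hp hexp hd hne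
  have hcomp := P.eq_of_mem hx1 hv1 hvx
  have hxc : x ∈ P.comp v := hcomp ▸ P.mem hx1
  have hxA := P.pow_mem hA0 hnn hp hexp hv hv1 hxc
  have hxp : x ^ p ≠ 1 := fun e => hne (orderOf_eq_prime e hx1)
  obtain ⟨a₀, ha₀, ha₀n⟩ := SetLike.not_le_iff_exists.1 (P.not_le_comp hA0 hnn hv1)
  have hp2 : p = 2 := by
    refine hp.eq_two_or_odd'.resolve_right fun hodd => hxp ?_
    have ha2n : a₀ * a₀ ∉ P.comp v := fun h => ha₀n (by
      obtain ⟨k, hk⟩ := hodd
      have : a₀ = (a₀ * a₀) ^ (k + 1) := by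
        rw [← pow_two, ← pow_mul, show 2 * (k + 1) = p + 1 by omega, pow_succ,
          P.pow_exp hA0 hnn hp hexp ha₀, one_mul]
      rw [this]
      exact Subgroup.pow_mem _ h _)
    have h1 := P.pow_eq_norm hA0 hnn hp hexp hv hv1 hxc (mul_mem ha₀ ha₀) ha2n
    rw [show (⟨a₀ * a₀, mul_mem ha₀ ha₀⟩ : A) = ⟨a₀, ha₀⟩ * ⟨a₀, ha₀⟩ from rfl] at h1
    simp only [map_mul, Finset.prod_mul_distrib, Subgroup.coe_mul] at h1
    rw [P.pow_eq_norm hA0 hnn hp hexp hv hv1 hxc ha₀ ha₀n] at h1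
    exact inv_eq_one.1 (mul_eq_left.1 h1)
  subst hp2
  have h4 : x ^ 4 = 1 := by rw [show 4 = 2 * 2 from rfl, pow_mul, P.pow_exp hA0 hnn hp hexp hxA]
  refine ⟨rfl, orderOf_eq_prime_pow (p := 2) (n := 1) (by rwa [pow_one]) h4, hxA, hxp, fun a ha han => ?_⟩
  have h := P.pow_eq_norm hA0 hnn hp hexp hv hv1 hxc ha (hcomp.symm ▸ han)
  rw [Finset.prod_range_succ, Finset.prod_range_one, Subgroup.coe_mul, MulAut.conjNormal_apply,
    MulAut.conjNormal_apply, pow_zero, inv_one, mul_one, one_mul, pow_one] at h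
  have e := eq_inv_mul_of_mul_eq h
  rw [e, show a⁻¹ = a from inv_eq_of_mul_eq_one_right (by rw [← pow_two, P.pow_exp hA0 hnn hp hexp ha])]
  congr 1
  exact inv_eq_of_mul_eq_one_right (by rw [← pow_add]; exact h4)

theorem hughes_or_frobenius_of_iso (hI : Iso p G) :
    (∃ p : ℕ, p.Prime ∧ Subgroup.closure {g : G | g ^ p ≠ 1} ≠ ⊤) ∨
      ∃ A : Subgroup G, Cfsg.IsFrobeniusComplement A := by
  refine (hI.hughes_or_frobenius hp fun e => hA0 (le_bot_iff.1 (e ▸ ?_))).imp (fun h => ⟨p, hp, h⟩) id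
  exact Cores.le_pCore inferInstance (P.isPGroup_A hA0 hnn hp hexp)

/-- An exceptional element fixes a hyperplane. -/
theorem exceptional_hyperplane {x : G} (hd : p ∣ orderOf x) (hne : orderOf x ≠ p) :
    (A ⊓ P.comp x).relIndex A = 2 := by
  obtain ⟨rfl, -, -, hx2, hmove⟩ := P.exceptional hA0 hnn hp hexp hd hne
  have hx1 : x ≠ 1 := fun e => hx2 (by rw [e, one_pow])
  obtain ⟨a, ha, han⟩ := SetLike.not_le_iff_exists.1 (P.not_le_comp hA0 hnn hx1)
  rw [inf_relIndex_left]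
  refine index_eq_two_iff.2 ⟨⟨a, ha⟩, fun b => ?_⟩
  by_cases hb : (b : G) ∈ P.comp x
  · refine Or.inr ⟨hb, fun h => han ?_⟩
    exact (mul_mem_cancel_left hb).1 h
  · refine Or.inl ⟨?_, hb⟩
    by_contra hab
    have h1 := hmove _ (mul_mem b.2 ha) hab
    rw [show x * ((b : G) * a) * x⁻¹ = (x * (b : G) * x⁻¹) * (x * a * x⁻¹) by group, hmove _ b.2 hb,
      hmove a ha han] at h1
    exact hx2 (mul_right_cancel (b := (b : G) * a * x ^ 2) (by
      calc x ^ 2 * ((b : G) * a * x ^ 2) = (b : G) * x ^ 2 * (a * x ^ 2) := by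
            have h2 := P.exceptional hA0 hnn hp hexp hd hne
            have hc : ∀ c ∈ A, Commute (x ^ 2) c := fun c hc =>
              congrArg Subtype.val (mul_comm (⟨x ^ 2, h2.2.2.1⟩ : A) ⟨c, hc⟩)
            rw [← mul_assoc, ← mul_assoc, (hc _ b.2).eq]
            simp only [mul_assoc]
        _ = _ := by rw [h1, one_mul]))

omit hp hexp in
theorem sq_eq_one_of_centralizing (hexp : ∀ a ∈ A, a ≠ 1 → orderOf a = 2) {g : G}
    (hg : ∀ a ∈ A, Commute g a) : g * g = 1 := by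
  by_contra h
  have hg1 : g ≠ 1 := fun e => h (by rw [e, one_mul])
  refine P.not_le_comp hA0 hnn hg1 fun a ha => ?_
  by_cases ha1 : a = 1
  · exact ha1 ▸ one_mem _
  refine P.mem_of_order_ne hg1 ha1 (hg a ha) fun e => h ?_
  rw [← pow_two, ← hexp a ha ha1, ← e, pow_orderOf_eq_one]

end Part

/-- The exceptional case: the symmetric group of degree four. -/
theorem Part.equiv_permFour (P : Part G) {A : Subgroup G} [A.Normal] [IsMulCommutative A] (hA0 : A ≠ ⊥)
    (hnn : ∀ x, x ≠ 1 → ¬ (P.comp x).Normal) (hexp : ∀ a ∈ A, a ≠ 1 → orderOf a = 2)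
    (hA2 : A ≤ Cfsg.pCore 2 G) (hO : ∀ g ∈ Cfsg.pCore 2 G, ∀ a ∈ A, Commute g a) {x : G}
    (hd : 2 ∣ orderOf x) (hne : orderOf x ≠ 2) : Nonempty (G ≃* Equiv.Perm (Fin 4)) := by
  classical
  haveI := Fact.mk Nat.prime_two
  set O := Cfsg.pCore 2 G
  haveI : O.Normal := Cores.pCore_normal 2 G
  set q := QuotientGroup.mk' O
  obtain ⟨-, hx4, hxA, hx2, hmove⟩ := P.exceptional hA0 hnn Nat.prime_two hexp hd hne
  have hsq : ∀ g : G, (∀ a ∈ A, Commute g a) → g * g = 1 := fun g hg =>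
    P.sq_eq_one_of_centralizing hA0 hnn hexp hg
  have hxO : x ∉ O := fun h => hx2 (by rw [pow_two]; exact hsq x (hO x h))
  have hqx : orderOf (q x) = 2 := by
    refine Involution.orderOf_of_sq ?_ fun e => hxO ((QuotientGroup.eq_one_iff x).1 e)
    rw [← map_mul, ← pow_two]
    exact (QuotientGroup.eq_one_iff _).2 (hA2 hxA)
  obtain ⟨w, hw1, hwo, hwi⟩ := Involution.exists_inverted_odd hqx fun N hN hN2 hmem => by
    have h : N ≤ Cfsg.pCore 2 (G ⧸ O) := Cores.le_pCore hN hN2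
    rw [Cores.pCore_quotient_self 2 G] at h
    exact Involution.ne_one hqx (mem_bot.1 (h hmem))
  obtain ⟨h, rfl⟩ := QuotientGroup.mk'_surjective O w
  set k := h * x * h⁻¹ with hk
  have hqxk : q (x * k) = (q h)⁻¹ ^ 2 := by
    rw [hk, map_mul, map_mul, map_mul, map_inv, show q x * (q h * q x * (q h)⁻¹) =
      (q x * q h * (q x)⁻¹) * (q x * q x) * (q h)⁻¹ by group, hwi, Involution.mul_self hqx, mul_one, pow_two]
  have hxk : q (x * k) ≠ 1 := by
    rw [hqxk, inv_pow, inv_ne_one]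
    intro e
    obtain ⟨j, hj⟩ := hwo
    have := pow_orderOf_eq_one (q h)
    rw [hj, pow_succ, pow_mul, e, one_pow, one_mul] at this
    exact hw1 this
  obtain ⟨i, m, hm, hn⟩ := Nat.exists_eq_two_pow_mul_odd (orderOf_pos (x * k)).ne'
  set z := (x * k) ^ 2 ^ i with hz
  have hzo : orderOf z = m := by
    rw [hz, orderOf_pow, hn, Nat.gcd_eq_right (dvd_mul_right _ _),
      Nat.mul_div_cancel_left _ (by positivity)]
  have hz1 : z ≠ 1 := by
    intro e
    have hm1 : m = 1 := by rw [← hzo, e, orderOf_one]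
    have hdiv := orderOf_map_dvd q (x * k)
    rw [hn, hm1, mul_one, hqxk] at hdiv
    have hod : Odd (orderOf ((q h)⁻¹ ^ 2)) := hwo.of_dvd_nat ((orderOf_pow_dvd 2).trans (by rw [orderOf_inv]))
    obtain ⟨j, -, hj⟩ := (Nat.dvd_prime_pow Nat.prime_two).1 hdiv
    rcases j with - | j
    · exact hxk (orderOf_eq_one_iff.1 (by rw [hqxk, hj, pow_zero]))
    · rw [hj] at hod
      exact (Nat.not_even_iff_odd.2 hod) ⟨2 ^ j, by ring⟩
  have hzne : orderOf z ≠ 2 := by
    rw [hzo]; intro e; rw [e] at hm; exact (Nat.not_even_iff_odd.2 hm) even_two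
  -- a member meeting `A` has exponent four
  have hzA : ∀ v ∈ A, v ≠ 1 → z ∉ P.comp v := by
    intro v hv hv1 hzv
    have h2 : z ^ 2 ∈ A := P.pow_mem hA0 hnn Nat.prime_two hexp hv hv1 hzv
    have h4 := orderOf_dvd_of_pow_eq_one (show z ^ 4 = 1 by
      rw [show 4 = 2 * 2 from rfl, pow_mul, P.pow_exp hA0 hnn Nat.prime_two hexp h2])
    rw [hzo] at h4
    have hm4 := Nat.le_of_dvd (by norm_num) h4
    have : m ≠ 1 := fun e => hz1 (orderOf_eq_one_iff.1 (hzo.trans e))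
    obtain ⟨j, rfl⟩ := hm
    have : j = 1 := by omega
    subst this
    norm_num at h4
  have hx1 : x ≠ 1 := fun e => hx2 (by rw [e, one_pow])
  have hfix : ∀ g : G, 2 ∣ orderOf g → orderOf g ≠ 2 → ∀ a ∈ A, a ∈ P.comp g → Commute g a := by
    intro g hg hg' a ha hag
    obtain ⟨-, -, hgA, hg2, hgm⟩ := P.exceptional hA0 hnn Nat.prime_two hexp hg hg'
    have hg1 : g ≠ 1 := fun e => hg2 (by rw [e, one_pow])
    obtain ⟨b, hb, hbn⟩ := SetLike.not_le_iff_exists.1 (P.not_le_comp hA0 hnn hg1)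
    have hab : a * b ∉ P.comp g := fun h => hbn ((mul_mem_cancel_left hag).1 h)
    have h1 := hgm _ (mul_mem ha hb) hab
    rw [show g * (a * b) * g⁻¹ = (g * a * g⁻¹) * (g * b * g⁻¹) by group, hgm b hb hbn,
      mul_assoc a b, mul_left_inj] at h1
    exact mul_inv_eq_iff_eq_mul.1 h1
  have hko : orderOf k = orderOf x := Involution.orderOf_conj h x
  have hinter : ∀ v ∈ A, v ∈ P.comp x → v ∈ P.comp k → v = 1 := by
    intro v hv hvx hvk
    by_contra hv1
    have hcz : Commute z v := ((hfix x hd hne v hv hvx).mul_left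
      (hfix k (hko ▸ hd) (hko ▸ hne) v hv hvk)).pow_left _
    exact hzA v hv hv1 (P.mem_of_order_ne hv1 hz1 hcz.symm (by rw [hexp v hv hv1]; exact fun e => hzne e.symm))
  have hidx := P.exceptional_hyperplane hA0 hnn Nat.prime_two hexp hd hne
  have hidk := P.exceptional_hyperplane hA0 hnn Nat.prime_two hexp (hko ▸ hd) (hko ▸ hne : orderOf k ≠ 2)
  obtain ⟨a₀, ha₀, ha₀n⟩ := SetLike.not_le_iff_exists.1 (P.not_le_comp hA0 hnn hx1)
  have hcardA : Nat.card A = 4 := by
    have h1 := relIndex_mul_relIndex (A ⊓ P.comp x ⊓ (A ⊓ P.comp k)) (A ⊓ P.comp x) A inf_le_left inf_le_left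
    have hb : A ⊓ P.comp x ⊓ (A ⊓ P.comp k) = ⊥ := (eq_bot_iff_forall _).2 fun v hv =>
      hinter v hv.1.1 hv.1.2 hv.2.2
    rw [hb, relIndex_bot_left, relIndex_bot_left, hidx] at h1
    have h2 : Nat.card (A ⊓ P.comp x : Subgroup G) ≤ 2 := by
      have h3 : (A ⊓ P.comp k).relIndex (A ⊓ P.comp x) ≤ 2 := by
        have := Subgroup.relIndex_le_of_le_right (H := A ⊓ P.comp k) (K := A ⊓ P.comp x) (L := A)
          inf_le_left (by rw [hidk]; norm_num)
        rwa [hidk] at this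
      rw [← relIndex_bot_left, ← hb, inf_comm (A ⊓ P.comp x), inf_relIndex_right]
      exact h3
    have hlt : 1 < Nat.card (A ⊓ P.comp x : Subgroup G) := by
      rw [one_lt_card_iff_ne_bot]
      intro e
      have h3 : x ^ 2 ∈ A ⊓ P.comp x := ⟨hxA, Subgroup.pow_mem _ (P.mem hx1) 2⟩
      rw [e] at h3
      exact hx2 (mem_bot.1 h3)
    rw [← h1]
    omega
  -- the action on `A`
  set φ := MulAut.conjNormal (H := A) (G := G) with hφ
  set E := φ.ker with hE
  have hmemE : ∀ g, g ∈ E ↔ ∀ a ∈ A, Commute g a := by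
    intro g
    refine ⟨fun hg a ha => ?_, fun hg => MonoidHom.mem_ker.2 (MulEquiv.ext fun a => Subtype.ext ?_)⟩
    · have := congrArg Subtype.val (MulEquiv.congr_fun (MonoidHom.mem_ker.1 hg) ⟨a, ha⟩)
      rw [MulAut.conjNormal_apply] at this
      exact mul_inv_eq_iff_eq_mul.1 this
    · rw [MulAut.conjNormal_apply, (hg a a.2).eq, mul_inv_cancel_right]
      rfl
  have hxE : x ∉ E := fun h => hx2 (by rw [pow_two]; exact hsq x ((hmemE x).1 h))
  have hzE : z ∉ E := fun h => hzne (Involution.orderOf_of_sq (hsq z ((hmemE z).1 h)) hz1)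
  have hinv : ∀ e ∈ E, e⁻¹ = e := fun e he => inv_eq_of_mul_eq_one_right (hsq e ((hmemE e).1 he))
  have hEcomm : ∀ e ∈ E, ∀ f ∈ E, e * f = f * e := fun e he f hf => by
    conv_lhs => rw [← hinv _ (mul_mem he hf), mul_inv_rev, hinv e he, hinv f hf]
  have hdiv : E.index ∣ 6 := by
    have hcard : Nat.card {a : A // a ≠ 1} = 3 := by
      haveI := Fintype.ofFinite A
      rw [Nat.card_eq_fintype_card, Fintype.card_subtype_compl, Fintype.card_subtype_eq,
        ← Nat.card_eq_fintype_card, hcardA]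
    let ψ : φ.range →* Equiv.Perm {a : A // a ≠ 1} :=
      { toFun := fun f => Equiv.Perm.subtypePerm f.1.toEquiv fun a => by simp
        map_one' := by ext; simp
        map_mul' := fun f g => by ext; simp }
    have hψ : Function.Injective ψ := by
      intro f g hfg
      refine Subtype.ext (MulEquiv.ext fun a => ?_)
      by_cases ha : a = 1
      · rw [ha, map_one, map_one]
      · exact congrArg Subtype.val (Equiv.congr_fun hfg ⟨a, ha⟩)
    have h1 := Subgroup.card_dvd_of_injective ψ hψ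
    rw [Nat.card_perm, hcard, ← Subgroup.index_ker φ] at h1
    simpa [Nat.factorial] using h1
  haveI : E.Normal := MonoidHom.normal_ker φ
  set r := QuotientGroup.mk' E
  have hrz : orderOf (r z) = 3 := by
    have h1 : orderOf (r z) ∣ 6 := (_root_.orderOf_dvd_natCard _).trans (by rw [← index_eq_card]; exact hdiv)
    have h2 : Odd (orderOf (r z)) := hm.of_dvd_nat (hzo ▸ orderOf_map_dvd r z)
    have h3 : orderOf (r z) ≠ 1 := fun e => hzE ((QuotientGroup.eq_one_iff z).1 (orderOf_eq_one_iff.1 e))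
    have h4 := Nat.le_of_dvd (by norm_num) h1
    obtain ⟨j, hj⟩ := h2
    interval_cases h5 : orderOf (r z) <;> omega
  have hrx : orderOf (r x) = 2 := by
    refine Involution.orderOf_of_sq ?_ fun e => hxE ((QuotientGroup.eq_one_iff x).1 e)
    rw [← map_mul, ← pow_two]
    exact (QuotientGroup.eq_one_iff _).2 ((hmemE _).2 fun a ha =>
      congrArg Subtype.val (mul_comm (⟨x ^ 2, hxA⟩ : A) ⟨a, ha⟩))
  have hindex : E.index = 6 := by
    refine Nat.dvd_antisymm hdiv ?_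
    rw [index_eq_card]
    exact (show 2 * 3 = 6 from rfl) ▸ Nat.Coprime.mul_dvd_of_dvd_of_dvd (by norm_num)
      (hrx ▸ _root_.orderOf_dvd_natCard _) (hrz ▸ _root_.orderOf_dvd_natCard _)
  have hz3 : z ^ 3 = 1 := by
    have h1 : z ^ 3 ∈ E := (QuotientGroup.eq_one_iff _).1 (by
      rw [← QuotientGroup.mk'_apply, map_pow, ← hrz, pow_orderOf_eq_one])
    have h2 := orderOf_dvd_of_pow_eq_one (show (z ^ 3) ^ 2 = 1 by rw [pow_two]; exact hsq _ ((hmemE _).1 h1))
    have h3 : orderOf (z ^ 3) ∣ m := hzo ▸ orderOf_pow_dvd 3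
    have h4 := Nat.dvd_gcd h3 h2
    rw [(Nat.coprime_two_right.2 hm).gcd_eq_one] at h4
    exact orderOf_eq_one_iff.1 (Nat.dvd_one.1 h4)
  have hfpf : ∀ e ∈ E, Commute z e → e = 1 := by
    intro e he hc
    by_contra he1
    have hez : e ∈ P.comp z := P.mem_of_order_ne hz1 he1 hc (by
      rw [Involution.orderOf_of_sq (hsq e ((hmemE e).1 he)) he1]; exact hzne)
    refine hzE ((hmemE z).2 fun a ha => ?_)
    by_contra hna
    have haN : a ∈ normalizer (P.comp z : Set G) := by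
      rw [← P.eq_of_mem hz1 he1 hez]
      exact P.mem_normalizer_of_commute he1 ((hmemE e).1 he a ha).symm
    have h1 := P.comm_mem hz1 haN
    have h2 : z * a * z⁻¹ * a⁻¹ ∈ A := mul_mem (Subgroup.Normal.conj_mem inferInstance a ha z) (inv_mem ha)
    have h3 : z * a * z⁻¹ * a⁻¹ ≠ 1 := fun e => hna (mul_inv_eq_iff_eq_mul.1 (mul_inv_eq_one.1 e))
    exact hzA _ h2 h3 (P.eq_of_mem hz1 h3 h1 ▸ P.mem hz1)
  have hexc : ∀ g : G, 2 ∣ orderOf g → g * g ∈ A := by
    intro g hg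
    by_cases h : orderOf g = 2
    · rw [Involution.mul_self h]; exact one_mem _
    · rw [← pow_two]; exact (P.exceptional hA0 hnn Nat.prime_two hexp hg h).2.2.1
  set s := QuotientGroup.mk' A
  have hcommA : ∀ g : G, orderOf (r g) = 2 → g * g ∈ A → ∀ e ∈ E, Commute (s g) (s e) := by
    intro g hg hgA e he
    have h1 : g * e * (g * e) ∈ A := hexc _ (by
      have : r (g * e) = r g := by
        rw [map_mul, show r e = 1 from (QuotientGroup.eq_one_iff e).2 he, mul_one]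
      exact hg ▸ this ▸ orderOf_map_dvd r (g * e))
    have h2 : s (g * e * (g * e)) = 1 := (QuotientGroup.eq_one_iff _).2 h1
    have h3 : s g * s g = 1 := by rw [← map_mul]; exact (QuotientGroup.eq_one_iff _).2 hgA
    have h4 : s e * s e = 1 := by rw [← map_mul, hsq e ((hmemE e).1 he), map_one]
    rw [map_mul, map_mul] at h2
    show s g * s e = s e * s g
    calc s g * s e = (s g * s e * (s g * s e)) * ((s e)⁻¹ * (s g)⁻¹) := by group
      _ = (s e)⁻¹ * (s g)⁻¹ := by rw [h2, one_mul]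
      _ = s e * s g := by rw [inv_eq_of_mul_eq_one_right h3, inv_eq_of_mul_eq_one_right h4]
  have hrk : orderOf (r k) = 2 := by rw [hk, map_mul, map_mul, map_inv, Involution.orderOf_conj, hrx]
  have hsz : ∀ e ∈ E, Commute (s z) (s e) := fun e he => by
    rw [hz, map_pow, map_mul]
    exact ((hcommA x hrx (pow_two x ▸ hxA) e he).mul_left
      (hcommA k hrk (hexc k (hko ▸ hd)) e he)).pow_left _
  have hEA : E = A := by
    have hle : A ≤ E := fun a ha => (hmemE a).2 fun b hb =>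
      congrArg Subtype.val (mul_comm (⟨a, ha⟩ : A) ⟨b, hb⟩)
    refine (eq_of_le_of_card_ge hle ?_).symm
    refine Nat.card_le_card_of_injective (fun e : E => (⟨z * (e : G) * z⁻¹ * (e : G)⁻¹, ?_⟩ : A)) ?_
    · refine (QuotientGroup.eq_one_iff _).1 ?_
      show s (z * (e : G) * z⁻¹ * (e : G)⁻¹) = 1
      rw [map_mul, map_mul, map_mul, map_inv, map_inv, (hsz e e.2).eq, mul_inv_cancel_right, mul_inv_cancel]
    · intro e f hef
      have h1 : z * (e : G) * z⁻¹ * (e : G)⁻¹ = z * (f : G) * z⁻¹ * (f : G)⁻¹ := congrArg Subtype.val hef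
      refine Subtype.ext (inv_mul_eq_one.1 (hfpf ((f : G)⁻¹ * (e : G))
        (mul_mem (inv_mem f.2) e.2) (mul_inv_eq_iff_eq_mul.1 ?_))).symm
      calc z * ((f : G)⁻¹ * (e : G)) * z⁻¹
          = (z * (f : G) * z⁻¹)⁻¹ * (z * (e : G) * z⁻¹ * (e : G)⁻¹) * (e : G) := by group
        _ = (f : G)⁻¹ * (e : G) := by rw [h1]; group
  have hcard : Nat.card G = 24 := by rw [← E.index_mul_card, hindex, hEA, hcardA]
  refine PSL2.mulEquiv_permFour hcard (fun g => ?_) fun hsyl => ?_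
  · have h1 : orderOf g ∣ 24 := hcard ▸ _root_.orderOf_dvd_natCard g
    by_cases h2 : 2 ∣ orderOf g
    · by_cases h3 : orderOf g = 2
      · simp [h3]
      · simp [(P.exceptional hA0 hnn Nat.prime_two hexp h2 h3).2.1]
    · have h3 : orderOf g ∣ 3 := by
        refine (Nat.Coprime.dvd_of_dvd_mul_left (k := orderOf g) (n := 3) (m := 8) ?_ h1)
        exact Nat.Coprime.pow_right 3 (Nat.coprime_two_right.2 (Nat.not_even_iff_odd.1
          fun h => h2 (even_iff_two_dvd.1 h)))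
      rcases (Nat.dvd_prime Nat.prime_three).1 h3 with h | h <;> simp [h]
  · haveI := Fact.mk Nat.prime_three
    obtain ⟨R⟩ := (inferInstance : Nonempty (Sylow 3 G))
    haveI : Subsingleton (Sylow 3 G) := (Nat.card_eq_one_iff_unique.1 hsyl).1
    haveI : (R : Subgroup G).Normal := Sylow.normal_of_subsingleton R
    obtain ⟨R', hR'⟩ := (IsPGroup.of_card (G := zpowers z) (n := 1) (by
      rw [Nat.card_zpowers, orderOf_eq_prime hz3 hz1, pow_one])).exists_le_sylow
    have hzR : z ∈ (R : Subgroup G) := Subsingleton.elim R' R ▸ hR' (mem_zpowers z)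
    refine hzE ((hmemE z).2 fun a ha => ?_)
    have h1 : z * a * z⁻¹ * a⁻¹ ∈ A := mul_mem (Subgroup.Normal.conj_mem inferInstance a ha z) (inv_mem ha)
    have h2 : z * a * z⁻¹ * a⁻¹ ∈ (R : Subgroup G) := by
      rw [show z * a * z⁻¹ * a⁻¹ = z * (a * z⁻¹ * a⁻¹) by group]
      exact mul_mem hzR (Subgroup.Normal.conj_mem inferInstance _ (inv_mem hzR) a)
    have hco : Nat.Coprime (Nat.card A) (Nat.card (R : Subgroup G)) := by
      obtain ⟨j, hj⟩ := R.isPGroup'.exists_card_eq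
      rw [hcardA, hj]
      exact Nat.Coprime.pow_right j (by norm_num)
    have h3 : z * a * z⁻¹ * a⁻¹ = 1 :=
      mem_bot.1 ((inf_eq_bot_of_coprime hco).le ⟨h1, h2⟩)
    exact mul_inv_eq_iff_eq_mul.1 (mul_inv_eq_one.1 h3)

/-- A normal abelian subgroup and no normal member. -/
theorem Part.abelian_normal (P : Part G) (hnn : ∀ x, x ≠ 1 → ¬ (P.comp x).Normal) {A : Subgroup G}
    [A.Normal] [IsMulCommutative A] (hA0 : A ≠ ⊥) :
    Nonempty (G ≃* Equiv.Perm (Fin 4)) ∨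
      (∃ p : ℕ, p.Prime ∧ Subgroup.closure {g : G | g ^ p ≠ 1} ≠ ⊤) ∨
      ∃ A : Subgroup G, Cfsg.IsFrobeniusComplement A := by
  obtain ⟨p, hp, hexp⟩ := P.exists_exponent hA0 hnn
  by_cases hI : Iso p G
  · exact Or.inr (P.hughes_or_frobenius_of_iso hA0 hnn hp hexp hI)
  simp only [Iso, not_forall] at hI
  obtain ⟨x, hd, hne⟩ := hI
  obtain ⟨rfl, -⟩ := P.exceptional hA0 hnn hp hexp hd hne
  haveI := Fact.mk Nat.prime_two
  set O := Cfsg.pCore 2 G
  haveI : O.Normal := Cores.pCore_normal 2 G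
  have hAO : A ≤ O := Cores.le_pCore inferInstance (P.isPGroup_A hA0 hnn hp hexp)
  have hO2 : IsPGroup 2 O := Cores.isPGroup_pCore 2 G
  haveI : Nontrivial O := (nontrivial_iff_ne_bot O).2 fun e => hA0 (le_bot_iff.1 (e ▸ hAO))
  haveI := hO2.center_nontrivial
  set Z := (center O).map O.subtype
  haveI : Z.Normal := Cores.map_subtype_normal_of_characteristic O (center O)
  have hZ0 : Z ≠ ⊥ := fun e => (nontrivial_iff_ne_bot (center O)).1 inferInstance
    ((map_eq_bot_iff_of_injective _ O.subtype_injective).1 e)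
  obtain ⟨p, hp', hexp'⟩ := P.exists_exponent (A := Z) hZ0 hnn
  have hp2 : p = 2 := by
    obtain ⟨⟨a, ha⟩, ha1⟩ := ne_bot_iff_exists_ne_one.1 hZ0
    have ha1' : a ≠ 1 := fun e => ha1 (Subtype.ext e)
    obtain ⟨k, hk⟩ := hO2 ⟨a, map_subtype_le _ ha⟩
    have h := orderOf_dvd_of_pow_eq_one (congrArg Subtype.val hk : a ^ 2 ^ k = 1)
    rw [hexp' a ha ha1'] at h
    exact (Nat.prime_dvd_prime_iff_eq hp' Nat.prime_two).1 (hp'.dvd_of_dvd_pow h)
  subst hp2
  refine Or.inl (P.equiv_permFour (A := Z) hZ0 hnn hexp' (map_subtype_le _) (fun g hg a ha => ?_) hd hne)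
  obtain ⟨c, hc, rfl⟩ := ha
  exact congrArg Subtype.val (mem_center_iff.1 hc ⟨g, hg⟩)

end Cfsg.Agent.PartCls
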