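/-
A central involution whose centraliser leaves its member, the member not being of exponent two.

Main results (namespace `Cfsg.Agent.PartCls`): `exists_sylow_normal`, `Split` (the hypotheses),
`Split.normalizer_eq`, `Split.unique_involution`, `Split.conclusion`, `Split.index_le`.
-/
import Cfsg.Agent.Lib.PartitionClass.Local
import Cfsg.Agent.Lib.InvertedOdd.Semisimple
import Cfsg.Agent.Lib.OddOrderTheorem.Basic
import Cfsg.Agent.Lib.Transfer.Tate
import Cfsg.Agent.Lib.Transfer.Residual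
import Cfsg.Agent.Lib.BSW.Local
import Cfsg.Agent.Lib.AbelCent.Transfer
import Cfsg.Agent.S0111
import Cfsg.Agent.S3282

set_option autoImplicit false

namespace Cfsg.Agent.PartCls

open Subgroup

universe u

variable {G : Type u} [Group G] [Finite G]

/-- The trace of a Sylow subgroup on a normal subgroup. -/
theorem exists_sylow_normal {p : ℕ} [Fact p.Prime] (S : Sylow p G) (M : Subgroup G) [M.Normal] :
    ∃ T : Sylow p M, (T : Subgroup M) = (S : Subgroup G).subgroupOf M := by
  have hp : IsPGroup p ((S : Subgroup G).subgroupOf M) :=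
    S.isPGroup'.comap_of_injective M.subtype M.subtype_injective
  obtain ⟨T, hT⟩ := hp.exists_le_sylow
  refine ⟨T, (eq_of_le_of_card_ge hT ?_).symm⟩
  obtain ⟨R, hR⟩ := (T.isPGroup'.map M.subtype).exists_le_sylow
  obtain ⟨g, hg⟩ := MulAction.exists_smul_eq G R S
  refine Nat.card_le_card_of_injective
    (fun a : (T : Subgroup M) => (⟨⟨g * ((a : M) : G) * g⁻¹,
      Subgroup.Normal.conj_mem inferInstance _ (a : M).2 g⟩, ?_⟩ : (S : Subgroup G).subgroupOf M)) ?_
  · rw [mem_subgroupOf]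
    have h1 : ((a : M) : G) ∈ (R : Subgroup G) := hR ⟨(a : M), a.2, rfl⟩
    have h2 : g * ((a : M) : G) * g⁻¹ ∈ ((g • R : Sylow p G) : Subgroup G) := by
      rw [Sylow.coe_subgroup_smul]
      exact ⟨_, h1, rfl⟩
    rwa [hg] at h2
  · intro a c hac
    have h := congrArg (fun z : (S : Subgroup G).subgroupOf M => ((z : M) : G)) hac
    exact Subtype.ext (Subtype.ext (mul_left_cancel (mul_right_cancel h)))

theorem sq_shift {A : Type*} [CommGroup A] {d x T : A} (m : ℕ) (h : d ^ (2 * m + 1) * x = T) :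
    d * x = T * ((d ^ m)⁻¹ * (d ^ m)⁻¹) := by
  subst h
  rw [pow_succ, two_mul, pow_add]
  generalize d ^ m = e
  rw [mul_comm (e * e * d * x)]
  group

/-- The hypotheses: `C(t)` is not inside the member of `t`, which is not of exponent two. -/
structure Split (P : Part G) (S : Sylow 2 G) (t : G) : Prop where
  hs : InvertedOdd.NoSolvableNormal G
  two : orderOf t = 2
  mem : t ∈ (S : Subgroup G)
  central : ∀ s ∈ (S : Subgroup G), Commute s t
  not_le : ¬ centralizer ({t} : Set G) ≤ P.comp t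
  exp : ∃ a ∈ P.comp t, a * a ≠ 1

namespace Split

variable {P : Part G} {S : Sylow 2 G} {t : G} (h : Split P S t)
include h

theorem t_ne : t ≠ 1 := Involution.ne_one h.two

theorem t_mem : t ∈ P.comp t := P.mem h.t_ne

theorem outside {g : G} (hc : Commute g t) (hg : g ∉ P.comp t) :
    orderOf g = 2 ∧ g ∈ normalizer (P.comp t : Set G) ∧ ∀ a ∈ P.comp t, g * a * g⁻¹ = a⁻¹ := by
  have hg1 : g ≠ 1 := fun e => hg (e ▸ one_mem _)
  have hgN := P.mem_normalizer_of_commute h.t_ne hc
  obtain ⟨he, -⟩ := (P.mem_or_eq h.t_ne hg1 hc.symm).resolve_left hg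
  have h2 : orderOf g = 2 := he.symm.trans h.two
  exact ⟨h2, hgN, fun a ha => P.inverts h.t_ne (Involution.mul_self h2) hg hgN ha⟩

theorem exists_outside : ∃ g, Commute g t ∧ g ∉ P.comp t := by
  obtain ⟨g, hg, hgn⟩ := SetLike.not_le_iff_exists.1 h.not_le
  exact ⟨g, mem_centralizer_singleton_iff.1 hg, hgn⟩

theorem comm : ∀ a ∈ P.comp t, ∀ b ∈ P.comp t, a * b = b * a := by
  obtain ⟨g, hc, hgn⟩ := h.exists_outside
  obtain ⟨h2, hgN, -⟩ := h.outside hc hgn
  exact fun a ha b hb => P.comm_of_inverted h.t_ne (Involution.mul_self h2) hgn hgN ha hb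

theorem commute_t {a : G} (ha : a ∈ P.comp t) : Commute a t := h.comm a ha t h.t_mem

theorem mul_mem {a b : G} (ha : Commute a t) (han : a ∉ P.comp t) (hb : Commute b t)
    (hbn : b ∉ P.comp t) : a * b ∈ P.comp t := by
  by_contra hab
  obtain ⟨x, hx, hx2⟩ := h.exp
  obtain ⟨-, -, hia⟩ := h.outside ha han
  obtain ⟨-, -, hib⟩ := h.outside hb hbn
  obtain ⟨-, -, hiab⟩ := h.outside (ha.mul_left hb) hab
  have e := hiab x hx
  rw [show a * b * x * (a * b)⁻¹ = a * (b * x * b⁻¹) * a⁻¹ by group, hib x hx, hia _ (inv_mem hx),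
    inv_inv] at e
  exact hx2 (by nth_rewrite 1 [e]; exact inv_mul_cancel x)

theorem mem_of_centralizes {g : G} (hg : ∀ a ∈ P.comp t, Commute g a) : g ∈ P.comp t := by
  by_contra hgn
  obtain ⟨x, hx, hx2⟩ := h.exp
  obtain ⟨-, -, hi⟩ := h.outside (hg t h.t_mem) hgn
  have e := hi x hx
  rw [(hg x hx).eq, mul_inv_cancel_right] at e
  exact hx2 (by nth_rewrite 1 [e]; exact inv_mul_cancel x)

theorem commute_t_of_mem {s : G} (hs : s ∈ (S : Subgroup G)) : Commute s t := h.central s hs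

/-- A `2`-element centralising `t` is conjugate into the Sylow subgroup inside the centraliser. -/
theorem exists_conj_sylow {g : G} (hg : Commute g t) {k : ℕ} (hk : g ^ 2 ^ k = 1) :
    ∃ c, Commute c t ∧ c * g * c⁻¹ ∈ (S : Subgroup G) := by
  haveI := Fact.mk Nat.prime_two
  set C := centralizer ({t} : Set G)
  have hSC : (S : Subgroup G) ≤ C := fun s hs => mem_centralizer_singleton_iff.2 (h.central s hs).eq
  set gC : C := ⟨g, mem_centralizer_singleton_iff.2 hg.eq⟩
  have hz : IsPGroup 2 (zpowers gC) := by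
    rintro ⟨_, i, rfl⟩
    refine ⟨k, Subtype.ext ?_⟩
    show (gC ^ i) ^ 2 ^ k = 1
    rw [← zpow_natCast, ← zpow_mul, mul_comm, zpow_mul, zpow_natCast,
      show gC ^ 2 ^ k = 1 from Subtype.ext hk, one_zpow]
  obtain ⟨T, hT⟩ := hz.exists_le_sylow
  obtain ⟨c, hc⟩ := MulAction.exists_smul_eq C T (S.subtype hSC)
  refine ⟨c, mem_centralizer_singleton_iff.1 c.2, ?_⟩
  have h2 : c * gC * c⁻¹ ∈ ((c • T : Sylow 2 C) : Subgroup C) := by
    rw [Sylow.coe_subgroup_smul]
    exact ⟨gC, hT (mem_zpowers _), rfl⟩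
  rw [hc, Sylow.coe_subtype, mem_subgroupOf] at h2
  exact h2

theorem conj_mem_iff {c a : G} (hc : c ∈ normalizer (P.comp t : Set G)) :
    c * a * c⁻¹ ∈ P.comp t ↔ a ∈ P.comp t := (mem_normalizer_iff.1 hc a).symm

theorem exists_v : ∃ v ∈ (S : Subgroup G), v ∉ P.comp t := by
  obtain ⟨g, hc, hgn⟩ := h.exists_outside
  obtain ⟨h2, -, -⟩ := h.outside hc hgn
  obtain ⟨c, hct, hcS⟩ := h.exists_conj_sylow hc (k := 1) (by rw [pow_one, ← h2, pow_orderOf_eq_one])
  exact ⟨_, hcS, fun hm => hgn ((h.conj_mem_iff (P.mem_normalizer_of_commute h.t_ne hct)).1 hm)⟩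

/-- Odd elements of the normaliser lie in the member. -/
theorem odd_mem {z : G} (hz : z ∈ normalizer (P.comp t : Set G)) (ho : Odd (orderOf z)) : z ∈ P.comp t := by
  classical
  by_contra hzn
  obtain ⟨v, hvS, hvn⟩ := h.exists_v
  obtain ⟨hv2, hvN, hvi⟩ := h.outside (h.central v hvS) hvn
  set H := P.comp t with hH
  letI : CommGroup H := { (inferInstance : Group H) with
    mul_comm := fun a b => Subtype.ext (h.comm a a.2 b b.2) }
  -- conjugation by `z`
  let φ : H →* H :=
    { toFun := fun a => ⟨z * (a : G) * z⁻¹, P.conj_mem hz a.2⟩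
      map_one' := Subtype.ext (by simp)
      map_mul' := fun a b => Subtype.ext (by simp [mul_assoc]) }
  have hd : v⁻¹ * (z * v * z⁻¹) ∈ H := h.mem_of_centralizes fun a ha => by
    have hvi' : v⁻¹ = v := Involution.inv_eq hv2
    refine mul_inv_eq_iff_eq_mul.1 ?_
    have h1 : z⁻¹ * a * z⁻¹⁻¹ ∈ H := P.conj_mem (Subgroup.inv_mem _ hz) ha
    calc v⁻¹ * (z * v * z⁻¹) * a * (v⁻¹ * (z * v * z⁻¹))⁻¹
        = v⁻¹ * (z * (v * (z⁻¹ * a * z⁻¹⁻¹) * v⁻¹) * z⁻¹) * v := by group
      _ = v⁻¹ * a⁻¹ * v := by rw [hvi _ h1]; group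
      _ = v * a⁻¹ * v⁻¹ := by rw [hvi']
      _ = a := by rw [hvi _ (inv_mem ha), inv_inv]
  set d : H := ⟨_, hd⟩ with hd'
  let c : ℕ → H := fun i => ∏ j ∈ Finset.range i, φ^[j] d
  have hc : ∀ i, z ^ i * v * (z ^ i)⁻¹ = v * (c i : G) := by
    intro i
    induction i with
    | zero => simp [c]
    | succ i ih =>
      have e : c (i + 1) = d * φ (c i) := by
        show ∏ j ∈ Finset.range (i + 1), φ^[j] d = d * φ (∏ j ∈ Finset.range i, φ^[j] d)
        rw [Finset.prod_range_succ', map_prod, mul_comm]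
        simp only [Function.iterate_zero_apply, Function.iterate_succ_apply']
      rw [e, Subgroup.coe_mul, pow_succ' z,
        show z * z ^ i * v * (z * z ^ i)⁻¹ = z * (z ^ i * v * (z ^ i)⁻¹) * z⁻¹ by group, ih]
      show z * (v * (c i : G)) * z⁻¹ = v * (v⁻¹ * (z * v * z⁻¹) * (z * (c i : G) * z⁻¹))
      group
  obtain ⟨m, hm⟩ := ho
  set n := orderOf z with hn
  have hcn : c n = 1 := Subtype.ext (by
    have := hc n
    rw [hn, pow_orderOf_eq_one, one_mul, inv_one, mul_one] at this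
    exact mul_left_cancel (a := v) (by rw [← this]; exact (mul_one v).symm))
  set T : H := ∏ i ∈ Finset.range n, c i with hT
  have hφT : d ^ n * φ T = T := by
    have e : ∀ i, c (i + 1) = d * φ (c i) := fun i => by
      show ∏ j ∈ Finset.range (i + 1), φ^[j] d = d * φ (∏ j ∈ Finset.range i, φ^[j] d)
      rw [Finset.prod_range_succ', map_prod, mul_comm]
      simp only [Function.iterate_zero_apply, Function.iterate_succ_apply']
    have h1 : ∏ i ∈ Finset.range n, c (i + 1) = T := by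
      have h2 := Finset.prod_range_succ' c n
      rw [Finset.prod_range_succ, hcn, mul_one, show c 0 = 1 from Finset.prod_range_zero _, mul_one] at h2
      exact h2.symm
    conv_rhs => rw [← h1]
    simp only [e]
    rw [Finset.prod_mul_distrib, Finset.prod_const, Finset.card_range, ← map_prod]
  set s : H := (d ^ m)⁻¹ with hs
  set w := v * (T : G) with hw
  have hzw : z * w * z⁻¹ = w * ((s : G) * (s : G)) := by
    have e : d * φ T = T * (s * s) := sq_shift m (by rw [← hm]; exact hφT)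
    have e' := congrArg Subtype.val e
    simp only [Subgroup.coe_mul] at e'
    calc z * w * z⁻¹ = v * ((v⁻¹ * (z * v * z⁻¹)) * (z * (T : G) * z⁻¹)) := by rw [hw]; group
      _ = v * ((T : G) * ((s : G) * (s : G))) := by rw [← e']; rfl
      _ = w * ((s : G) * (s : G)) := by rw [hw]; group
  have hwn : w ∉ H := fun hh => hvn ((Subgroup.mul_mem_cancel_right _ T.2).1 hh)
  have hwc : Commute w t := (h.central v hvS).mul_left (h.commute_t T.2)
  obtain ⟨hw2, hwN, hwi⟩ := h.outside hwc hwn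
  set z' := (s : G) * z with hz'
  have hz'w : Commute z' w := by
    refine mul_inv_eq_iff_eq_mul.1 ?_
    have h2 : w * (s : G) = (s : G)⁻¹ * w := mul_inv_eq_iff_eq_mul.1 (hwi _ s.2)
    calc z' * w * z'⁻¹ = (s : G) * (z * w * z⁻¹) * (s : G)⁻¹ := by rw [hz']; group
      _ = (s : G) * (w * (s : G)) := by rw [hzw]; group
      _ = w := by rw [h2, mul_inv_cancel_left]
  have hz'n : z' ∉ H := fun hh => hzn ((Subgroup.mul_mem_cancel_left _ s.2).1 hh)
  have hz'N : z' ∈ normalizer (H : Set G) := Subgroup.mul_mem _ (le_normalizer s.2) hz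
  have hz'odd : Odd (orderOf z') := by
    have hmem : z' ^ n ∈ H := by
      set X := normalizer (H : Set G)
      haveI : (H.subgroupOf X).Normal := Cores.subgroupOf_normal_of_le_normalizer le_rfl
      refine (QuotientGroup.eq_one_iff (N := H.subgroupOf X) ((⟨z', hz'N⟩ : X) ^ n)).1 ?_
      rw [← QuotientGroup.mk'_apply, map_pow, show (⟨z', hz'N⟩ : X) = ⟨s, le_normalizer s.2⟩ * ⟨z, hz⟩ from rfl,
        map_mul, show QuotientGroup.mk' (H.subgroupOf X) ⟨(s : G), le_normalizer s.2⟩ = 1 from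
          (QuotientGroup.eq_one_iff (N := H.subgroupOf X) _).2 s.2, one_mul, ← map_pow,
        show (⟨z, hz⟩ : X) ^ n = 1 from Subtype.ext (pow_orderOf_eq_one z), map_one]
    exact (show Odd n from ⟨m, hm⟩).of_dvd_nat
      (orderOf_dvd_of_pow_eq_one (P.pow_eq_one_of_mem h.t_ne hz'n hmem))
  have hw1 : w ≠ 1 := Involution.ne_one hw2
  have hz'1 : z' ≠ 1 := fun e => hz'n (e ▸ one_mem _)
  have hne : orderOf w ≠ orderOf z' := by
    rw [hw2]; intro e; rw [← e] at hz'odd; exact (Nat.not_even_iff_odd.2 hz'odd) even_two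
  have hz'W : z' ∈ P.comp w := P.mem_of_order_ne hw1 hz'1 hz'w.symm hne
  have htW : t ∈ normalizer (P.comp w : Set G) := P.mem_normalizer_of_commute hw1 hwc.symm
  have htz : Commute t z' := by
    have hWz := P.eq_of_mem hw1 hz'1 hz'W
    have h1 := P.comm_mem hz'1 (v := t) (hWz ▸ htW)
    have h2 : z' * t * z'⁻¹ * t⁻¹ ∈ H := Subgroup.mul_mem _ (P.conj_mem hz'N h.t_mem) (inv_mem h.t_mem)
    by_contra hne'
    have h3 : z' * t * z'⁻¹ * t⁻¹ ≠ 1 := fun e =>
      hne' (mul_inv_eq_iff_eq_mul.1 (mul_inv_eq_one.1 e)).symm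
    exact hz'n ((P.eq_of_mem_mem hz'1 h.t_ne h3 h1 h2).le (P.mem hz'1))
  obtain ⟨ho2, -, -⟩ := h.outside htz.symm hz'n
  rw [ho2] at hz'odd
  exact (Nat.not_even_iff_odd.2 hz'odd) even_two

theorem normalizer_eq : normalizer (P.comp t : Set G) = centralizer ({t} : Set G) := by
  haveI := Fact.mk Nat.prime_two
  set H := P.comp t with hH
  set X := normalizer (H : Set G)
  set C := centralizer ({t} : Set G)
  have hCX : C ≤ X := fun g hg => P.mem_normalizer_of_commute h.t_ne (mem_centralizer_singleton_iff.1 hg)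
  have hHC : H ≤ C := fun a ha => mem_centralizer_singleton_iff.2 (h.commute_t ha).eq
  refine le_antisymm ?_ hCX
  haveI : (H.subgroupOf X).Normal := Cores.subgroupOf_normal_of_le_normalizer le_rfl
  have hp : IsPGroup 2 (X ⧸ H.subgroupOf X) := by
    intro a
    obtain ⟨⟨g, hg⟩, rfl⟩ := QuotientGroup.mk'_surjective (H.subgroupOf X) a
    obtain ⟨x, z, rfl, hx, hz, ⟨k, hk⟩, hzo⟩ := Transfer.exists_pPart_mul (p := 2) g
    have hxX : x ∈ X := zpowers_le.2 hg hx
    have hzX : z ∈ X := zpowers_le.2 hg hz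
    have hzH : z ∈ H := h.odd_mem hzX (Nat.coprime_two_right.1 hzo)
    refine ⟨k, ?_⟩
    rw [show (⟨x * z, hg⟩ : X) = ⟨x, hxX⟩ * ⟨z, hzX⟩ from rfl, map_mul,
      show QuotientGroup.mk' (H.subgroupOf X) ⟨z, hzX⟩ = 1 from
        (QuotientGroup.eq_one_iff (N := H.subgroupOf X) _).2 hzH, mul_one, ← map_pow,
      show (⟨x, hxX⟩ : X) ^ 2 ^ k = 1 from Subtype.ext (by
        show x ^ 2 ^ k = 1
        rw [← hk, pow_orderOf_eq_one]), map_one]
  obtain ⟨n, hn⟩ := hp.exists_card_eq
  have h1 : C.relIndex X ∣ 2 ^ n := by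
    rw [← hn, ← index_eq_card]
    exact relIndex_dvd_of_le_left X hHC
  have hSC : (S : Subgroup G) ≤ C := fun s hs => mem_centralizer_singleton_iff.2 (h.central s hs).eq
  have h2 : ¬ 2 ∣ C.relIndex X := fun hd =>
    S.not_dvd_index ((hd.trans (relIndex_dvd_index_of_le hCX)).trans (index_dvd_of_le hSC))
  have h3 : C.relIndex X = 1 := by
    obtain ⟨j, -, hj⟩ := (Nat.dvd_prime_pow Nat.prime_two).1 h1
    rcases j with - | j
    · simpa using hj
    · exact absurd (hj ▸ dvd_pow_self 2 (Nat.succ_ne_zero j)) h2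
  exact relIndex_eq_one.1 h3

/-- An element of the Sylow subgroup outside the member is not fused into it, if the member has a
second involution there. -/
theorem not_fused {e : G} (he : e ∈ P.comp t) (he2 : orderOf e = 2) (het : e ≠ t) {v : G}
    (hv : v ∈ (S : Subgroup G)) (hvn : v ∉ P.comp t) (g : G) : g * v * g⁻¹ ∉ P.comp t := by
  intro hw
  have hv1 : v ≠ 1 := fun e => hvn (e ▸ one_mem _)
  have hw1 : g * v * g⁻¹ ≠ 1 := fun e => hv1 (conj_eq_one_iff.1 e)
  have hcw : P.comp (g * v * g⁻¹) = P.comp t := P.eq_of_mem h.t_ne hw1 hw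
  have hmem : ∀ a ∈ P.comp t, g⁻¹ * a * g ∈ P.comp v := fun a ha =>
    (P.mem_conj_iff hv1).1 (hcw.symm ▸ ha)
  have hne : P.comp v ≠ P.comp t := fun e' => hvn (e' ▸ P.mem hv1)
  have htv : t ∉ P.comp v := fun htv => hne (P.eq_of_mem hv1 h.t_ne htv).symm
  have htN : t ∈ normalizer (P.comp v : Set G) :=
    P.mem_normalizer_of_commute hv1 (h.central v hv).symm
  have hout : ∀ a ∈ P.comp t, orderOf a = 2 →
      Commute (g⁻¹ * a * g) t ∧ g⁻¹ * a * g ∉ P.comp t := by
    intro a ha ha2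
    have ho : orderOf (g⁻¹ * a * g) = 2 := by
      have := Involution.orderOf_conj g⁻¹ a
      rw [inv_inv] at this
      rw [this, ha2]
    refine ⟨?_, fun hh => hne ?_⟩
    · have h1 := P.inverts hv1 (Involution.mul_self h.two) htv htN (hmem a ha)
      rw [Involution.inv_eq ho] at h1
      exact (mul_inv_eq_iff_eq_mul.1 h1).symm
    · exact (P.eq_of_mem hv1 (Involution.ne_one ho) (hmem a ha)).symm.trans
        (P.eq_of_mem h.t_ne (Involution.ne_one ho) hh)
  obtain ⟨h1, h1n⟩ := hout e he he2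
  obtain ⟨h2, h2n⟩ := hout t h.t_mem h.two
  have het2 : orderOf (e * t) = 2 := by
    refine Involution.orderOf_of_sq ?_ fun e' => het ?_
    · rw [show e * t * (e * t) = e * (t * e) * t by group, ← (h.commute_t he).eq,
        show e * (e * t) * t = e * e * (t * t) by group, Involution.mul_self he2,
        Involution.mul_self h.two, mul_one]
    · rw [eq_inv_of_mul_eq_one_left e', Involution.inv_eq h.two]
  obtain ⟨-, h3n⟩ := hout (e * t) (Subgroup.mul_mem _ he h.t_mem) het2
  refine h3n ?_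
  rw [show g⁻¹ * (e * t) * g = (g⁻¹ * e * g) * (g⁻¹ * t * g) by group]
  exact h.mul_mem h1 h1n h2 h2n

/-- The residual. -/
abbrev M : Subgroup G := Cfsg.pResidual 2 G

theorem no_index_two (N : Subgroup (Cfsg.pResidual 2 G)) [N.Normal] : N.index ≠ 2 := by
  haveI := Fact.mk Nat.prime_two
  intro hN
  have h1 := Transfer.pResidual_le_of_index (N := N) (k := 1) (by rw [hN, pow_one])
  rw [Transfer.pResidual_pResidual, top_le_iff] at h1
  rw [h1, index_top] at hN
  omega

theorem exists_v_mem : ∃ v ∈ (S : Subgroup G), v ∈ Cfsg.pResidual 2 G ∧ v ∉ P.comp t := by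
  haveI := Fact.mk Nat.prime_two
  by_contra hno
  push Not at hno
  set R := Cfsg.pResidual 2 G
  haveI : R.Normal := Transfer.pResidual_normal
  have hs' := InvertedOdd.noSolvableNormal_sub h.hs R
  obtain ⟨T, hT⟩ := exists_sylow_normal S R
  have hTH : ∀ a : R, a ∈ (T : Subgroup R) → (a : G) ∈ P.comp t := fun a ha => by
    rw [hT] at ha
    exact hno _ ha a.2
  have hle : normalizer ((T : Subgroup R) : Set R) ≤ centralizer ((T : Subgroup R) : Set R) := by
    intro g hg
    rw [mem_centralizer_iff]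
    intro a ha
    by_cases ha1 : a = 1
    · rw [ha1, one_mul, mul_one]
    have hgN : (g : G) ∈ normalizer (P.comp t : Set G) := P.mem_normalizer_of_conj_mem h.t_ne
      (fun e => ha1 (Subtype.ext e)) (hTH a ha) (hTH _ ((mem_normalizer_iff.1 hg a).1 ha))
    rw [h.normalizer_eq, mem_centralizer_singleton_iff] at hgN
    have hgH : (g : G) ∈ P.comp t := by
      by_contra hgn
      obtain ⟨hg2, -, -⟩ := h.outside hgN hgn
      obtain ⟨c, hct, hcS⟩ := h.exists_conj_sylow hgN (k := 1) (by rw [pow_one, ← hg2, pow_orderOf_eq_one])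
      exact hgn ((h.conj_mem_iff (P.mem_normalizer_of_commute h.t_ne hct)).1
        (hno _ hcS (Subgroup.Normal.conj_mem inferInstance _ g.2 c)))
    exact Subtype.ext (h.comm a (hTH a ha) g hgH)
  obtain ⟨Q, N, hN, hQ⟩ := Transfer.hasNormalPComplement_of_normalizer_le_centralizer T hle
  have hco := Transfer.coprime_card_of_isComplement' Q hQ
  have hN1 : N = ⊥ := hs' N hN (OddOrderTheorem.solvable (Nat.coprime_two_right.1 hco))
  subst hN1
  have hp : IsPGroup 2 R := by
    rw [isComplement'_bot_left] at hQ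
    exact IsPGroup.of_equiv (hQ ▸ Q.isPGroup') Subgroup.topEquiv
  have hR : R = ⊥ := by
    haveI := hp.isNilpotent
    exact h.hs R inferInstance inferInstance
  have hG : IsPGroup 2 G := by
    intro g
    obtain ⟨k, hk⟩ := Transfer.isPGroup_quotient_pResidual (G := G) (p := 2) (QuotientGroup.mk g)
    refine ⟨k, ?_⟩
    rw [← QuotientGroup.mk_pow, QuotientGroup.eq_one_iff] at hk
    rw [show Cfsg.pResidual 2 G = ⊥ from hR] at hk
    exact mem_bot.1 hk
  haveI := hG.isNilpotent
  have := h.hs ⊤ inferInstance inferInstance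
  exact h.t_ne (mem_bot.1 (this ▸ mem_top t))

theorem fused {v : G} (hv : v ∈ (S : Subgroup G)) (hvR : v ∈ Cfsg.pResidual 2 G) (hvn : v ∉ P.comp t) :
    ∃ g ∈ Cfsg.pResidual 2 G, g * v * g⁻¹ ∈ (S : Subgroup G) ⊓ P.comp t := by
  haveI := Fact.mk Nat.prime_two
  set R := Cfsg.pResidual 2 G
  haveI : R.Normal := Transfer.pResidual_normal
  obtain ⟨T, hT⟩ := exists_sylow_normal S R
  set Q := (T : Subgroup R) ⊓ (P.comp t).subgroupOf R
  have hvT : (⟨v, hvR⟩ : R) ∈ (T : Subgroup R) := by rw [hT]; exact hv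
  have hidx : Q.relIndex (T : Subgroup R) = 2 := by
    rw [inf_relIndex_left]
    refine index_eq_two_iff.2 ⟨⟨_, hvT⟩, fun a => ?_⟩
    show Xor (((a : R) : G) * v ∈ P.comp t) (((a : R) : G) ∈ P.comp t)
    have haS : ((a : R) : G) ∈ (S : Subgroup G) := by
      exact hT.le a.2
    by_cases ha : ((a : R) : G) ∈ P.comp t
    · exact Or.inr ⟨ha, fun hh => hvn ((Subgroup.mul_mem_cancel_left _ ha).1 hh)⟩
    · exact Or.inl ⟨h.mul_mem (h.central _ haS) ha (h.central v hv) hvn, ha⟩
  have hv2 : orderOf (⟨v, hvR⟩ : R) = 2 := by rw [orderOf_mk, (h.outside (h.central v hv) hvn).1]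
  rcases S0111.result T Q inf_le_left hidx ⟨v, hvR⟩ hv2 hvT (fun hh => hvn hh.2) with
    ⟨N, hN, hNi, -⟩ | ⟨g, hg⟩
  · exact absurd hNi (h.no_index_two N)
  · refine ⟨g, g.2, ?_, hg.2⟩
    have := hg.1
    rw [hT] at this
    exact this

theorem unique_sylow {e : G} (he : e ∈ P.comp t) (he2 : orderOf e = 2) : e = t := by
  by_contra het
  obtain ⟨v, hv, hvR, hvn⟩ := h.exists_v_mem
  obtain ⟨g, -, hg⟩ := h.fused hv hvR hvn
  exact h.not_fused he he2 het hv hvn g hg.2

/-- The only involution of the member. -/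
theorem unique_involution {e : G} (he : e ∈ P.comp t) (he2 : orderOf e = 2) : e = t :=
  h.unique_sylow he he2

theorem t_mem_residual : t ∈ Cfsg.pResidual 2 G := by
  haveI : (Cfsg.pResidual 2 G).Normal := Transfer.pResidual_normal
  obtain ⟨v, hv, hvR, hvn⟩ := h.exists_v_mem
  obtain ⟨g, hgR, hg⟩ := h.fused hv hvR hvn
  have h2 : orderOf (g * v * g⁻¹) = 2 := by
    rw [Involution.orderOf_conj, (h.outside (h.central v hv) hvn).1]
  exact h.unique_involution hg.2 h2 ▸ Subgroup.Normal.conj_mem inferInstance v hvR g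

theorem conj_involutions {x : G} (hx : x ∈ Cfsg.pResidual 2 G) (hx2 : orderOf x = 2) :
    ∃ g ∈ Cfsg.pResidual 2 G, g * x * g⁻¹ = t := by
  haveI := Fact.mk Nat.prime_two
  set R := Cfsg.pResidual 2 G
  haveI : R.Normal := Transfer.pResidual_normal
  obtain ⟨T, hT⟩ := exists_sylow_normal S R
  obtain ⟨T', hT'⟩ := (IsPGroup.of_card (G := zpowers (⟨x, hx⟩ : R)) (p := 2) (n := 1)
    (by rw [Nat.card_zpowers, orderOf_mk, hx2, pow_one])).exists_le_sylow
  obtain ⟨g, hg⟩ := MulAction.exists_smul_eq R T' T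
  have hy : g * ⟨x, hx⟩ * g⁻¹ ∈ ((g • T' : Sylow 2 R) : Subgroup R) := by
    rw [Sylow.coe_subgroup_smul]
    exact ⟨_, hT' (mem_zpowers _), rfl⟩
  rw [hg, hT, mem_subgroupOf] at hy
  have hy' : (g : G) * x * (g : G)⁻¹ ∈ (S : Subgroup G) := hy
  set y := (g : G) * x * (g : G)⁻¹ with hydef
  have hy2 : orderOf y = 2 := by rw [hydef, Involution.orderOf_conj, hx2]
  by_cases hyH : y ∈ P.comp t
  · exact ⟨g, g.2, h.unique_involution hyH hy2⟩
  · obtain ⟨k, hk, hk'⟩ := h.fused hy' (Subgroup.Normal.conj_mem inferInstance x hx g) hyH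
    refine ⟨k * g, Subgroup.mul_mem _ hk g.2, ?_⟩
    rw [show k * (g : G) * x * (k * (g : G))⁻¹ = k * y * k⁻¹ by rw [hydef]; group]
    exact h.unique_involution hk'.2 (by rw [Involution.orderOf_conj, hy2])

/-- The residual satisfies the conclusion of the theorem of Brauer, Suzuki and Wall. -/
theorem conclusion : BSW.Conclusion (Cfsg.pResidual 2 G) := by
  set R := Cfsg.pResidual 2 G
  haveI : R.Normal := Transfer.pResidual_normal
  obtain ⟨v, hv, hvR, hvn⟩ := h.exists_v_mem
  obtain ⟨hv2, -, hvi⟩ := h.outside (h.central v hv) hvn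
  have htR := h.t_mem_residual
  set tR : R := ⟨t, htR⟩
  set vR : R := ⟨v, hvR⟩
  set K := (P.comp t).subgroupOf R
  have hC : ∀ a : R, a ∈ centralizer ({tR} : Set R) ↔ Commute (a : G) t := fun a => by
    rw [mem_centralizer_singleton_iff]
    exact ⟨fun e => congrArg Subtype.val e, fun e => Subtype.ext e.eq⟩
  refine S3282.result tR (by rw [orderOf_mk, h.two]) K
    ⟨⟨fun a b => Subtype.ext (Subtype.ext (h.comm _ a.2 _ b.2))⟩⟩
    (fun a ha => (hC a).2 (h.commute_t ha)) h.t_mem vR (by rw [orderOf_mk, hv2])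
    ((hC vR).2 (h.central v hv)) hvn ?_ ?_ ?_ ?_ ?_
  · refine le_antisymm (sup_le (fun a ha => (hC a).2 (h.commute_t ha))
      (zpowers_le.2 ((hC vR).2 (h.central v hv)))) fun a ha => ?_
    by_cases haH : (a : G) ∈ P.comp t
    · exact (le_sup_left : K ≤ K ⊔ zpowers vR) haH
    · have h1 : a * vR ∈ K := h.mul_mem ((hC a).1 ha) haH (h.central v hv) hvn
      have := Subgroup.mul_mem (K ⊔ zpowers vR) ((le_sup_left : K ≤ K ⊔ zpowers vR) h1)
        (inv_mem ((le_sup_right : zpowers vR ≤ K ⊔ zpowers vR) (mem_zpowers vR)))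
      rwa [mul_inv_cancel_right] at this
  · refine le_antisymm (fun a ha => ?_) (zpowers_le.2 ⟨h.t_mem, ?_⟩)
    · obtain ⟨haK, hac⟩ := ha
      have hac' : Commute (a : G) v := congrArg Subtype.val (mem_centralizer_singleton_iff.1 hac)
      have ha2 : (a : G) * a = 1 := by
        have := hvi (a : G) haK
        rw [← hac'.eq, mul_inv_cancel_right] at this
        nth_rewrite 1 [this]
        exact inv_mul_cancel _
      by_cases ha1 : (a : G) = 1
      · rw [show a = 1 from Subtype.ext ha1]; exact one_mem _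
      · rw [show a = tR from Subtype.ext (h.unique_involution haK (Involution.orderOf_of_sq ha2 ha1))]
        exact mem_zpowers _
    · exact mem_centralizer_singleton_iff.2 (Subtype.ext (h.central v hv).symm.eq)
  · exact fun a ha => Subtype.ext (hvi _ ha)
  · intro g hg
    rw [eq_bot_iff_forall]
    rintro a ⟨haK, b, hbK, hab⟩
    by_contra ha1
    refine hg ((hC g).2 ?_)
    have hgb : (g : G) * b * (g : G)⁻¹ ∈ P.comp t := by
      have : (a : G) = (g : G) * b * (g : G)⁻¹ := by rw [← hab]; rfl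
      exact this ▸ haK
    have hb1 : (b : G) ≠ 1 := fun e => ha1 (by
      rw [← hab, show b = 1 from Subtype.ext e]; exact map_one _)
    have := P.mem_normalizer_of_conj_mem h.t_ne hb1 hbK hgb
    rwa [h.normalizer_eq, mem_centralizer_singleton_iff] at this
  · intro x y hx hy
    obtain ⟨a, ha, hax⟩ := h.conj_involutions x.2 (by rw [orderOf_coe]; exact hx)
    obtain ⟨c, hc, hcy⟩ := h.conj_involutions y.2 (by rw [orderOf_coe]; exact hy)
    refine isConj_iff.2 ⟨⟨c⁻¹ * a, Subgroup.mul_mem _ (inv_mem hc) ha⟩, Subtype.ext ?_⟩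
    show c⁻¹ * a * (x : G) * (c⁻¹ * a)⁻¹ = y
    rw [show c⁻¹ * a * (x : G) * (c⁻¹ * a)⁻¹ = c⁻¹ * (a * x * a⁻¹) * c by group, hax, ← hcy]
    group

/-- The residual has index at most two. -/
theorem index_le : (Cfsg.pResidual 2 G).index ≤ 2 := by
  classical
  haveI := Fact.mk Nat.prime_two
  set R := Cfsg.pResidual 2 G
  haveI : R.Normal := Transfer.pResidual_normal
  obtain ⟨v, hv, hvR, hvn⟩ := h.exists_v_mem
  obtain ⟨-, -, hvi⟩ := h.outside (h.central v hv) hvn
  set B := (S : Subgroup G) ⊓ P.comp t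
  haveI : IsMulCommutative B := ⟨⟨fun a b => Subtype.ext (h.comm _ a.2.2 _ b.2.2)⟩⟩
  have hcyc : IsCyclic B := AbelCent.isCyclic_of_unique_inv (S.isPGroup'.to_le inf_le_left)
    fun a b ha hb ha2 hb2 => by
      have e : ∀ z, z ∈ B → CAEven.Inv z → z = t := fun z hz hz2 =>
        h.unique_involution hz.2 (Involution.orderOf_of_sq hz2.2 hz2.1)
      exact (e a ha ha2).trans (e b hb hb2).symm
  obtain ⟨b, hb⟩ := hcyc.exists_generator
  have htop : (⊤ : Subgroup (G ⧸ R)) ≤ zpowers (QuotientGroup.mk' R (b : G)) := by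
    have hS : (S : Subgroup G).map (QuotientGroup.mk' R) = ⊤ := by
      rw [← map_top_of_surjective _ (QuotientGroup.mk'_surjective R), ← Transfer.sylow_sup_eq_top S,
        Subgroup.map_sup, QuotientGroup.map_mk'_self, sup_bot_eq]
    rw [← hS]
    rintro _ ⟨s, hs, rfl⟩
    have key : ∀ a, a ∈ B → QuotientGroup.mk' R a ∈ zpowers (QuotientGroup.mk' R (b : G)) := by
      intro a ha
      obtain ⟨i, hi⟩ := mem_zpowers_iff.1 (hb ⟨a, ha⟩)
      exact mem_zpowers_iff.2 ⟨i, by rw [← map_zpow]; exact congrArg _ (congrArg Subtype.val hi)⟩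
    by_cases hsH : s ∈ P.comp t
    · exact key s ⟨hs, hsH⟩
    · have := key (s * v) ⟨Subgroup.mul_mem _ hs hv, h.mul_mem (h.central s hs) hsH (h.central v hv) hvn⟩
      rwa [map_mul, show QuotientGroup.mk' R v = 1 from (QuotientGroup.eq_one_iff v).2 hvR, mul_one] at this
  have hsq : QuotientGroup.mk' R (b : G) ^ 2 = 1 := by
    rw [← map_pow]
    refine (QuotientGroup.eq_one_iff _).2 ?_
    have h1 : v * (b : G)⁻¹ * v⁻¹ = b := by rw [hvi _ (inv_mem b.2.2), inv_inv]
    have h2 : (b : G) * v * (b : G)⁻¹ * v⁻¹ ∈ R :=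
      Subgroup.mul_mem _ (Subgroup.Normal.conj_mem inferInstance v hvR _) (inv_mem hvR)
    rwa [show (b : G) * v * (b : G)⁻¹ * v⁻¹ = (b : G) * (v * (b : G)⁻¹ * v⁻¹) by group, h1, ← pow_two] at h2
  rw [index_eq_card, ← card_top]
  refine (card_le_of_le htop).trans ?_
  rw [Nat.card_zpowers]
  exact Nat.le_of_dvd two_pos (orderOf_dvd_of_pow_eq_one hsq)

end Split

end Cfsg.Agent.PartCls
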