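/-
The dihedral case: `PSL(2, q)` or `PGL(2, q)`.

Main results (namespace `Cfsg.Agent.PartCls`): `Split.free`, `Split.commute_torus`, `Split.classify`.
-/
import Cfsg.Agent.Lib.PartitionClass.Dihedral
import Cfsg.Agent.Lib.PartitionClass.Line
import Cfsg.Agent.Lib.PSL2.Moebius
import Cfsg.Agent.Lib.PSL2.Existence

set_option autoImplicit false

namespace Cfsg.Agent.PartCls

open Subgroup MulAction

universe u

variable {G : Type u} [Group G] [Finite G]

/-- An element inverted by conjugation and centralised, of odd order, is trivial. -/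
theorem eq_one_of_inverted {e z : G} (h : e * z * e⁻¹ = z⁻¹) (hc : Commute e z) (ho : Odd (orderOf z)) :
    z = 1 := by
  rw [hc.eq, mul_inv_cancel_right] at h
  have h2 : z * z = 1 := by nth_rewrite 1 [h]; exact inv_mul_cancel z
  by_contra h1
  rw [Involution.orderOf_of_sq h2 h1] at ho
  exact (Nat.not_even_iff_odd.2 ho) even_two

/-- An involution without nontrivial fixed points on an abelian group of odd order inverts it. -/
theorem inverts_of_fpf {Q : Subgroup G} (hQ : ∀ x ∈ Q, ∀ y ∈ Q, x * y = y * x) {e : G} (he : e * e = 1)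
    (hn : ∀ x ∈ Q, e * x * e⁻¹ ∈ Q) (hf : ∀ x ∈ Q, Commute e x → x = 1) {x : G} (hx : x ∈ Q) :
    e * x * e⁻¹ = x⁻¹ := by
  have hei : e⁻¹ = e := inv_eq_of_mul_eq_one_right he
  have h1 := hf _ (Subgroup.mul_mem _ hx (hn x hx)) (mul_inv_eq_iff_eq_mul.1 (by
    calc e * (x * (e * x * e⁻¹)) * e⁻¹ = (e * x * e⁻¹) * (e * e * x * (e * e)⁻¹) := by group
      _ = (e * x * e⁻¹) * x := by rw [he, one_mul, inv_one, mul_one]
      _ = x * (e * x * e⁻¹) := hQ _ (hn x hx) x hx))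
  exact (inv_eq_of_mul_eq_one_right h1).symm

namespace Split

variable {P : Part G} {S : Sylow 2 G} {t : G} (h : Split P S t)
include h

theorem exists_conj_S {e : G} {k : ℕ} (hk : e ^ 2 ^ k = 1) : ∃ g, g * e * g⁻¹ ∈ (S : Subgroup G) := by
  have hz : IsPGroup 2 (zpowers e) := by
    rintro ⟨_, i, rfl⟩
    refine ⟨k, Subtype.ext ?_⟩
    show (e ^ i) ^ 2 ^ k = 1
    rw [← zpow_natCast, ← zpow_mul, mul_comm, zpow_mul, zpow_natCast, hk, one_zpow]
  haveI := Fact.mk Nat.prime_two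
  obtain ⟨T, hT⟩ := hz.exists_le_sylow
  obtain ⟨g, hg⟩ := MulAction.exists_smul_eq G T S
  refine ⟨g, ?_⟩
  have : g * e * g⁻¹ ∈ ((g • T : Sylow 2 G) : Subgroup G) := by
    rw [Sylow.coe_subgroup_smul]
    exact ⟨_, hT (mem_zpowers _), rfl⟩
  rwa [hg] at this

/-- An involution outside the residual centralises no element of odd order of an abelian group it
normalises, unless it centralises the group. -/
theorem centralizes_of_commute {Q : Subgroup G} (hQ : ∀ x ∈ Q, ∀ y ∈ Q, x * y = y * x)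
    (hQodd : ∀ x ∈ Q, Odd (orderOf x)) {e x : G} (he : orderOf e = 2) (heR : e ∉ Cfsg.pResidual 2 G)
    (hn : ∀ y ∈ Q, e * y * e⁻¹ ∈ Q) (hx : x ∈ Q) (hx1 : x ≠ 1) (hc : Commute e x) {y : G} (hy : y ∈ Q) :
    Commute e y := by
  haveI : (Cfsg.pResidual 2 G).Normal := Transfer.pResidual_normal
  obtain ⟨g, hg⟩ := h.exists_conj_S (e := e) (k := 1) (by rw [pow_one, ← he, pow_orderOf_eq_one])
  set s := g * e * g⁻¹ with hs'
  have hs2 : orderOf s = 2 := by rw [hs', Involution.orderOf_conj, he]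
  have hs1 : s ≠ 1 := Involution.ne_one hs2
  have he1 : e ≠ 1 := Involution.ne_one he
  have hsn : s ∉ P.comp t := fun hh => heR (by
    have := Subgroup.Normal.conj_mem (inferInstance : (Cfsg.pResidual 2 G).Normal) _
      (h.unique_involution hh hs2 ▸ h.t_mem_residual) g⁻¹
    simpa [hs', mul_assoc] using this)
  have hts : t ∉ P.comp s := fun hh => hsn ((P.eq_of_mem hs1 h.t_ne hh).ge (P.mem hs1))
  set t' := g⁻¹ * t * g with ht'
  have ht'e : Commute t' e := by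
    have := (Commute.conj_iff g⁻¹).2 (h.central s hg).symm
    simpa [hs', ht', mul_assoc] using this
  have ht'2 : t' * t' = 1 := by
    rw [ht', show g⁻¹ * t * g * (g⁻¹ * t * g) = g⁻¹ * (t * t) * g by group,
      Involution.mul_self h.two, mul_one, inv_mul_cancel]
  have ht'n : t' ∉ P.comp e := fun hh => hts (by
    rw [hs', P.mem_conj_iff he1]
    exact hh)
  have ht'N : t' ∈ normalizer (P.comp e : Set G) := P.mem_normalizer_of_commute he1 ht'e
  have hxe : x ∈ P.comp e := P.mem_of_order_ne he1 hx1 hc (by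
    rw [he]; intro e'
    have := hQodd x hx
    rw [← e'] at this
    exact (Nat.not_even_iff_odd.2 this) even_two)
  have hyN : y ∈ normalizer (P.comp e : Set G) := by
    rw [← P.eq_of_mem he1 hx1 hxe]
    exact P.mem_normalizer_of_commute hx1 (hQ y hy x hx)
  set z := e * y * e⁻¹ * y⁻¹ with hz
  have hzQ : z ∈ Q := Subgroup.mul_mem _ (hn y hy) (inv_mem hy)
  have hze : Commute e z :=
    P.comm_of_inverted he1 ht'2 ht'n ht'N (P.mem he1) (P.comm_mem he1 hyN)
  have hzi : e * z * e⁻¹ = z⁻¹ := by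
    have hei : e⁻¹ = e := Involution.inv_eq he
    rw [hz, mul_inv_rev, mul_inv_rev, mul_inv_rev, inv_inv, inv_inv, hei]
    calc e * (e * y * e * y⁻¹) * e = (e * e) * (y * e * y⁻¹ * e) := by group
      _ = y * (e * (y⁻¹ * e)) := by rw [Involution.mul_self he, one_mul]; group
  have hz1 := eq_one_of_inverted hzi hze (hQodd z hzQ)
  exact mul_inv_eq_iff_eq_mul.1 (mul_inv_eq_one.1 hz1)

/-- A `2`-element outside the residual which is not an involution lies in a conjugate of the member. -/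
theorem exists_mem_conj {e : G} {k : ℕ} (hk : e ^ 2 ^ k = 1) (heR : e ∉ Cfsg.pResidual 2 G)
    (he2 : e * e ≠ 1) : ∃ g, g * e * g⁻¹ ∈ P.comp t := by
  obtain ⟨g, hg⟩ := h.exists_conj_S hk
  refine ⟨g, ?_⟩
  by_contra hn
  have h2 := Involution.mul_self (h.outside (h.central _ hg) hn).1
  rw [show g * e * g⁻¹ * (g * e * g⁻¹) = g * (e * e) * g⁻¹ by group] at h2
  exact he2 (conj_eq_one_iff.1 h2)

theorem commute_comp {e : G} (he1 : e ≠ 1) {g : G} (hg : g * e * g⁻¹ ∈ P.comp t) {a b : G}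
    (ha : a ∈ P.comp e) (hb : b ∈ P.comp e) : Commute a b := by
  have hne : g * e * g⁻¹ ≠ 1 := fun e' => he1 (conj_eq_one_iff.1 e')
  have hmem : ∀ c ∈ P.comp e, g * c * g⁻¹ ∈ P.comp t := fun c hc => by
    rw [← P.eq_of_mem h.t_ne hne hg, P.mem_conj_iff he1]
    simpa [mul_assoc] using hc
  have h1 : Commute (g * a * g⁻¹) (g * b * g⁻¹) := h.comm _ (hmem a ha) _ (hmem b hb)
  have := (Commute.conj_iff g⁻¹).2 h1
  simpa [mul_assoc] using this

theorem involution_unique {e : G} (he1 : e ≠ 1) {g : G} (hg : g * e * g⁻¹ ∈ P.comp t) {a b : G}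
    (ha : a ∈ P.comp e) (hb : b ∈ P.comp e) (ha2 : orderOf a = 2) (hb2 : orderOf b = 2) : a = b := by
  have hne : g * e * g⁻¹ ≠ 1 := fun e' => he1 (conj_eq_one_iff.1 e')
  have key : ∀ c ∈ P.comp e, orderOf c = 2 → g * c * g⁻¹ = t := fun c hc hc2 => by
    refine h.unique_involution ?_ (by rw [Involution.orderOf_conj, hc2])
    rw [← P.eq_of_mem h.t_ne hne hg, P.mem_conj_iff he1]
    simpa [mul_assoc] using hc
  exact mul_left_cancel (mul_right_cancel ((key a ha ha2).trans (key b hb hb2).symm))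

theorem classify :
    (∃ (F : Type) (_ : Field F) (_ : Fintype F), 4 ≤ Fintype.card F ∧
        Nonempty (G ≃* Matrix.ProjectiveSpecialLinearGroup (Fin 2) F)) ∨
    (∃ (F : Type) (_ : Field F) (_ : Fintype F), 5 ≤ Fintype.card F ∧ Odd (Fintype.card F) ∧
        Nonempty (G ≃* (GL (Fin 2) F ⧸ Subgroup.center (GL (Fin 2) F)))) := by
  classical
  haveI := Fact.mk Nat.prime_two
  set R := Cfsg.pResidual 2 G
  haveI : R.Normal := Transfer.pResidual_normal
  have hs' := InvertedOdd.noSolvableNormal_sub h.hs R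
  obtain ⟨Q, D, u, hL, hC⟩ := exists_lineHyp hs' h.conclusion
  by_cases htop : R = ⊤
  · left
    obtain ⟨F, iF, iT, hodd, ⟨e⟩⟩ := hL.equiv_psl
    refine ⟨F, iF, iT, ?_, ⟨(Subgroup.topEquiv.symm.trans (MulEquiv.subgroupCongr htop.symm)).trans e⟩⟩
    by_contra hlt
    push Not at hlt
    have hcF : Fintype.card F = 3 := by
      have := Fintype.one_lt_card (α := F)
      obtain ⟨j, hj⟩ := hodd
      omega
    have hpsl := PSL2.card_psl_mul (F := F)
    rw [Nat.card_eq_fintype_card (α := F), hcF] at hpsl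
    norm_num at hpsl
    have h1 := hL.card_G
    have h2 := hL.card_D
    have h3 := hL.two_le
    rw [Nat.card_congr e.toEquiv] at h1
    have h4 : 5 * 6 * 4 ≤ Nat.card Q * (Nat.card Q + 1) * (Nat.card Q - 1) :=
      Nat.mul_le_mul (Nat.mul_le_mul (by omega) (by omega)) (by omega)
    rw [← h1] at h4
    rw [← Nat.card_eq_fintype_card] at hpsl
    change 2 * Nat.card (Matrix.ProjectiveSpecialLinearGroup (Fin 2) F) = 24 at hpsl
    omega
  right
  have hidx : R.index = 2 := by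
    have h1 : R.index ≤ 2 := h.index_le
    have h2 : R.index ≠ 1 := fun e => htop (index_eq_one.1 e)
    have h3 : R.index ≠ 0 := index_ne_zero_of_finite
    omega
  have hodd_mem : ∀ g : G, Odd (orderOf g) → g ∈ R := fun g hg =>
    Transfer.mem_pResidual_of_coprime (Nat.coprime_two_right.2 hg)
  have hmul2 : ∀ a b : G, a ∉ R → b ∉ R → a * b ∈ R := fun a b ha hb => by
    rw [mul_mem_iff_of_index_two hidx]
    exact iff_of_false ha hb
  obtain ⟨F, iF, iT, θ, hchar, hcard, hθQ, hθs, hθi, hθ0, hθadd, hDv, hvD⟩ := hL.exists_coord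
  have hq5 : 5 ≤ Fintype.card F := by
    have := hL.card_D; have := hL.two_le; omega
  refine ⟨F, iF, iT, hq5, hcard ▸ hL.odd, ?_⟩
  -- the Frattini argument
  obtain ⟨n, hp, hpn⟩ := FiniteField.card F (ringChar F)
  set p := ringChar F
  haveI := Fact.mk hp
  have hQp : IsPGroup p Q := IsPGroup.of_card (n := n) (by rw [← hcard, hpn])
  have hQi : ¬ p ∣ Q.index := by
    intro hd
    have hq : p ∣ Nat.card Q := by rw [← hcard, hpn]; exact dvd_pow_self p n.pos.ne'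
    have h2 : Nat.card Q * (2 * Q.index) = Nat.card Q * ((Nat.card Q + 1) * (Nat.card Q - 1)) := by
      rw [← mul_assoc, ← mul_assoc, ← hL.card_G, ← Q.card_mul_index]; ring
    have h3 := Nat.eq_of_mul_eq_mul_left Nat.card_pos h2
    have h4 : p ∣ (Nat.card Q + 1) * (Nat.card Q - 1) := h3 ▸ hd.mul_left 2
    rcases hp.dvd_mul.1 h4 with h5 | h5
    · exact hp.not_dvd_one ((Nat.dvd_add_right hq).1 h5)
    · have h6 := Nat.dvd_sub hq h5
      have : 1 ≤ Nat.card Q := Nat.card_pos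
      rw [show Nat.card Q - (Nat.card Q - 1) = 1 by omega] at h6
      exact hp.not_dvd_one h6
  set Qb := Q.map R.subtype with hQb
  set N := normalizer (Qb : Set G) with hN
  have hmemQ : ∀ a : R, (a : G) ∈ Qb ↔ a ∈ Q := fun a =>
    Subgroup.mem_map_iff_mem R.subtype_injective
  have hQbR : ∀ a ∈ Qb, a ∈ R := fun a ha => map_subtype_le Q ha
  have f1 : ∀ m : R, (m : G) ∈ N ↔ m ∈ normalizer (Q : Set R) := by
    intro m
    constructor
    · intro hm
      exact mem_normalizer_fintype fun a ha => (hmemQ _).1 ((mem_normalizer_iff.1 hm _).1 ((hmemQ a).2 ha))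
    · intro hm
      refine mem_normalizer_fintype fun a ha => ?_
      obtain ⟨a, ha', rfl⟩ := ha
      exact (hmemQ (m * a * m⁻¹)).2 ((mem_normalizer_iff.1 hm a).1 ha')
  have f2 : ∀ g : G, ∃ (m : R) (k : G), k ∈ N ∧ g = (m : G) * k := by
    intro g
    have hsup : normalizer ((Q.map R.subtype : Subgroup G) : Set G) ⊔ R = ⊤ :=
      Sylow.normalizer_sup_eq_top (hQp.toSylow hQi)
    have hg : g⁻¹ ∈ ((N ⊔ R : Subgroup G) : Set G) := by
      rw [hN, hQb, hsup]; exact mem_top _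
    rw [coe_mul_of_left_le_normalizer_right N R (by rw [normalizer_eq_top]; exact le_top)] at hg
    obtain ⟨k, hk, m, hm, e⟩ := hg
    refine ⟨⟨m⁻¹, inv_mem hm⟩, k⁻¹, inv_mem hk, ?_⟩
    rw [← inv_inv g, ← e]
    group
  -- the points
  set p₀ : G ⧸ N := ((1 : G) : G ⧸ N) with hp₀
  set o : G ⧸ N := ((u : G) : G ⧸ N) with ho
  let ι₀ : R ⧸ normalizer (Q : Set R) → G ⧸ N := fun z => (((z.out : R) : G) : G ⧸ N)
  have hι : ∀ m : R, ι₀ (m : R ⧸ normalizer (Q : Set R)) = ((m : G) : G ⧸ N) := fun m => by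
    refine QuotientGroup.eq.2 ((f1 (((m : R ⧸ normalizer (Q : Set R)).out)⁻¹ * m)).2 ?_)
    rw [← QuotientGroup.eq, QuotientGroup.out_eq']
  have hιs : ∀ (m : R) z, (m : G) • ι₀ z = ι₀ (m • z) := fun m z => by
    obtain ⟨a, rfl⟩ := QuotientGroup.mk_surjective z
    rw [hι, MulAction.Quotient.smul_coe, MulAction.Quotient.smul_coe, smul_eq_mul, smul_eq_mul]
    exact (hι (m * a)).symm
  have hιi : Function.Injective ι₀ := fun y z e => by
    obtain ⟨a, rfl⟩ := QuotientGroup.mk_surjective y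
    obtain ⟨b, rfl⟩ := QuotientGroup.mk_surjective z
    rw [hι, hι, QuotientGroup.eq] at e
    exact QuotientGroup.eq.2 ((f1 (a⁻¹ * b)).1 e)
  have hιsurj : Function.Surjective ι₀ := fun w => by
    obtain ⟨g, rfl⟩ := QuotientGroup.mk_surjective w
    obtain ⟨m, k, hk, rfl⟩ := f2 g
    exact ⟨m, (hι m).trans (QuotientGroup.eq.2 (by simpa using hk))⟩
  have hι1 : ι₀ ((1 : R) : R ⧸ normalizer (Q : Set R)) = p₀ := by rw [hι, OneMemClass.coe_one]
  have hιu : ι₀ (u : R ⧸ normalizer (Q : Set R)) = o := hι u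
  have hNfix : ∀ g : G, g • p₀ = p₀ ↔ g ∈ N := fun g => by
    rw [hp₀, MulAction.Quotient.smul_coe, smul_eq_mul, mul_one, QuotientGroup.eq, mul_one, inv_mem_iff]
  have hne : o ≠ p₀ := fun e => hL.ne (hιi (by rw [hιu, hι1, e]))
  have hQfix : ∀ x ∈ Q, (x : G) • p₀ = p₀ := fun x hx => by rw [← hι1, hιs, hL.U_fix x hx]
  have hup : (u : G) • p₀ = o := by rw [← hι1, hιs, hL.u_p, hιu]
  have huo : (u : G) • o = p₀ := by rw [← hιu, hιs, hL.u_o, hι1]
  -- the two point stabiliser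
  set G0 : Subgroup G := stabilizer G p₀ ⊓ stabilizer G o with hG0
  have hG0R : ∀ m : R, (m : G) ∈ G0 ↔ m ∈ D := fun m => by
    rw [hL.D_fix, hG0, mem_inf, mem_stabilizer_iff, mem_stabilizer_iff, ← hι1, ← hιu, hιs, hιs,
      hιi.eq_iff, hιi.eq_iff]
  have hG0N : ∀ g ∈ G0, g ∈ N := fun g hg => (hNfix g).1 hg.1
  have hconjQ : ∀ g ∈ G0, ∀ y ∈ Qb, g * y * g⁻¹ ∈ Qb := fun g hg y hy =>
    (mem_normalizer_iff.1 (hG0N g hg) y).1 hy
  have hQc : ∀ x ∈ Qb, ∀ y ∈ Qb, x * y = y * x := by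
    rintro _ ⟨x, hx, rfl⟩ _ ⟨y, hy, rfl⟩
    exact congrArg Subtype.val (hL.U_comm x hx y hy)
  have hQo : ∀ x ∈ Qb, Odd (orderOf x) := by
    rintro _ ⟨x, hx, rfl⟩
    rw [show orderOf (R.subtype x) = orderOf x from orderOf_coe x]
    exact hL.odd.of_dvd_nat (Subgroup.orderOf_dvd_natCard Q hx)
  have hreg : ∀ w : G ⧸ N, w ≠ p₀ → ∃ x ∈ Qb, x • o = w := fun w hw => by
    obtain ⟨z, rfl⟩ := hιsurj w
    obtain ⟨⟨x, hxQ⟩, hx, -⟩ := hL.reg z (fun e => hw (by rw [e, hι1]))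
    exact ⟨x, (hmemQ x).2 hxQ, by rw [← hιu, hιs, hx]⟩
  -- faithfulness
  have hfaith : ∀ g : G, (∀ w : G ⧸ N, g • w = w) → g = 1 := by
    set K := (MulAction.toPermHom G (G ⧸ N)).ker with hK
    have hKR : ∀ k ∈ K, k ∈ R → k = 1 := fun k hk hkR => by
      haveI := hL.faith
      have : (⟨k, hkR⟩ : R) = 1 := FaithfulSMul.eq_of_smul_eq_smul (α := R ⧸ normalizer (Q : Set R))
        fun z => hιi (by
          rw [← hιs, one_smul]
          exact Equiv.congr_fun (MonoidHom.mem_ker.1 hk) (ι₀ z))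
      exact congrArg Subtype.val this
    have hKc : ∀ a b : K, a * b = b * a := fun a b => by
      haveI : IsCyclic (G ⧸ R) := isCyclic_of_prime_card (p := 2) (by rw [← index_eq_card, hidx])
      letI := IsCyclic.commGroup (α := G ⧸ R)
      have h1 : (a : G) * b * (a : G)⁻¹ * (b : G)⁻¹ ∈ R := (QuotientGroup.eq_one_iff _).1 (by
        rw [← QuotientGroup.mk'_apply, map_mul, map_mul, map_mul, map_inv, map_inv, mul_inv_cancel_comm,
          mul_inv_cancel])
      have h2 := hKR _ (Subgroup.mul_mem _ (Subgroup.mul_mem _ (Subgroup.mul_mem _ a.2 b.2) (inv_mem a.2))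
        (inv_mem b.2)) h1
      exact Subtype.ext (mul_inv_eq_iff_eq_mul.1 (mul_inv_eq_one.1 h2))
    have hKbot : K = ⊥ := h.hs K inferInstance (Group.isSolvable_of_comm hKc)
    intro g hg
    have : g ∈ K := MonoidHom.mem_ker.2 (Equiv.ext hg)
    rwa [hKbot, mem_bot] at this
  have hfree : ∀ g ∈ G0, g ≠ 1 → ∀ x ∈ Qb, Commute g x → x = 1 := by
    have hD : ∀ g ∈ G0, g ∈ R → g ≠ 1 → ∀ x ∈ Qb, Commute g x → x = 1 := by
      rintro g hg hgR hg1 _ ⟨x, hx, rfl⟩ hc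
      rcases hL.D_free ⟨g, hgR⟩ ((hG0R ⟨g, hgR⟩).1 hg) x hx
        (Subtype.ext (show g * (x : G) * g⁻¹ = x by
          rw [show g * (x : G) = x * g from hc.eq, mul_inv_cancel_right])) with h' | h'
      · exact absurd (congrArg Subtype.val h') hg1
      · rw [h', map_one]
    intro g hg hg1 x hx hc
    by_cases hgR : g ∈ R
    · exact hD g hg hgR hg1 x hx hc
    by_contra hx1
    obtain ⟨a, b, rfl, ha, hb, ⟨k, hk⟩, hbo⟩ := Transfer.exists_pPart_mul (p := 2) g
    have haR : a ∉ R := fun haR => hgR (Subgroup.mul_mem _ haR (hodd_mem b (Nat.coprime_two_right.1 hbo)))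
    have ha0 : a ∈ G0 := zpowers_le.2 hg ha
    have hac : Commute a x := by
      obtain ⟨i, hi⟩ := mem_zpowers_iff.1 ha
      rw [← hi]; exact hc.zpow_left i
    have ha2 : a * a = 1 := by
      by_contra h2
      exact hx1 (hD _ (Subgroup.mul_mem _ ha0 ha0) (hmul2 a a haR haR) h2 x hx (hac.mul_left hac))
    have haord : orderOf a = 2 := Involution.orderOf_of_sq ha2 (fun e => haR (e ▸ one_mem _))
    refine haR ?_
    rw [hfaith a fun w => ?_]
    · exact one_mem _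
    by_cases hw : w = p₀
    · rw [hw]; exact ha0.1
    obtain ⟨y, hy, rfl⟩ := hreg w hw
    rw [← mul_smul, (h.centralizes_of_commute hQc hQo haord haR (hconjQ a ha0) hx hx1 hac hy).eq,
      mul_smul, show a • o = o from ha0.2]
  have hDcomm : ∀ a ∈ G0, a ∈ R → ∀ b ∈ G0, b ∈ R → Commute a b := fun a ha haR b hb hbR =>
    congrArg Subtype.val (hL.D_comm ⟨a, haR⟩ ((hG0R ⟨a, haR⟩).1 ha) ⟨b, hbR⟩ ((hG0R ⟨b, hbR⟩).1 hb))
  have hinv : ∀ f ∈ G0, f * f = 1 → f ≠ 1 → ∀ y ∈ Qb, f * y * f⁻¹ = y⁻¹ := fun f hf hf2 hf1 y hy =>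
    inverts_of_fpf hQc hf2 (hconjQ f hf) (fun x hx hc => hfree f hf hf1 x hx hc) hy
  obtain ⟨x₁, hx₁, hx₁1⟩ : ∃ x ∈ Qb, x ≠ 1 :=
    ⟨θ 1, (hmemQ _).2 (hθQ 1), fun e => one_ne_zero (hθi (Subtype.ext (by rw [e, hθ0]; rfl)))⟩
  have hinv_eq : ∀ f ∈ G0, f * f = 1 → f ≠ 1 → ∀ g ∈ G0, g * g = 1 → g ≠ 1 → f = g := by
    intro f hf hf2 hf1 g hg hg2 hg1
    by_contra hne
    have hne' : f * g ≠ 1 := fun e => hne (by
      rw [eq_inv_of_mul_eq_one_left e, inv_eq_of_mul_eq_one_right hg2])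
    refine hx₁1 (hfree (f * g) (Subgroup.mul_mem _ hf hg) hne' x₁ hx₁ (mul_inv_eq_iff_eq_mul.1 ?_))
    rw [show f * g * x₁ * (f * g)⁻¹ = f * (g * x₁ * g⁻¹) * f⁻¹ by group, hinv g hg hg2 hg1 x₁ hx₁,
      hinv f hf hf2 hf1 _ (inv_mem hx₁), inv_inv]
  -- a 2-element outside the residual
  obtain ⟨e, he0, heR, k, hek⟩ : ∃ e ∈ G0, e ∉ R ∧ ∃ k, e ^ 2 ^ k = 1 := by
    obtain ⟨g, hg⟩ : ∃ g, g ∉ R := by
      by_contra hall
      push Not at hall
      exact htop (eq_top_iff.2 fun g _ => hall g)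
    obtain ⟨m, k, hk, rfl⟩ := f2 g
    have hkR : k ∉ R := fun hkR => hg (Subgroup.mul_mem _ m.2 hkR)
    have hko : k • o ≠ p₀ := fun e => hne (smul_left_cancel k (e.trans ((hNfix k).2 hk).symm))
    obtain ⟨x, hx, hxo⟩ := hreg _ hko
    have hn0 : x⁻¹ * k ∈ G0 := by
      constructor
      · show (x⁻¹ * k) • p₀ = p₀
        rw [mul_smul, (hNfix k).2 hk, inv_smul_eq_iff]
        obtain ⟨x', hx', rfl⟩ := hx
        exact (hQfix x' hx').symm
      · show (x⁻¹ * k) • o = o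
        rw [mul_smul, ← hxo, inv_smul_smul]
    obtain ⟨a, b, hab, ha, hb, ⟨j, hj⟩, hbo⟩ := Transfer.exists_pPart_mul (p := 2) (x⁻¹ * k)
    refine ⟨a, zpowers_le.2 hn0 ha, fun haR => hkR ?_, j, by rw [← hj, pow_orderOf_eq_one]⟩
    have := Subgroup.mul_mem _ (hQbR x hx) (Subgroup.mul_mem _ haR (hodd_mem b (Nat.coprime_two_right.1 hbo)))
    rwa [← hab, mul_inv_cancel_left] at this
  have he1 : e ≠ 1 := fun e' => heR (e' ▸ one_mem _)
  have heD : ∀ d ∈ G0, d ∈ R → Commute e d := by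
    intro d hd hdR
    by_cases he2 : e * e = 1
    · by_contra hne'
      have hc1 : e * d * e⁻¹ * d⁻¹ ≠ 1 := fun e' =>
        hne' (mul_inv_eq_iff_eq_mul.1 (mul_inv_eq_one.1 e'))
      refine hx₁1 (hfree _ (Subgroup.mul_mem _ (Subgroup.mul_mem _ (Subgroup.mul_mem _ he0 hd) (inv_mem he0))
        (inv_mem hd)) hc1 x₁ hx₁ (mul_inv_eq_iff_eq_mul.1 ?_))
      have hei : e⁻¹ = e := inv_eq_of_mul_eq_one_right he2
      have h1 := hconjQ d⁻¹ (inv_mem hd) x₁ hx₁
      rw [inv_inv] at h1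
      have h2 := hinv e he0 he2 he1 _ h1
      rw [hei] at h2
      calc e * d * e⁻¹ * d⁻¹ * x₁ * (e * d * e⁻¹ * d⁻¹)⁻¹
          = e * (d * (e⁻¹ * (d⁻¹ * x₁ * d) * e) * d⁻¹) * e⁻¹ := by group
        _ = e * x₁⁻¹ * e⁻¹ := by rw [hei, h2]; group
        _ = x₁ := by rw [hinv e he0 he2 he1 _ (inv_mem hx₁), inv_inv]
    · obtain ⟨g, hg⟩ := h.exists_mem_conj hek heR he2
      refine h.commute_comp he1 hg (P.mem he1) ?_
      by_cases hd1 : d = 1
      · exact hd1 ▸ one_mem _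
      have hee : e * e ∈ G0 := Subgroup.mul_mem _ he0 he0
      have heeR : e * e ∈ R := hmul2 e e heR heR
      have hcomp : P.comp (e * e) = P.comp e := P.eq_of_mem he1 he2 (Subgroup.mul_mem _ (P.mem he1) (P.mem he1))
      rcases P.mem_or_eq he2 hd1 (hDcomm _ hee heeR d hd hdR) with h' | ⟨he', hpr⟩
      · exact hcomp ▸ h'
      · have h2 : orderOf (e * e) = 2 := by
          have hdvd : orderOf (e * e) ∣ 2 ^ k := orderOf_dvd_of_pow_eq_one (by
            rw [← pow_two, ← pow_mul, mul_comm, pow_mul, hek, one_pow])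
          exact (Nat.prime_dvd_prime_iff_eq hpr Nat.prime_two).1 (hpr.dvd_of_dvd_pow hdvd)
        have hd2 : orderOf d = 2 := he'.symm.trans h2
        rw [hinv_eq d hd (Involution.mul_self hd2) hd1 _ hee (Involution.mul_self h2) he2]
        exact hcomp ▸ P.mem he2
  have hsplit : ∀ g ∈ G0, g ∉ R → e⁻¹ * g ∈ G0 ∧ e⁻¹ * g ∈ R := fun g hg hgR =>
    ⟨Subgroup.mul_mem _ (inv_mem he0) hg, hmul2 _ _ (fun h' => heR (inv_mem_iff.1 h')) hgR⟩
  -- the action on the coordinates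
  have hθG : ∀ z, (θ z : G) ∈ Qb := fun z => (hmemQ _).2 (hθQ z)
  have hθsG : ∀ x ∈ Qb, ∃ z, (θ z : G) = x := by
    rintro _ ⟨x, hx, rfl⟩
    obtain ⟨z, rfl⟩ := hθs x hx
    exact ⟨z, rfl⟩
  have hθinj : ∀ {y z}, (θ y : G) = θ z → y = z := fun e' => hθi (Subtype.ext e')
  have hDvG : ∀ g ∈ G0, g ∈ R → ∃ v : F, IsSquare v ∧ v ≠ 0 ∧ ∀ z, g * θ z * g⁻¹ = θ (v * z) := by
    intro g hg hgR
    obtain ⟨v, hv, hv0, hvz⟩ := hDv ⟨g, hgR⟩ ((hG0R ⟨g, hgR⟩).1 hg)
    exact ⟨v, hv, hv0, fun z => congrArg Subtype.val (hvz z)⟩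
  have hvDG : ∀ v : F, IsSquare v → v ≠ 0 → ∃ g ∈ G0, g ∈ R ∧ ∀ z, g * θ z * g⁻¹ = θ (v * z) := by
    intro v hv hv0
    obtain ⟨d, hd, hdz⟩ := hvD v hv hv0
    exact ⟨d, (hG0R d).2 hd, d.2, fun z => congrArg Subtype.val (hdz z)⟩
  choose φ hφ using fun z => hθsG _ (hconjQ e he0 _ (hθG z))
  have hφadd : ∀ y z, φ (y + z) = φ y + φ z := fun y z => hθinj (by
    rw [hφ, hθadd, hθadd, Subgroup.coe_mul, Subgroup.coe_mul, hφ, hφ]; group)
  have hφsq : ∀ a z : F, φ (a * a * z) = a * a * φ z := by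
    intro a z
    by_cases ha : a = 0
    · subst ha
      have h0 : φ 0 = 0 := by
        have := hφadd 0 0
        rw [add_zero] at this
        exact left_eq_add.1 this
      simp [h0]
    obtain ⟨d, hd, hdR, hdz⟩ := hvDG (a * a) ⟨a, rfl⟩ (mul_ne_zero ha ha)
    refine hθinj ?_
    have hc := (heD d hd hdR).eq
    rw [hφ, ← hdz, ← hdz, hφ, show e * (d * (θ z : G) * d⁻¹) * e⁻¹ = (e * d) * θ z * (e * d)⁻¹ by group, hc]
    group
  have hφlin : ∀ z, φ z = φ 1 * z := by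
    intro z
    obtain ⟨a, b, hab⟩ := FiniteField.exists_root_sum_quadratic (f := (Polynomial.X : Polynomial F) ^ 2)
      (g := (Polynomial.X : Polynomial F) ^ 2 - Polynomial.C z) (Polynomial.degree_X_pow 2)
      (Polynomial.degree_X_pow_sub_C two_pos z) (by
        rw [← Nat.odd_iff, hcard]; exact hL.odd)
    simp only [Polynomial.eval_pow, Polynomial.eval_X, Polynomial.eval_sub, Polynomial.eval_C] at hab
    have hz : z = a * a * 1 + b * b * 1 := by linear_combination -hab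
    conv_lhs => rw [hz]
    rw [hφadd, hφsq, hφsq]
    linear_combination (φ 1) * hab
  set c := φ 1 with hc
  have hec : ∀ z, e * θ z * e⁻¹ = θ (c * z) := fun z => by rw [← hφlin, hφ]
  have hc0 : c ≠ 0 := fun e0 => by
    have := hec 1
    rw [e0, zero_mul, hθ0, OneMemClass.coe_one] at this
    exact one_ne_zero (hθinj (y := 1) (z := 0) (by rw [hθ0, OneMemClass.coe_one]; exact conj_eq_one_iff.1 this))
  have hcns : ¬ IsSquare c := by
    intro hsq
    obtain ⟨d, hd, hdR, hdz⟩ := hvDG c hsq hc0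
    refine hx₁1 (hfree (d⁻¹ * e) (Subgroup.mul_mem _ (inv_mem hd) he0) (fun e' => heR ?_) x₁ hx₁ ?_)
    · rw [← inv_mul_eq_one.1 e']; exact hdR
    · obtain ⟨z, rfl⟩ := hθsG x₁ hx₁
      refine mul_inv_eq_iff_eq_mul.1 ?_
      rw [show d⁻¹ * e * θ z * (d⁻¹ * e)⁻¹ = d⁻¹ * (e * θ z * e⁻¹) * d by group, hec, ← hdz]
      group
  have hlinR : ∀ g ∈ G0, ∃ v : F, v ≠ 0 ∧ ∀ z, g * θ z * g⁻¹ = θ (v * z) := by
    intro g hg
    by_cases hgR : g ∈ R
    · obtain ⟨v, -, hv0, hvz⟩ := hDvG g hg hgR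
      exact ⟨v, hv0, hvz⟩
    obtain ⟨hg0, hgR'⟩ := hsplit g hg hgR
    obtain ⟨v, -, hv0, hvz⟩ := hDvG _ hg0 hgR'
    refine ⟨c * v, mul_ne_zero hc0 hv0, fun z => ?_⟩
    rw [mul_assoc c v z, ← hec, ← hvz]
    group
  have hallv : ∀ v : F, v ≠ 0 → ∃ g ∈ G0, ∀ z, g * θ z * g⁻¹ = θ (v * z) := by
    intro v hv
    by_cases hsq : IsSquare v
    · obtain ⟨g, hg, -, hgz⟩ := hvDG v hsq hv
      exact ⟨g, hg, hgz⟩
    have h1 : IsSquare (v / c) := by
      refine (quadraticChar_one_iff_isSquare (div_ne_zero hv hc0)).mp ?_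
      have e' : quadraticChar F v = quadraticChar F (v / c) * quadraticChar F c := by
        rw [← map_mul, div_mul_cancel₀ _ hc0]
      rw [quadraticChar_neg_one_iff_not_isSquare.mpr hsq, quadraticChar_neg_one_iff_not_isSquare.mpr hcns] at e'
      linarith
    obtain ⟨g, hg, -, hgz⟩ := hvDG (v / c) h1 (div_ne_zero hv hc0)
    refine ⟨e * g, Subgroup.mul_mem _ he0 hg, fun z => ?_⟩
    rw [show e * g * θ z * (e * g)⁻¹ = e * (g * θ z * g⁻¹) * e⁻¹ by group, hgz, hec, ← mul_assoc,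
      mul_div_cancel₀ _ hc0]
  -- the involution inverts the two point stabiliser
  have huR : (u : G) ∈ R := u.2
  have hu2 : (u : G) * u = 1 := congrArg Subtype.val hL.u_sq
  have hui : (u : G)⁻¹ = u := inv_eq_of_mul_eq_one_right hu2
  have huD : ∀ d ∈ G0, d ∈ R → (u : G) * d * (u : G)⁻¹ = d⁻¹ := fun d hd hdR =>
    congrArg Subtype.val (hL.u_inv ⟨d, hdR⟩ ((hG0R ⟨d, hdR⟩).1 hd))
  have hue0 : (u : G) * e * (u : G)⁻¹ ∈ G0 := by
    constructor
    · show ((u : G) * e * (u : G)⁻¹) • p₀ = p₀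
      rw [hui, mul_smul, mul_smul, hup, show e • o = o from he0.2, huo]
    · show ((u : G) * e * (u : G)⁻¹) • o = o
      rw [hui, mul_smul, mul_smul, huo, show e • p₀ = p₀ from he0.1, hup]
  have hueR : (u : G) * e * (u : G)⁻¹ ∉ R := fun h' => heR (by
    have := Subgroup.Normal.conj_mem (inferInstance : R.Normal) _ h' (u : G)⁻¹
    simpa [mul_assoc] using this)
  have hue : (u : G) * e * (u : G)⁻¹ = e⁻¹ := by
    by_cases he2 : e * e = 1
    · rw [inv_eq_of_mul_eq_one_right he2]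
      refine hinv_eq _ hue0 ?_ (fun e' => he1 (conj_eq_one_iff.1 e')) e he0 he2 he1
      rw [show (u : G) * e * (u : G)⁻¹ * ((u : G) * e * (u : G)⁻¹) = (u : G) * (e * e) * (u : G)⁻¹ by group,
        he2, mul_one, mul_inv_cancel]
    obtain ⟨g, hg⟩ := h.exists_mem_conj hek heR he2
    have hGe : ∀ a ∈ G0, a ∈ P.comp e := by
      have hR : ∀ d ∈ G0, d ∈ R → d ∈ P.comp e := by
        intro d hd hdR
        by_cases hd1 : d = 1
        · exact hd1 ▸ one_mem _
        rcases P.mem_or_eq he1 hd1 (heD d hd hdR) with h' | ⟨he', hpr⟩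
        · exact h'
        · exfalso
          apply he2
          have h2 : orderOf e = 2 := (Nat.prime_dvd_prime_iff_eq hpr Nat.prime_two).1
            (hpr.dvd_of_dvd_pow (orderOf_dvd_of_pow_eq_one hek))
          exact Involution.mul_self h2
      intro a ha
      by_cases haR : a ∈ R
      · exact hR a ha haR
      obtain ⟨ha0, haR'⟩ := hsplit a ha haR
      have := Subgroup.mul_mem _ (P.mem he1) (hR _ ha0 haR')
      rwa [mul_inv_cancel_left] at this
    have huN : (u : G) ∈ normalizer (P.comp e : Set G) :=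
      P.mem_normalizer_of_conj_mem he1 he1 (P.mem he1) (hGe _ hue0)
    refine P.inverts he1 hu2 (fun huC => ?_) huN (P.mem he1)
    have hc2 := h.commute_comp he1 hg huC (Subgroup.mul_mem _ (P.mem he1) (P.mem he1))
    have h3 := huD _ (Subgroup.mul_mem _ he0 he0) (hmul2 e e heR heR)
    rw [hc2.eq, mul_inv_cancel_right] at h3
    have h4 : orderOf (e * e) = 2 := Involution.orderOf_of_sq (by nth_rewrite 1 [h3]; exact inv_mul_cancel _) he2
    have hu1 : (u : G) ≠ 1 := fun e' => hne (by rw [← hup, e', one_smul])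
    have h5 := h.involution_unique he1 hg huC (Subgroup.mul_mem _ (P.mem he1) (P.mem he1))
      (Involution.orderOf_of_sq hu2 hu1) h4
    exact hne (by
      rw [← hup, h5, mul_smul, show e • p₀ = p₀ from he0.1, show e • p₀ = p₀ from he0.1])
  have hu_inv : ∀ g ∈ G0, (u : G) * g * (u : G)⁻¹ = g⁻¹ := by
    intro g hg
    by_cases hgR : g ∈ R
    · exact huD g hg hgR
    obtain ⟨hg0, hgR'⟩ := hsplit g hg hgR
    obtain ⟨d, hd⟩ : ∃ d, d = e⁻¹ * g := ⟨_, rfl⟩
    rw [← hd] at hg0 hgR'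
    rw [show g = e * d by rw [hd, mul_inv_cancel_left],
      show (u : G) * (e * d) * (u : G)⁻¹ = ((u : G) * e * (u : G)⁻¹) * ((u : G) * d * (u : G)⁻¹) by group,
      hue, huD d hg0 hgR', ← mul_inv_rev, (heD d hg0 hgR').eq]
  -- coordinates on the points
  set Pc : F → G ⧸ N := fun z => (θ z : G) • o with hPc
  have hP0 : Pc 0 = o := by rw [hPc]; simp only [hθ0, OneMemClass.coe_one, one_smul]
  have hPne : ∀ z, Pc z ≠ p₀ := fun z e' => hne (smul_left_cancel (θ z : G)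
    (e'.trans (hQfix (θ z) (hθQ z)).symm))
  have hPs : ∀ w, w ≠ p₀ → ∃ z, Pc z = w := fun w hw => by
    obtain ⟨x, hx, rfl⟩ := hreg w hw
    obtain ⟨z, rfl⟩ := hθsG x hx
    exact ⟨z, rfl⟩
  have hPi : Function.Injective Pc := fun y z e' => by
    have h1 := hL.reg ((θ z : R) • (u : R ⧸ normalizer (Q : Set R))) (fun h' => hPne z (by
      show (θ z : G) • o = p₀; rw [← hιu, hιs, h', hι1]))
    refine hθi (congrArg Subtype.val (h1.unique (y₁ := ⟨θ y, hθQ y⟩) (y₂ := ⟨θ z, hθQ z⟩) ?_ rfl))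
    refine hιi ?_
    rw [← hιs, ← hιs, hιu]
    exact e'
  have hdil : ∀ {g v}, g ∈ G0 → (∀ z, g * θ z * g⁻¹ = θ (v * z)) → ∀ z, g • Pc z = Pc (v * z) := by
    intro g v hg hv z
    show g • (θ z : G) • o = (θ (v * z) : G) • o
    rw [← hv, ← mul_smul, mul_smul (g * θ z), inv_smul_eq_iff.2 (show o = g • o from (hg.2).symm)]
  have hex : ∀ z, ∃ y, z ≠ 0 → (u : G) • Pc z = Pc y := by
    intro z
    by_cases hz : (u : G) • Pc z = p₀
    · refine ⟨0, fun hz0 => absurd (hPi (?_ : Pc z = Pc 0)) hz0⟩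
      rw [hP0]
      exact smul_left_cancel (u : G) (hz.trans huo.symm)
    · obtain ⟨y, hy⟩ := hPs _ hz
      exact ⟨y, fun _ => hy.symm⟩
  choose f hf using hex
  set κ := f 1 with hκ
  have hκ0 : κ ≠ 0 := fun e' => by
    have := hf 1 one_ne_zero
    rw [← hκ, e', hP0, ← hup] at this
    exact hPne 1 (smul_left_cancel (u : G) this)
  have hfk : ∀ v, v ≠ 0 → (u : G) • Pc v = Pc (v⁻¹ * κ) := by
    intro v hv
    obtain ⟨g, hg, hgz⟩ := hallv v hv
    obtain ⟨w, hw0, hwz⟩ := hlinR g⁻¹ (inv_mem hg)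
    have hwv : w * v = 1 := hθinj (by rw [← hwz, ← mul_one v, ← hgz]; group)
    calc (u : G) • Pc v = (u : G) • g • Pc 1 := by rw [hdil hg hgz, mul_one]
      _ = g⁻¹ • (u : G) • Pc 1 := by
          have e1 : (u : G) * g = g⁻¹ * u := by rw [← hu_inv g hg]; group
          rw [smul_smul, e1, ← smul_smul]
      _ = Pc (v⁻¹ * κ) := by
          rw [hf 1 one_ne_zero, ← hκ, hdil (inv_mem hg) hwz, eq_inv_of_mul_eq_one_left hwv]
  -- the isomorphism
  let E : Option F → G ⧸ N := fun z => z.elim p₀ Pc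
  let E' : Option F ≃ PSL2.Pt F := Equiv.ofBijective (fun z => z.elim PSL2.pinf PSL2.pt) ⟨by
    rintro (_ | y) (_ | z) e'
    · rfl
    · exact absurd e' (PSL2.pinf_ne_pt z)
    · exact absurd e' (PSL2.pt_ne_pinf y)
    · exact congrArg some (PSL2.pt_injective e'), fun w => by
      rcases PSL2.pt_cases w with rfl | ⟨z, rfl⟩
      · exact ⟨none, rfl⟩
      · exact ⟨some z, rfl⟩⟩
  let ι : PSL2.Pt F → G ⧸ N := fun w => E (E'.symm w)
  have hιinf : ι PSL2.pinf = p₀ := congrArg E (E'.symm_apply_apply none)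
  have hιpt : ∀ z, ι (PSL2.pt z) = Pc z := fun z => congrArg E (E'.symm_apply_apply (some z))
  have hιbij : Function.Bijective ι := by
    constructor
    · intro y z e'
      rcases PSL2.pt_cases y with rfl | ⟨a, rfl⟩ <;> rcases PSL2.pt_cases z with rfl | ⟨b, rfl⟩ <;>
        simp only [hιinf, hιpt] at e'
      · rfl
      · exact absurd e'.symm (hPne b)
      · exact absurd e' (hPne a)
      · exact congrArg _ (hPi e')
    · intro w
      by_cases hw : w = p₀
      · exact ⟨_, hιinf.trans hw.symm⟩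
      · obtain ⟨z, hz⟩ := hPs w hw
        exact ⟨_, (hιpt z).trans hz⟩
  let rel : G → PSL2.PGL2 F → Prop := fun g M => ∀ w, g • ι w = ι (M • w)
  have hrel_mul : ∀ {g g' M M'}, rel g M → rel g' M' → rel (g * g') (M * M') := fun h1 h2 w => by
    rw [mul_smul, h2, h1, mul_smul]
  have hrel_u : rel u (PSL2.mob 0 κ 1 0 (by simp [hκ0])) := by
    intro w
    rcases PSL2.pt_cases w with rfl | ⟨z, rfl⟩
    · rw [hιinf, hup, (PSL2.mob_smul_pinf_eq_pt (y := 0)).2 (by ring), hιpt, hP0]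
    · rw [hιpt]
      by_cases hz : z = 0
      · subst hz
        rw [hP0, huo, PSL2.mob_smul_pt_eq_pinf.2 (by ring), hιinf]
      · rw [hfk z hz, (PSL2.mob_smul_pt_eq_pt (y := z⁻¹ * κ)).2 (by field_simp; ring), hιpt]
  have hrel_θ : ∀ b, rel (θ b) (PSL2.aff 1 b) := by
    intro b w
    rcases PSL2.pt_cases w with rfl | ⟨z, rfl⟩
    · rw [PSL2.aff_smul_pinf, hιinf]; exact hQfix _ (hθQ b)
    · rw [PSL2.aff_smul_pt, hιpt, hιpt]
      show (θ b : G) • (θ z : G) • o = (θ (((1 : Fˣ) : F) * z + b) : G) • o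
      rw [Units.val_one, one_mul, add_comm, hθadd, Subgroup.coe_mul, mul_smul]
  have hrel_dil : ∀ g ∈ G0, ∀ v : Fˣ, (∀ z, g * θ z * g⁻¹ = θ ((v : F) * z)) → rel g (PSL2.aff v 0) := by
    intro g hg v hv w
    rcases PSL2.pt_cases w with rfl | ⟨z, rfl⟩
    · rw [PSL2.aff_smul_pinf, hιinf]; exact hg.1
    · rw [PSL2.aff_smul_pt, hιpt, hιpt, add_zero, hdil hg hv]
  have hrel_fix : ∀ g : G, g • p₀ = p₀ → ∃ M, rel g M := by
    intro g hg
    have hgo : g • o ≠ p₀ := fun e' => hne (smul_left_cancel g (e'.trans hg.symm))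
    obtain ⟨b, hb⟩ := hPs _ hgo
    have hg0 : (θ b : G)⁻¹ * g ∈ G0 := by
      constructor
      · show ((θ b : G)⁻¹ * g) • p₀ = p₀
        rw [mul_smul, hg, inv_smul_eq_iff]
        exact (hQfix _ (hθQ b)).symm
      · show ((θ b : G)⁻¹ * g) • o = o
        rw [mul_smul, ← hb, inv_smul_eq_iff]
    obtain ⟨v, hv0, hv⟩ := hlinR _ hg0
    refine ⟨PSL2.aff 1 b * PSL2.aff (Units.mk0 v hv0) 0, ?_⟩
    have := hrel_mul (hrel_θ b) (hrel_dil _ hg0 (Units.mk0 v hv0) hv)
    rwa [mul_inv_cancel_left] at this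
  have hrel_ex : ∀ g, ∃ M, rel g M := by
    intro g
    by_cases hg : g • p₀ = p₀
    · exact hrel_fix g hg
    obtain ⟨b, hb⟩ := hPs _ hg
    set k := (θ b : G) * u with hk
    obtain ⟨M, hM⟩ := hrel_fix (k⁻¹ * g) (by
      rw [mul_smul, inv_smul_eq_iff, hk, mul_smul, hup, ← hb])
    refine ⟨PSL2.aff 1 b * PSL2.mob 0 κ 1 0 (by simp [hκ0]) * M, ?_⟩
    have := hrel_mul (hrel_mul (hrel_θ b) hrel_u) hM
    rwa [← hk, mul_inv_cancel_left] at this
  have hrel_uniq : ∀ {g M M'}, rel g M → rel g M' → M = M' := fun h1 h2 =>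
    PSL2.eq_of_agree_three (PSL2.pinf_ne_pt 0) (PSL2.pinf_ne_pt 1)
      (fun e' => zero_ne_one (PSL2.pt_injective e'))
      (hιbij.1 ((h1 _).symm.trans (h2 _))) (hιbij.1 ((h1 _).symm.trans (h2 _)))
      (hιbij.1 ((h1 _).symm.trans (h2 _)))
  choose Φ hΦ using hrel_ex
  let ψ : G →* PSL2.PGL2 F := MonoidHom.mk' Φ fun a b => hrel_uniq (hΦ (a * b)) (hrel_mul (hΦ a) (hΦ b))
  have hinj : Function.Injective ψ := by
    rw [← MonoidHom.ker_eq_bot_iff, eq_bot_iff_forall]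
    intro g hg
    refine hfaith g fun w => ?_
    obtain ⟨w, rfl⟩ := hιbij.2 w
    have h1 := hΦ g w
    rwa [show Φ g = 1 from MonoidHom.mem_ker.1 hg, one_smul] at h1
  have hsurj : Function.Surjective ψ := by
    have hmem : ∀ g M, rel g M → M ∈ ψ.range := fun g M hM => ⟨g, hrel_uniq (hΦ g) hM⟩
    have hfix : ∀ M : PSL2.PGL2 F, M • (PSL2.pinf : PSL2.Pt F) = PSL2.pinf → M ∈ ψ.range := by
      intro M hM
      obtain ⟨a, b, rfl⟩ := PSL2.exists_aff_of_fix hM
      obtain ⟨g, hg, hgz⟩ := hallv (a : F) a.ne_zero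
      have := hmem _ _ (hrel_mul (hrel_θ b) (hrel_dil g hg a hgz))
      rwa [PSL2.aff_mul_aff, one_mul, Units.val_one, one_mul, zero_add] at this
    intro M
    rw [← MonoidHom.mem_range]
    rcases PSL2.pt_cases (M • (PSL2.pinf : PSL2.Pt F)) with hM | ⟨b, hM⟩
    · exact hfix M hM
    · set K := PSL2.aff 1 b * PSL2.mob 0 κ 1 0 (by simp [hκ0]) with hK
      have hKmem : K ∈ ψ.range := hmem _ _ (hrel_mul (hrel_θ b) hrel_u)
      have hKp : K • (PSL2.pinf : PSL2.Pt F) = PSL2.pt b := by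
        rw [hK, mul_smul, (PSL2.mob_smul_pinf_eq_pt (y := 0)).2 (by ring), PSL2.aff_smul_pt]
        simp
      have := Subgroup.mul_mem _ hKmem (hfix (K⁻¹ * M) (by rw [mul_smul, hM, inv_smul_eq_iff, hKp]))
      rwa [mul_inv_cancel_left] at this
  exact ⟨MulEquiv.ofBijective ψ ⟨hinj, hsurj⟩⟩

end Split

end Cfsg.Agent.PartCls
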