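/-
A normal member of a partition.

Main results (namespace `Cfsg.Agent.PartCls`): `Part.quotAct`, `Part.iso_quot`, `Part.hughes_or_frobenius`
(Hughes or Frobenius), `Part.index_prime`.
-/
import Cfsg.Agent.Lib.PartitionClass.Iso
import Cfsg.Agent.Lib.PartitionClass.Local

set_option autoImplicit false

namespace Cfsg.Agent.PartCls

open Subgroup
open scoped IsMulCommutative

universe u

variable {G : Type u} [Group G] [Finite G]

omit [Finite G] in
/-- The action of `G ⧸ K` on the central elements of `K` of order dividing `p`. -/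
def quotAct (K : Subgroup G) [K.Normal] (p : ℕ) : G ⧸ K →* MulAut (omegaZ K p) :=
  QuotientGroup.lift K (MulAut.conjNormal (H := omegaZ K p)) fun k hk =>
    MonoidHom.mem_ker.2 (MulEquiv.ext fun v => Subtype.ext (by
      rw [MulAut.conjNormal_apply, MulAut.one_apply, ← (v.2.2.2 k hk).eq, mul_inv_cancel_right]))

omit [Finite G] in
theorem quotAct_mk (K : Subgroup G) [K.Normal] (p : ℕ) (g : G) :
    quotAct K p (QuotientGroup.mk' K g) = MulAut.conjNormal g := rfl

omit [Finite G] in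
theorem commute_of_fixed (K : Subgroup G) [K.Normal] (p : ℕ) {g : G} {v : omegaZ K p}
    (h : quotAct K p (QuotientGroup.mk' K g) v = v) : Commute g (v : G) := by
  have h := congrArg Subtype.val h
  rw [quotAct_mk, MulAut.conjNormal_apply] at h
  exact mul_inv_eq_iff_eq_mul.1 h

namespace Part

variable (P : Part G) {x : G} (hx : x ≠ 1) [(P.comp x).Normal]
include P hx

theorem orderOf_mk {z : G} (hz : z ∉ P.comp x) :
    orderOf (QuotientGroup.mk' (P.comp x) z) = orderOf z := by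
  refine Nat.dvd_antisymm (orderOf_map_dvd _ z) (orderOf_dvd_of_pow_eq_one ?_)
  refine P.pow_eq_one_of_mem hx hz ?_
  rw [← QuotientGroup.eq_one_iff, ← QuotientGroup.mk'_apply, map_pow, pow_orderOf_eq_one]

theorem iso_quot (hN : Group.IsNilpotent (P.comp x)) {p : ℕ} (hp : p.Prime)
    (hd : p ∣ Nat.card (P.comp x)) : Iso p (G ⧸ P.comp x) := by
  intro w hw
  obtain ⟨z, rfl⟩ := QuotientGroup.mk'_surjective (P.comp x) w
  have hz : z ∉ P.comp x := fun h => hp.not_dvd_one (by
    rwa [QuotientGroup.mk'_apply, (QuotientGroup.eq_one_iff _).2 h, orderOf_one] at hw)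
  rw [P.orderOf_mk hx hz] at hw ⊢
  exact P.orderOf_eq_of_dvd hx hN hp hd (by rw [normalizer_eq_top]; trivial) hz hw

theorem not_mem_of_prime {z : G} (h : (orderOf (QuotientGroup.mk' (P.comp x) z)).Prime) : z ∉ P.comp x :=
  fun hz => Nat.not_prime_one (by
    rwa [QuotientGroup.mk'_apply, (QuotientGroup.eq_one_iff _).2 hz, orderOf_one] at h)

theorem norm_quot (p : ℕ) {y : G ⧸ P.comp x} {q : ℕ} (hq : q.Prime) (hy : orderOf y = q)
    (v : omegaZ (P.comp x) p) : ∏ i ∈ Finset.range q, quotAct (P.comp x) p (y ^ i) v = 1 := by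
  obtain ⟨z, rfl⟩ := QuotientGroup.mk'_surjective (P.comp x) y
  have key : ∀ g : G, QuotientGroup.mk' (P.comp x) g = QuotientGroup.mk' (P.comp x) z → g ^ q = 1 := by
    intro g hg
    have hq' : orderOf (QuotientGroup.mk' (P.comp x) g) = q := hg ▸ hy
    rw [← hy, ← hg, P.orderOf_mk hx (P.not_mem_of_prime hx (hq' ▸ hq)), pow_orderOf_eq_one]
  refine Subtype.ext ?_
  simp only [← map_pow, quotAct_mk]
  rw [coe_prod_conj, key ((v : G) * z) ?_, key z rfl, inv_one, mul_one]
  · rfl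
  · rw [map_mul, QuotientGroup.mk'_apply, (QuotientGroup.eq_one_iff _).2 v.2.1, one_mul]

theorem fpf_quot {p : ℕ} (hp : p.Prime) {z : G ⧸ P.comp x} (hz : z ≠ 1) (hzp : ¬ p ∣ orderOf z)
    {v : omegaZ (P.comp x) p} (h : quotAct (P.comp x) p z v = v) : v = 1 := by
  haveI := Fact.mk hp
  obtain ⟨g, rfl⟩ := QuotientGroup.mk'_surjective (P.comp x) z
  have hg : g ∉ P.comp x := fun h' => hz ((QuotientGroup.eq_one_iff g).2 h')
  have hc := commute_of_fixed _ _ h
  by_contra hv
  have hv1 : (v : G) ≠ 1 := fun e => hv (Subtype.ext e)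
  have hg1 : g ≠ 1 := fun e => hg (e ▸ one_mem _)
  rcases P.mem_or_eq hv1 hg1 hc.symm with h' | h'
  · exact hg (P.eq_of_mem hx hv1 v.2.1 ▸ h')
  · refine hzp (dvd_of_eq ?_)
    rw [P.orderOf_mk hx hg, ← h'.1]
    exact (orderOf_eq_prime v.2.2.1 hv1).symm

/-- A group with a normal member of the partition has a proper Hughes subgroup or is a Frobenius group. -/
theorem hughes_or_frobenius :
    (∃ p : ℕ, p.Prime ∧ Subgroup.closure {g : G | g ^ p ≠ 1} ≠ ⊤) ∨
      ∃ A : Subgroup G, Cfsg.IsFrobeniusComplement A := by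
  classical
  set K := P.comp x with hK
  by_cases hfpf : ∀ g ∉ K, ∀ w ∈ K, Commute g w → w = 1
  · exact Or.inr (exists_frobenius_of_fpf (P.comp_ne_bot hx) (P.ne_top hx) hfpf)
  push Not at hfpf
  obtain ⟨y, hy, w, hw, hc, hw1⟩ := hfpf
  obtain ⟨hN, hp, hyw⟩ := P.isNilpotent_of_commute hx
    (by rw [normalizer_eq_top]; trivial) hy hw hw1 hc
  set p := orderOf y
  haveI := Fact.mk hp
  have hd : p ∣ Nat.card K := hyw ▸ Subgroup.orderOf_dvd_natCard K hw
  have hI := P.iso_quot hx hN hp hd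
  obtain ⟨v, hv, hvo⟩ := exists_omegaZ hN hp hd
  haveI : Nontrivial (omegaZ K p) := ⟨⟨⟨v, hv⟩, 1, fun e => hp.one_lt.ne (by
    rw [← hvo, show v = 1 from congrArg Subtype.val e, orderOf_one])⟩⟩
  have hU : Cfsg.pCore p (G ⧸ K) ≠ ⊥ := fun hbot =>
    hI.not_dvd (ρ := quotAct K p) hp (fun v => Subtype.ext v.2.2.1)
      (fun z hz hzp v h => P.fpf_quot hx hp hz hzp h) (fun y hy v => P.norm_quot hx p hp hy v) hbot
      (by rw [show p = orderOf (QuotientGroup.mk' K y) from (P.orderOf_mk hx hy).symm]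
          exact orderOf_dvd_natCard _)
  set U := Cfsg.pCore p (G ⧸ K)
  have hUp : IsPGroup p U := Cores.isPGroup_pCore p _
  by_cases htop : U = ⊤
  · refine Or.inl ⟨p, hp, fun hcl => P.ne_top hx (top_le_iff.1 (hcl ▸ (closure_le _).2 ?_))⟩
    intro g hg
    by_contra hgK
    obtain ⟨k, hk⟩ := hUp ⟨QuotientGroup.mk' K g, htop ▸ mem_top _⟩
    have hne : QuotientGroup.mk' K g ≠ 1 := fun e => hgK ((QuotientGroup.eq_one_iff g).1 e)
    have := hI.orderOf_eq hp hne (congrArg Subtype.val hk)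
    rw [P.orderOf_mk hx hgK] at this
    exact hg (by rw [← this, pow_orderOf_eq_one])
  refine Or.inr ?_
  haveI : U.Normal := Cores.pCore_normal p _
  set W := U.comap (QuotientGroup.mk' K)
  refine exists_frobenius_of_fpf (W := W) (fun e => P.comp_ne_bot hx (le_bot_iff.1 (e ▸ ?_))) (fun e => htop ?_) ?_
  · intro k hk
    show QuotientGroup.mk' K k ∈ U
    rw [QuotientGroup.mk'_apply, (QuotientGroup.eq_one_iff _).2 hk]
    exact one_mem _
  · exact top_le_iff.1 fun g _ => by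
      obtain ⟨g, rfl⟩ := QuotientGroup.mk'_surjective K g
      exact (e.ge (mem_top g) : g ∈ W)
  intro g hg w hw hgw
  by_contra hw1
  have hgK : g ∉ K := fun h => hg (show QuotientGroup.mk' K g ∈ U by
    rw [QuotientGroup.mk'_apply, (QuotientGroup.eq_one_iff _).2 h]; exact one_mem _)
  have hgU : QuotientGroup.mk' K g ∉ U := hg
  have hgp : ¬ p ∣ orderOf (QuotientGroup.mk' K g) := by
    intro h
    have hle : U ≤ U ⊔ zpowers (QuotientGroup.mk' K g) := le_sup_left
    have ho := hI _ h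
    -- `p` does not divide the index of `U`
    refine hI.not_dvd_index hp hU ?_
    have h1 : orderOf (QuotientGroup.mk' U (QuotientGroup.mk' K g)) = p := orderOf_eq_prime
      (by rw [← map_pow, ← ho, pow_orderOf_eq_one, map_one]) fun e => hgU ((QuotientGroup.eq_one_iff _).1 e)
    have h2 := orderOf_dvd_natCard (G := (G ⧸ K) ⧸ U) (QuotientGroup.mk' U (QuotientGroup.mk' K g))
    rw [h1] at h2
    rwa [index_eq_card]
  by_cases hwK : w ∈ K
  · have hg1 : g ≠ 1 := fun e => hgK (e ▸ one_mem _)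
    obtain ⟨he, hq⟩ := (P.mem_or_eq hw1 hg1 hgw.symm).resolve_left
      fun h => hgK ((P.eq_of_mem hx hw1 hwK).le h)
    haveI := Fact.mk hq
    have hIq := P.iso_quot hx hN hq (Subgroup.orderOf_dvd_natCard K hwK)
    have hqg : orderOf (QuotientGroup.mk' K g) = orderOf w := by rw [P.orderOf_mk hx hgK, he]
    have hqp : orderOf w ≠ p := fun e => hgp (dvd_of_eq (e ▸ hqg.symm))
    obtain ⟨c, hc', hco⟩ := exists_omegaZ hN hq (Subgroup.orderOf_dvd_natCard K hwK)
    haveI : Nontrivial (omegaZ K (orderOf w)) := ⟨⟨⟨c, hc'⟩, 1, fun e => hq.one_lt.ne (by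
      rw [← hco, show c = 1 from congrArg Subtype.val e, orderOf_one])⟩⟩
    have hUq : Cfsg.pCore (orderOf w) (G ⧸ K) ≠ ⊥ := fun hbot =>
      hIq.not_dvd (ρ := quotAct K (orderOf w)) hq (fun v => Subtype.ext v.2.2.1)
        (fun z hz hzp v h => P.fpf_quot hx hq hz hzp h) (fun y hy v => P.norm_quot hx _ hq hy v) hbot
        (hqg ▸ orderOf_dvd_natCard _)
    obtain ⟨⟨a, ha⟩, ha1⟩ := ne_bot_iff_exists_ne_one.1 hU
    obtain ⟨⟨b, hb⟩, hb1⟩ := ne_bot_iff_exists_ne_one.1 hUq
    have ha1' : a ≠ 1 := fun e => ha1 (Subtype.ext e)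
    have hb1' : b ≠ 1 := fun e => hb1 (Subtype.ext e)
    obtain ⟨k, hk⟩ := hUp ⟨a, ha⟩
    obtain ⟨j, hj⟩ := Cores.isPGroup_pCore (orderOf w) (G ⧸ K) ⟨b, hb⟩
    have hao := hI.orderOf_eq hp ha1' (congrArg Subtype.val hk)
    have hbo := hIq.orderOf_eq hq hb1' (congrArg Subtype.val hj)
    refine hb1' (hI.eq_one_of_commute hp hao ?_ (Cores.pCore_commute hqp hb ha))
    rw [hbo]
    exact fun h => hqp ((Nat.prime_dvd_prime_iff_eq hp hq).1 h).symm
  · have hne : QuotientGroup.mk' K w ≠ 1 := fun e => hwK ((QuotientGroup.eq_one_iff w).1 e)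
    obtain ⟨k, hk⟩ := hUp ⟨_, (hw : QuotientGroup.mk' K w ∈ U)⟩
    refine hgU (?_ : QuotientGroup.mk' K g ∈ U)
    rw [hI.eq_one_of_commute hp (hI.orderOf_eq hp hne (congrArg Subtype.val hk)) hgp (hgw.map _)]
    exact one_mem _

/-- If the nilpotent member `K` contains all involutions, centrally, and `G ⧸ K` acts regularly on
them, its index is prime. -/
theorem index_prime (hN : Group.IsNilpotent (P.comp x)) {p : ℕ} (hp : p.Prime)
    (hd : p ∣ Nat.card (P.comp x)) (hpi : p ∣ (P.comp x).index) (hodd : Odd (P.comp x).index) {t : G}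
    (ht : t ∈ omegaZ (P.comp x) 2) (ht1 : t ≠ 1)
    (hreg : ∀ g ∉ P.comp x, ∀ v ∈ omegaZ (P.comp x) 2, Commute g v → v = 1) :
    (P.comp x).index = p := by
  classical
  set K := P.comp x with hK
  haveI := Fact.mk hp
  have hI := P.iso_quot hx hN hp hd
  set ρ := quotAct K 2
  have hp2 : p ≠ 2 := fun e => by
    subst e
    exact (Nat.not_even_iff_odd.2 hodd) (even_iff_two_dvd.2 hpi)
  have hfpf : ∀ z : G ⧸ K, z ≠ 1 → ∀ v, ρ z v = v → v = 1 := by
    intro z hz v h
    obtain ⟨g, rfl⟩ := QuotientGroup.mk'_surjective K z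
    exact Subtype.ext (hreg g (fun h' => hz ((QuotientGroup.eq_one_iff g).2 h')) v v.2 (commute_of_fixed _ _ h))
  haveI := OddOrderTheorem.solvable (G := G ⧸ K) (by rw [← index_eq_card]; exact hodd)
  obtain ⟨y, hy⟩ := exists_prime_orderOf_dvd_card' (G := G ⧸ K) p (by rwa [← index_eq_card])
  haveI : Nontrivial (G ⧸ K) := ⟨⟨y, 1, fun e => hp.one_lt.ne' (by rw [← hy, e, orderOf_one])⟩⟩
  set v : omegaZ K 2 := ⟨t, ht⟩
  have hv1 : v ≠ 1 := fun e => ht1 (congrArg Subtype.val e)
  have hvsq : v ^ 2 = 1 := Subtype.ext (by rw [SubgroupClass.coe_pow]; exact v.2.2.1)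
  have hodd2 : ∀ n, Odd n → v ^ n ≠ 1 := fun n ⟨k, hk⟩ e => hv1 (by
    rwa [hk, pow_succ, pow_mul, hvsq, one_pow, one_mul] at e)
  have hnorm : ∀ q, q.Prime → ∀ w : G ⧸ K, orderOf w = q → ∀ v, ∏ i ∈ Finset.range q, ρ (w ^ i) v = 1 :=
    fun q hq w hw v => P.norm_quot hx 2 hq hw v
  have hoddcard : ∀ M : Subgroup (G ⧸ K), Odd (Nat.card M) := fun M =>
    Odd.of_dvd_nat (by rw [← index_eq_card]; exact hodd) (card_subgroup_dvd_card M)
  have hconj : ∀ m w : G ⧸ K, orderOf (m * w * m⁻¹) = orderOf w := fun m w => Involution.orderOf_conj m w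
  -- no core of another prime
  obtain ⟨r, hr, -, hM⟩ := FourPrimes.exists_pCore_ne_bot (G ⧸ K)
  have hrp : r = p := by
    by_contra hne
    haveI := Fact.mk hr
    haveI : (Cfsg.pCore r (G ⧸ K)).Normal := Cores.pCore_normal r _
    refine hodd2 _ (hoddcard _) (pow_card_eq_one ρ hM hp (y := y) (by rw [← hy, pow_orderOf_eq_one])
      (by rw [normalizer_eq_top]; trivial) (fun m hm hc => hI.eq_one_of_commute hp hy (fun h => hne ?_) hc)
      (fun m _ hm1 => hfpf m hm1) (fun m _ => hnorm p hp _ ((hconj m y).trans hy)) v)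
    obtain ⟨k, hk⟩ := Cores.isPGroup_pCore r (G ⧸ K) ⟨m, hm⟩
    exact ((Nat.prime_dvd_prime_iff_eq hp hr).1
      (hp.dvd_of_dvd_pow (h.trans (orderOf_dvd_of_pow_eq_one (congrArg Subtype.val hk))))).symm
  subst hrp
  set U := Cfsg.pCore r (G ⧸ K)
  have hUp : IsPGroup r U := Cores.isPGroup_pCore r _
  haveI : Nontrivial U := (nontrivial_iff_ne_bot U).2 hM
  haveI := hUp.center_nontrivial
  obtain ⟨⟨⟨z, hzU⟩, hzc⟩, hz1⟩ := exists_ne (1 : center U)
  have hz1' : z ≠ 1 := fun e => hz1 (Subtype.ext (Subtype.ext e))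
  obtain ⟨k, hk⟩ := hUp ⟨z, hzU⟩
  have hzo := hI.orderOf_eq hp hz1' (congrArg Subtype.val hk)
  -- two commuting elements of order `r` generate a cyclic group
  have hcyc : ∀ a, orderOf a = r → Commute a z → a ∈ zpowers z := by
    intro a ha hc
    by_contra hn
    refine hodd2 r ((Nat.Prime.eq_two_or_odd' hp).resolve_left hp2) (pow_prime_eq_one ρ hp hc.symm
      (a := z) (b := a) (fun j hj hjr => ?_) (fun i _ => ?_) v)
    · refine hnorm r hp _ ?_
      rw [orderOf_pow, ha, (hp.coprime_iff_not_dvd.2 fun h =>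
        absurd (Nat.le_of_dvd hj h) (not_le.2 hjr)).gcd_eq_one, Nat.div_one]
    · refine hnorm r hp _ (orderOf_eq_prime ?_ fun e => hn ?_)
      · rw [(hc.symm.pow_right i).mul_pow, ← pow_mul, mul_comm i, pow_mul, ← ha, pow_orderOf_eq_one, ha,
          ← hzo, pow_orderOf_eq_one, one_pow, mul_one]
      · have hi : a ^ i = z⁻¹ := eq_inv_of_mul_eq_one_right e
        have hir : i.Coprime (orderOf a) := by
          rw [ha]
          refine (hp.coprime_iff_not_dvd.2 fun hri => hz1' ?_).symm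
          obtain ⟨l, rfl⟩ := hri
          rw [pow_mul, ← ha, pow_orderOf_eq_one, one_pow, eq_comm, inv_eq_one] at hi
          exact hi
        obtain ⟨l, hl⟩ := exists_pow_eq_self_of_coprime hir
        rw [← hl, hi]
        exact pow_mem (inv_mem (mem_zpowers z)) l
  have hUle : U ≤ zpowers z := fun a ha => by
    by_cases ha1 : a = 1
    · exact ha1 ▸ one_mem _
    obtain ⟨l, hl⟩ := hUp ⟨a, ha⟩
    exact hcyc a (hI.orderOf_eq hp ha1 (congrArg Subtype.val hl))
      (congrArg Subtype.val (mem_center_iff.1 hzc ⟨a, ha⟩))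
  haveI : U.Normal := Cores.pCore_normal r _
  have hnorm' : ∀ g, g ∈ normalizer ((zpowers z : Subgroup (G ⧸ K)) : Set (G ⧸ K)) := fun g =>
    mem_normalizer_fintype fun w hw => hUle (Subgroup.Normal.conj_mem inferInstance w
      (zpowers_le.2 hzU hw) g)
  have htop : (⊤ : Subgroup (G ⧸ K)) = zpowers z := by
    refine le_antisymm (fun g _ => ?_) le_top
    by_contra hg
    have hg1 : g ≠ 1 := fun e => hg (e ▸ one_mem _)
    by_cases hrg : r ∣ orderOf g
    · have hgo := hI g hrg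
      -- an element of order `r` normalising the cyclic group centralises it
      refine hg (hcyc g hgo ?_)
      have hG : IsPGroup r (zpowers g) := IsPGroup.of_card (n := 1) (by rw [Nat.card_zpowers, hgo, pow_one])
      obtain ⟨w, ⟨hw, hw1⟩, hwf⟩ := Signalizer.exists_fixed_mem hG {w : G ⧸ K | w ∈ zpowers z ∧ w ≠ 1} (by
          have e : {w : G ⧸ K | w ∈ zpowers z ∧ w ≠ 1} = (zpowers z : Set (G ⧸ K)) \ {1} := rfl
          rw [e, Nat.card_coe_set_eq, Set.ncard_sdiff_singleton_of_mem (one_mem _), ← Nat.card_coe_set_eq,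
            SetLike.coe_sort_coe, Nat.card_zpowers, hzo]
          intro h
          have h2 := hp.two_le
          have := Nat.le_of_dvd (by omega) h
          omega)
        (fun a _ w hw => ⟨(mem_normalizer_iff.1 (hnorm' a) w).1 hw.1, fun e => hw.2 (conj_eq_one_iff.1 e)⟩)
      have hcw : Commute g w := mul_inv_eq_iff_eq_mul.1 (hwf g (mem_zpowers g))
      obtain ⟨i, rfl⟩ := (Submonoid.mem_powers_iff _ _).1 (mem_powers_iff_mem_zpowers.2 hw)
      have hcop : i.Coprime (orderOf z) := by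
        rw [hzo]
        refine (hp.coprime_iff_not_dvd.2 fun h => hw1 ?_).symm
        rw [← orderOf_dvd_iff_pow_eq_one, hzo]
        exact h
      obtain ⟨l, hl⟩ := exists_pow_eq_self_of_coprime hcop
      rw [← hl]
      exact hcw.pow_right l
    · obtain ⟨q, hq, hqg⟩ := Nat.exists_prime_and_dvd fun e => hg1 (orderOf_eq_one_iff.1 e)
      have hqr : q ≠ r := fun e => hrg (e ▸ hqg)
      have hgo : orderOf (g ^ (orderOf g / q)) = q := orderOf_pow_orderOf_div (orderOf_pos g).ne' hqg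
      refine hodd2 _ (hoddcard _) (pow_card_eq_one ρ (M := zpowers z) (zpowers_ne_bot.2 hz1') hq
        (orderOf_dvd_iff_pow_eq_one.1 (dvd_of_eq hgo)) (hnorm' (g ^ (orderOf g / q))) (fun m hm hc => ?_)
        (fun m _ hm1 => hfpf m hm1) (fun m _ => hnorm q hq _ ((hconj m _).trans hgo)) v)
      by_contra hm1
      obtain ⟨i, rfl⟩ := mem_zpowers_iff.1 hm
      have hmo : orderOf (z ^ i) = r := orderOf_eq_prime (by
        rw [← zpow_natCast, ← zpow_mul, mul_comm, zpow_mul, zpow_natCast, ← hzo, pow_orderOf_eq_one, one_zpow]) hm1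
      have h1 := hI.eq_one_of_commute hp hmo
        (fun h => hqr ((Nat.prime_dvd_prime_iff_eq hp hq).1 (hgo ▸ h)).symm) hc.symm
      rw [h1, orderOf_one] at hgo
      exact hq.one_lt.ne hgo
  rw [index_eq_card, ← card_top, htop, Nat.card_zpowers, hzo]

end Part

end Cfsg.Agent.PartCls
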