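/-
A member containing the centraliser of a central involution.

Main results (namespace `Cfsg.Agent.PartCls`): `Closed` (the hypotheses), `Closed.se`, `Closed.tiHyp`,
`Closed.two_mem`, `exists_normal_index`, `classify_tiHyp'`.
-/
import Cfsg.Agent.Lib.PartitionClass.Local
import Cfsg.Agent.Lib.Involution.SEOrbit
import Cfsg.Agent.Lib.FrobSystem.Main
import Cfsg.Agent.Lib.FrobSystem.SuzukiIdent

set_option autoImplicit false

namespace Cfsg.Agent.PartCls

open Subgroup

universe u

variable {G : Type u} [Group G] [Finite G]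

/-- A member `comp t` containing the centraliser of the involution `t`, central in a Sylow 2-subgroup. -/
structure Closed (P : Part G) (t : G) : Prop where
  hs : InvertedOdd.NoSolvableNormal G
  nn : ∀ x, x ≠ 1 → ¬ (P.comp x).Normal
  two : orderOf t = 2
  sylow : ∃ S : Sylow 2 G, ∀ s ∈ (S : Subgroup G), Commute s t
  cent : centralizer ({t} : Set G) ≤ P.comp t

namespace Closed

variable {P : Part G} {t : G} (h : Closed P t)
include h

theorem t_ne : t ≠ 1 := Involution.ne_one h.two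

theorem t_mem : t ∈ P.comp t := P.mem h.t_ne

theorem mem_of_commute_t {g : G} (hg : Commute g t) : g ∈ P.comp t :=
  h.cent (mem_centralizer_singleton_iff.2 hg.eq)

theorem sylow_le : ∃ S : Sylow 2 G, (S : Subgroup G) ≤ P.comp t := by
  obtain ⟨S, hS⟩ := h.sylow
  exact ⟨S, fun s hsS => h.mem_of_commute_t (hS s hsS)⟩

theorem normalizer_ne_top : normalizer (P.comp t : Set G) ≠ ⊤ := fun e =>
  h.nn t h.t_ne (normalizer_eq_top_iff.1 e)

theorem two_mem {g : G} (hg : g ∈ normalizer (P.comp t : Set G)) {k : ℕ} (hk : g ^ 2 ^ k = 1) :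
    g ∈ P.comp t := by
  obtain ⟨S, hS⟩ := h.sylow_le
  set X := normalizer (P.comp t : Set G)
  haveI : ((P.comp t).subgroupOf X).Normal := Cores.subgroupOf_normal_of_le_normalizer le_rfl
  have hodd : ¬ 2 ∣ ((P.comp t).subgroupOf X).index := fun hd =>
    S.not_dvd_index ((hd.trans (relIndex_dvd_index_of_le le_normalizer)).trans (index_dvd_of_le hS))
  have h1 : orderOf (QuotientGroup.mk' ((P.comp t).subgroupOf X) ⟨g, hg⟩) ∣ 2 ^ k :=
    orderOf_dvd_of_pow_eq_one (by rw [← map_pow, show (⟨g, hg⟩ : X) ^ 2 ^ k = 1 from Subtype.ext hk, map_one])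
  have h2 : orderOf (QuotientGroup.mk' ((P.comp t).subgroupOf X) ⟨g, hg⟩) ∣ ((P.comp t).subgroupOf X).index := by
    rw [index_eq_card]
    exact _root_.orderOf_dvd_natCard _
  have h3 := Nat.eq_one_of_dvd_coprimes
    (Nat.Coprime.pow_left k ((Nat.prime_two.coprime_iff_not_dvd).2 hodd)) h1 h2
  exact (QuotientGroup.eq_one_iff (N := (P.comp t).subgroupOf X) _).1 (orderOf_eq_one_iff.1 h3)

theorem inv_mem {g : G} (hg : g ∈ normalizer (P.comp t : Set G)) (h2 : orderOf g = 2) : g ∈ P.comp t :=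
  h.two_mem hg (k := 1) (by rw [pow_one, ← h2, pow_orderOf_eq_one])

theorem mem_of_conj {g a : G} (ha : a ∈ P.comp t) (ha1 : a ≠ 1) (hg : g * a * g⁻¹ ∈ P.comp t) :
    g ∈ normalizer (P.comp t : Set G) := P.mem_normalizer_of_conj_mem h.t_ne ha1 ha hg

theorem se : Cfsg.IsStronglyEmbedded (normalizer (P.comp t : Set G)) :=
  Involution.isStronglyEmbedded_iff_forall.2 ⟨h.normalizer_ne_top,
    even_iff_two_dvd.2 (h.two ▸ orderOf_dvd_natCard _ (le_normalizer h.t_mem)),
    fun g a ha haX hg => h.mem_of_conj (h.inv_mem haX ha) (Involution.ne_one ha)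
      (h.inv_mem hg (by rw [Involution.orderOf_conj, ha]))⟩

theorem mem_normalizer_of_commute {g a : G} (ha : a ∈ P.comp t) (ha1 : a ≠ 1) (hc : Commute g a) :
    g ∈ normalizer (P.comp t : Set G) :=
  h.mem_of_conj ha ha1 (by rwa [hc.eq, mul_inv_cancel_right])

/-- The good case. -/
theorem tiHyp (hcent : ∀ a ∈ P.comp t, a ≠ 1 → ∀ g, Commute g a → g ∈ P.comp t) :
    FrobSystem.TIHyp (normalizer (P.comp t : Set G)) (P.comp t) where
  le := le_normalizer
  normal _ hm _ hx := P.conj_mem hm hx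
  fpf a _ han x hx hc := by
    by_contra hx1
    exact han (hcent x hx hx1 a hc.symm)
  ti g hg x hx hgx := by
    by_contra hx1
    exact hg (h.mem_of_conj hx hx1 hgx)
  invol := ⟨t, h.t_mem, h.two⟩
  ne_top := h.normalizer_ne_top

/-- The involutions of the normaliser are conjugate in it. -/
theorem exists_conj {a : G} (ha : a ∈ normalizer (P.comp t : Set G)) (ha2 : orderOf a = 2) :
    ∃ g ∈ normalizer (P.comp t : Set G), g * t * g⁻¹ = a :=
  Involution.exists_conj_in h.se h.two (le_normalizer h.t_mem) ha2 ha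

/-- An involution carrying a conjugate of the normaliser back. -/
theorem exists_swap {g : G} (hg : g ∉ normalizer (P.comp t : Set G)) :
    ∃ u, orderOf u = 2 ∧ g⁻¹ * u ∈ normalizer (P.comp t : Set G) := by
  set X := normalizer (P.comp t : Set G) with hX
  have hne : ((1 : G) : G ⧸ X) ≠ (g : G ⧸ X) := fun e => hg (by simpa using QuotientGroup.eq.1 e)
  have hcard := Involution.card_swapping h.se hne
  haveI : Nonempty {a : G // orderOf a = 2 ∧ a ∈ X} := ⟨⟨t, h.two, le_normalizer h.t_mem⟩⟩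
  obtain ⟨⟨u, hu, hux⟩⟩ := (Nat.card_pos_iff.1 (hcard.symm ▸ Nat.card_pos)).1
  refine ⟨u, hu, ?_⟩
  rw [MulAction.Quotient.smul_coe, smul_eq_mul, mul_one, eq_comm, QuotientGroup.eq] at hux
  exact hux

end Closed

/-- Transfer into a subgroup of index `p` of a Sylow subgroup containing the focal subgroup. -/
theorem exists_normal_index {p : ℕ} [hp : Fact p.Prime] (R : Sylow p G) (R₀ : Subgroup G)
    (hle : R₀ ≤ R) (hidx : R₀.relIndex (R : Subgroup G) = p)
    (hfoc : (R : Subgroup G) ⊓ commutator G ≤ R₀) :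
    ∃ M : Subgroup G, M.Normal ∧ M.index = p ∧ (R : Subgroup G) ⊓ M = R₀ := by
  set R' := R₀.subgroupOf (R : Subgroup G) with hR'
  have hfR : (R : Subgroup G).focalSubgroupOf ≤ R' := fun a ha =>
    hfoc ⟨a.2, focalSubgroup_le_commutator _ (mem_subgroupOf.1 ha)⟩
  haveI : R'.Normal := ⟨fun a ha b => by
    have h1 : b * a * b⁻¹ * a⁻¹ ∈ R' := hfR (commutator_le_focalSubgroupOf _
      (commutator_mem_commutator (mem_top b) (mem_top a)))
    simpa using mul_mem h1 ha⟩
  let π : ↥(R : Subgroup G) ⧸ (R : Subgroup G).focalSubgroupOf →* ↥(R : Subgroup G) ⧸ R' :=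
    QuotientGroup.map _ R' (MonoidHom.id _) hfR
  let f : G →* ↥(R : Subgroup G) ⧸ R' := π.comp (R : Subgroup G).transferFocal
  have hπ : Function.Surjective π := by
    intro a
    obtain ⟨b, rfl⟩ := QuotientGroup.mk'_surjective _ a
    exact ⟨(b : ↥(R : Subgroup G) ⧸ (R : Subgroup G).focalSubgroupOf), rfl⟩
  have hf : Function.Surjective f := hπ.comp (transferFocal_surjective R)
  refine ⟨f.ker, inferInstance, ?_, ?_⟩
  · rw [index_ker, MonoidHom.range_eq_top.2 hf, card_top, ← index_eq_card]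
    exact hidx
  · have hfx : ∀ a : (R : Subgroup G),
        f a = (QuotientGroup.mk' R' a) ^ (R : Subgroup G).index := fun a => by
      show π ((R : Subgroup G).transferFocal a) = _
      rw [transferFocal_eq_pow, map_pow]
      rfl
    ext a
    refine ⟨fun ⟨haR, hak⟩ => ?_, fun ha => ⟨hle ha, MonoidHom.mem_ker.2 ?_⟩⟩
    · have h1 := hfx ⟨a, haR⟩
      rw [MonoidHom.mem_ker.1 hak] at h1
      have h2 : orderOf (QuotientGroup.mk' R' ⟨a, haR⟩) ∣ p := by
        have h4 := _root_.orderOf_dvd_natCard (QuotientGroup.mk' R' ⟨a, haR⟩)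
        rw [← index_eq_card] at h4
        exact h4.trans (dvd_of_eq hidx)
      have h3 := Nat.eq_one_of_dvd_coprimes (hp.out.coprime_iff_not_dvd.2 R.not_dvd_index) h2
        (orderOf_dvd_of_pow_eq_one h1.symm)
      exact (QuotientGroup.eq_one_iff (N := R') _).1 (orderOf_eq_one_iff.1 h3)
    · rw [hfx ⟨a, hle ha⟩, show QuotientGroup.mk' R' ⟨a, hle ha⟩ = 1 from
        (QuotientGroup.eq_one_iff (N := R') _).2 ha, one_pow]

/-- The groups with a TI member of the good kind. -/
theorem classify_tiHyp' (hs : InvertedOdd.NoSolvableNormal G) {M F : Subgroup G}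
    (h : FrobSystem.TIHyp M F) :
    (∃ (K : Type) (_ : Field K) (_ : Fintype K), 4 ≤ Fintype.card K ∧
        Nonempty (G ≃* Matrix.ProjectiveSpecialLinearGroup (Fin 2) K)) ∨ Cfsg.Lie.IsoSuzuki G := by
  obtain ⟨hsimple, hc⟩ := FrobSystem.classify_tiHyp hs h
  rcases hc with ⟨K, iK, iT, ⟨n, hn, hK⟩, ⟨e⟩⟩ | ⟨⟨S⟩⟩
  · haveI := Fact.mk Nat.prime_two
    haveI : CharP K 2 := charP_of_card_eq_prime_pow hK
    obtain ⟨e2⟩ := FrobSystem.sl_equiv_psl K
    refine Or.inl ⟨K, iK, iT, ?_, ⟨e.trans e2⟩⟩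
    rw [hK]
    calc 4 = 2 ^ 2 := rfl
      _ ≤ 2 ^ n := Nat.pow_le_pow_right (by norm_num) hn
  · haveI := hsimple
    exact Or.inr S.isoSuzuki

end Cfsg.Agent.PartCls
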