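/-
A member containing the centraliser of a central involution contains the centralisers of all its
elements.

Main results (namespace `Cfsg.Agent.PartCls`): `pPartSub`, `Bad`, `Bad.no_pair`, `Bad.normalizer_le`,
`Bad.false_of_focal`, `Bad.false_big`.
-/
import Cfsg.Agent.Lib.PartitionClass.SE
import Cfsg.Agent.Lib.PartitionClass.NormalComp
import Cfsg.Agent.Lib.NilGroup.Basic
import Cfsg.Agent.Lib.Transfer.Residual
import Cfsg.Agent.Lib.SmallOrders.Intersect
import Cfsg.Agent.S4250

set_option autoImplicit false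

namespace Cfsg.Agent.PartCls

open Subgroup
open scoped commutatorElement

universe u

variable {G : Type u} [Group G] [Finite G]

/-- The `q`-part of a nilpotent subgroup. -/
def pPartSub (H : Subgroup G) (q : ℕ) : Subgroup G := (Cfsg.pCore q H).map H.subtype

omit [Finite G] in
theorem pPartSub_le (H : Subgroup G) (q : ℕ) : pPartSub H q ≤ H := map_subtype_le _

theorem mem_pPartSub {H : Subgroup G} (hH : Group.IsNilpotent H) {q : ℕ} [Fact q.Prime] {g : G} :
    g ∈ pPartSub H q ↔ g ∈ H ∧ ∃ k, g ^ q ^ k = 1 := by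
  constructor
  · rintro ⟨a, ha, rfl⟩
    obtain ⟨k, hk⟩ := Cores.isPGroup_pCore q H ⟨a, ha⟩
    exact ⟨a.2, k, congrArg (fun z : Cfsg.pCore q H => ((z : H) : G)) hk⟩
  · rintro ⟨hg, k, hk⟩
    haveI := hH
    have hz : IsPGroup q (zpowers (⟨g, hg⟩ : H)) := by
      rintro ⟨_, i, rfl⟩
      refine ⟨k, Subtype.ext ?_⟩
      show ((⟨g, hg⟩ : H) ^ i) ^ q ^ k = 1
      rw [← zpow_natCast, ← zpow_mul, mul_comm, zpow_mul, zpow_natCast,
        show (⟨g, hg⟩ : H) ^ q ^ k = 1 from Subtype.ext hk, one_zpow]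
    obtain ⟨Q, hQ⟩ := hz.exists_le_sylow
    haveI : (Q : Subgroup H).Normal :=
      Sylow.normal_of_normalizerCondition Group.normalizerCondition_of_isNilpotent Q
    exact ⟨⟨g, hg⟩, Cores.le_pCore inferInstance Q.isPGroup' (hQ (mem_zpowers _)), rfl⟩

theorem isPGroup_pPartSub (H : Subgroup G) (q : ℕ) : IsPGroup q (pPartSub H q) :=
  (Cores.isPGroup_pCore q H).map _

theorem commute_of_coprime_mem {H : Subgroup G} (hH : Group.IsNilpotent H) {a b : G} (ha : a ∈ H)
    (hb : b ∈ H) (hco : (orderOf a).Coprime (orderOf b)) : Commute a b := by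
  have := NilGroup.commute_of_coprime hH (x := (⟨a, ha⟩ : H)) (y := ⟨b, hb⟩)
    (by rwa [orderOf_mk, orderOf_mk])
  exact congrArg Subtype.val this.eq

/-- A `q`-element commuting with the `q`-part is central. -/
theorem commute_of_pPartSub {H : Subgroup G} (hH : Group.IsNilpotent H) {q : ℕ} [hq : Fact q.Prime]
    {a : G} (ha : a ∈ pPartSub H q) (hc : ∀ w ∈ pPartSub H q, Commute w a) :
    ∀ w ∈ H, Commute w a := by
  intro w hw
  obtain ⟨x, y, rfl, hx, hy, ⟨k, hk⟩, hyo⟩ := Transfer.exists_pPart_mul (p := q) w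
  have hxH : x ∈ H := zpowers_le.2 hw hx
  have hyH : y ∈ H := zpowers_le.2 hw hy
  obtain ⟨haH, j, hj⟩ := (mem_pPartSub hH).1 ha
  refine (hc x ((mem_pPartSub hH).2 ⟨hxH, k, by rw [← hk, pow_orderOf_eq_one]⟩)).mul_left ?_
  exact commute_of_coprime_mem hH hyH haH ((hyo.pow_right j).coprime_dvd_right (orderOf_dvd_of_pow_eq_one hj))

/-- The bad case: an element of prime order `p` of the normaliser outside the member. -/
structure Bad (P : Part G) (t : G) (p : ℕ) : Prop extends Closed P t where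
  prime : p.Prime
  nil : Group.IsNilpotent (P.comp t)
  dvd : p ∣ Nat.card (P.comp t)
  exists_y : ∃ y ∈ normalizer (P.comp t : Set G), y ∉ P.comp t ∧ orderOf y = p

namespace Bad

variable {P : Part G} {t : G} {p : ℕ} (h : Bad P t p)
include h

theorem ne_two : p ≠ 2 := by
  rintro rfl
  obtain ⟨y, hy, hyn, hyo⟩ := h.exists_y
  exact hyn (h.toClosed.inv_mem hy hyo)

theorem t_central : ∀ w ∈ P.comp t, Commute w t := by
  haveI := Fact.mk Nat.prime_two
  obtain ⟨S, hS⟩ := h.sylow
  have hSH : (S : Subgroup G) ≤ P.comp t := fun s hs => h.toClosed.mem_of_commute_t (hS s hs)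
  have hle : (S : Subgroup G) ≤ pPartSub (P.comp t) 2 := fun s hs => (mem_pPartSub h.nil).2
    ⟨hSH hs, by obtain ⟨k, hk⟩ := S.isPGroup' ⟨s, hs⟩; exact ⟨k, congrArg Subtype.val hk⟩⟩
  have heq := S.is_maximal' (isPGroup_pPartSub (P.comp t) 2) hle
  refine commute_of_pPartSub h.nil ((mem_pPartSub h.nil).2
    ⟨h.toClosed.t_mem, 1, show t ^ 2 ^ 1 = 1 by rw [pow_one, pow_two]; exact Involution.mul_self h.two⟩) fun w hw => hS w ?_
  rw [heq] at hw
  exact hw

theorem inv_central {a : G} (ha : a ∈ normalizer (P.comp t : Set G)) (ha2 : orderOf a = 2) :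
    ∀ w ∈ P.comp t, Commute w a := by
  obtain ⟨g, hg, rfl⟩ := h.toClosed.exists_conj ha ha2
  intro w hw
  have hw' : g⁻¹ * w * g⁻¹⁻¹ ∈ P.comp t := P.conj_mem (Subgroup.inv_mem _ hg) hw
  have := (Commute.conj_iff g).2 (h.t_central _ hw')
  simpa [mul_assoc] using this

theorem mem_of_commute_inv {a g : G} (hg : g ∈ normalizer (P.comp t : Set G))
    (ha : a ∈ normalizer (P.comp t : Set G)) (ha2 : orderOf a = 2) (hc : Commute g a) : g ∈ P.comp t := by
  obtain ⟨x, hx, rfl⟩ := h.toClosed.exists_conj ha ha2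
  have h1 : x⁻¹ * g * x⁻¹⁻¹ ∈ P.comp t := h.toClosed.mem_of_commute_t (by
    have := (Commute.conj_iff x⁻¹).2 hc
    simpa [mul_assoc] using this)
  have := P.conj_mem hx h1
  simpa [mul_assoc] using this

theorem relIndex_eq : (P.comp t).relIndex (normalizer (P.comp t : Set G)) = p := by
  set X := normalizer (P.comp t : Set G) with hX
  have hXc : ∀ x ∈ X, x ≠ 1 → ¬ X ≤ P.comp x := by
    intro x _ hx1 hle
    obtain ⟨y, hy, hyn, -⟩ := h.exists_y
    exact hyn (P.eq_of_mem hx1 h.toClosed.t_ne (hle (le_normalizer h.toClosed.t_mem)) ▸ hle hy)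
  set Q := P.restrict X hXc
  set tX : X := ⟨t, le_normalizer h.toClosed.t_mem⟩
  have ht1 : tX ≠ 1 := fun e => h.toClosed.t_ne (congrArg Subtype.val e)
  have hcomp : Q.comp tX = (P.comp t).subgroupOf X := rfl
  haveI : (Q.comp tX).Normal := by
    rw [hcomp]
    exact Cores.subgroupOf_normal_of_le_normalizer le_rfl
  obtain ⟨y, hy, hyn, hyo⟩ := h.exists_y
  have hodd : Odd (Q.comp tX).index := by
    obtain ⟨S, hS⟩ := h.toClosed.sylow_le
    rw [hcomp]
    refine Nat.not_even_iff_odd.1 fun he => S.not_dvd_index ?_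
    exact ((even_iff_two_dvd.1 he).trans (relIndex_dvd_index_of_le le_normalizer)).trans (index_dvd_of_le hS)
  have hpi : p ∣ (Q.comp tX).index := by
    haveI := Fact.mk h.prime
    have ho : orderOf (QuotientGroup.mk' (Q.comp tX) ⟨y, hy⟩) = p := by
      rw [Q.orderOf_mk ht1 (z := ⟨y, hy⟩) (by rw [hcomp]; exact hyn), orderOf_mk, hyo]
    rw [index_eq_card, ← ho]
    exact _root_.orderOf_dvd_natCard _
  refine Q.index_prime ht1 ?_ h.prime ?_ hpi hodd (t := tX) ⟨Q.mem ht1, ?_, ?_⟩ ht1 ?_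
  · haveI := h.nil
    rw [hcomp]
    exact Group.nilpotent_of_mulEquiv (subgroupOfEquivOfLe (le_normalizer (H := P.comp t))).symm
  · rw [hcomp, Nat.card_congr (subgroupOfEquivOfLe (le_normalizer (H := P.comp t))).toEquiv]
    exact h.dvd
  · exact Subtype.ext (by rw [SubgroupClass.coe_pow, ← h.two, pow_orderOf_eq_one]; rfl)
  · intro w hw
    exact Subtype.ext (h.t_central w (by rw [hcomp] at hw; exact hw)).symm
  · intro g hg v hv hc
    by_contra hv1
    refine hg ?_
    rw [hcomp] at hv ⊢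
    exact h.mem_of_commute_inv g.2 v.2 (Involution.orderOf_of_sq
      (by rw [← pow_two]; exact congrArg Subtype.val hv.2.1) fun e => hv1 (Subtype.ext e))
      (congrArg Subtype.val hc.eq)

theorem pow_mem {g : G} (hg : g ∈ normalizer (P.comp t : Set G)) : g ^ p ∈ P.comp t := by
  set X := normalizer (P.comp t : Set G)
  haveI : ((P.comp t).subgroupOf X).Normal := Cores.subgroupOf_normal_of_le_normalizer le_rfl
  refine (QuotientGroup.eq_one_iff (N := (P.comp t).subgroupOf X) (⟨g, hg⟩ ^ p : X)).1 ?_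
  rw [← QuotientGroup.mk'_apply, map_pow, ← h.relIndex_eq,
    show (P.comp t).relIndex X = Nat.card (X ⧸ (P.comp t).subgroupOf X) from index_eq_card _, pow_card_eq_one']

theorem orderOf_outside {g : G} (hg : g ∈ normalizer (P.comp t : Set G)) (hgn : g ∉ P.comp t) :
    orderOf g = p := by
  haveI := Fact.mk h.prime
  exact orderOf_eq_prime (P.pow_eq_one_of_mem h.toClosed.t_ne hgn (h.pow_mem hg)) fun e => hgn (e ▸ one_mem _)

theorem commutator_mem {a b : G} (ha : a ∈ normalizer (P.comp t : Set G))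
    (hb : b ∈ normalizer (P.comp t : Set G)) : a * b * a⁻¹ * b⁻¹ ∈ P.comp t := by
  set X := normalizer (P.comp t : Set G)
  haveI : ((P.comp t).subgroupOf X).Normal := Cores.subgroupOf_normal_of_le_normalizer le_rfl
  haveI := Fact.mk h.prime
  haveI : IsCyclic (X ⧸ (P.comp t).subgroupOf X) :=
    isCyclic_of_prime_card (p := p) (by rw [← index_eq_card]; exact h.relIndex_eq)
  letI := IsCyclic.commGroup (α := X ⧸ (P.comp t).subgroupOf X)
  refine (QuotientGroup.eq_one_iff (N := (P.comp t).subgroupOf X)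
    ((⟨a, ha⟩ : X) * ⟨b, hb⟩ * (⟨a, ha⟩ : X)⁻¹ * (⟨b, hb⟩ : X)⁻¹)).1 ?_
  rw [← QuotientGroup.mk'_apply, map_mul, map_mul, map_mul, map_inv, map_inv, mul_inv_cancel_comm,
    mul_inv_cancel]

/-- An element commuting with the member and with one element outside it commutes with the normaliser. -/
theorem centralizes {a g : G} (hH : ∀ w ∈ P.comp t, Commute w a)
    (hg : g ∈ normalizer (P.comp t : Set G)) (hgn : g ∉ P.comp t) (hc : Commute g a) :
    ∀ x ∈ normalizer (P.comp t : Set G), Commute x a := by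
  set X := normalizer (P.comp t : Set G)
  haveI : ((P.comp t).subgroupOf X).Normal := Cores.subgroupOf_normal_of_le_normalizer le_rfl
  haveI := Fact.mk h.prime
  have hcard : Nat.card (X ⧸ (P.comp t).subgroupOf X) = p := by
    rw [← index_eq_card]; exact h.relIndex_eq
  intro x hx
  obtain ⟨i, hi⟩ := mem_zpowers_iff.1 (mem_zpowers_of_prime_card hcard
    (g := QuotientGroup.mk' ((P.comp t).subgroupOf X) ⟨g, hg⟩)
    (fun e => hgn ((QuotientGroup.eq_one_iff (N := (P.comp t).subgroupOf X) _).1 e))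
    (g' := QuotientGroup.mk' ((P.comp t).subgroupOf X) ⟨x, hx⟩))
  rw [← map_zpow, QuotientGroup.mk'_apply, QuotientGroup.mk'_apply, QuotientGroup.eq] at hi
  have hw : (g ^ i)⁻¹ * x ∈ P.comp t := by
    simpa [mem_subgroupOf] using hi
  have := (hc.zpow_left i).mul_left (hH _ hw)
  rwa [mul_inv_cancel_left] at this

theorem card_part_pos : pPartSub (P.comp t) p ≠ ⊥ := by
  haveI := Fact.mk h.prime
  obtain ⟨v, hv, hvo, -⟩ := exists_center_order h.nil h.prime h.dvd
  intro e
  have : v ∈ pPartSub (P.comp t) p :=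
    (mem_pPartSub h.nil).2 ⟨hv, 1, by rw [pow_one, ← hvo, pow_orderOf_eq_one]⟩
  rw [e, mem_bot] at this
  rw [this, orderOf_one] at hvo
  exact h.prime.one_lt.ne hvo

theorem conj_part {g a : G} (hg : g ∈ normalizer (P.comp t : Set G)) (ha : a ∈ pPartSub (P.comp t) p) :
    g * a * g⁻¹ ∈ pPartSub (P.comp t) p := by
  haveI := Fact.mk h.prime
  obtain ⟨haH, k, hk⟩ := (mem_pPartSub h.nil).1 ha
  exact (mem_pPartSub h.nil).2 ⟨P.conj_mem hg haH, k, by rw [conj_pow, hk, mul_one, mul_inv_cancel]⟩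

theorem le_normalizer_part : normalizer (P.comp t : Set G) ≤ normalizer (pPartSub (P.comp t) p : Set G) :=
  fun _ hg => mem_normalizer_fintype fun _ ha => h.conj_part hg ha

theorem isPGroup_join {b : G} (hb : b ∈ normalizer (P.comp t : Set G)) (hbn : b ∉ P.comp t) :
    IsPGroup p (pPartSub (P.comp t) p ⊔ zpowers b : Subgroup G) := by
  have hzb : IsPGroup p (zpowers b) :=
    IsPGroup.of_card (n := 1) (by rw [Nat.card_zpowers, h.orderOf_outside hb hbn, pow_one])
  exact (isPGroup_pPartSub _ _).to_sup_of_normal_left' hzb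
    (zpowers_le.2 (h.le_normalizer_part hb))

/-- An element of the `p`-part commuting with a conjugate of one outside is central in the normaliser and
spans the centraliser of that conjugate in the `p`-part. -/
theorem key {a b g : G} (ha : a ∈ pPartSub (P.comp t) p) (ha1 : a ≠ 1) (hb : b ∉ P.comp t)
    (hc : Commute a b) (hg : g⁻¹ * b * g ∈ pPartSub (P.comp t) p) :
    b ∈ normalizer (P.comp t : Set G) ∧ g ∉ normalizer (P.comp t : Set G) ∧
      (∀ x ∈ normalizer (P.comp t : Set G), Commute x a) ∧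
      ∀ w ∈ pPartSub (P.comp t) p, Commute w b → w ∈ zpowers a := by
  haveI := Fact.mk h.prime
  set H := P.comp t with hH
  set X := normalizer (H : Set G) with hX
  set Q := pPartSub H p with hQ
  have hQH : Q ≤ H := pPartSub_le _ _
  have hb1 : b ≠ 1 := fun e => hb (e ▸ one_mem _)
  have hbX : b ∈ X := h.toClosed.mem_normalizer_of_commute (hQH ha) ha1 hc.symm
  have hgX : g ∉ X := by
    intro hgX
    have := P.conj_mem hgX (hQH hg)
    exact hb (by simpa [mul_assoc] using this)
  haveI : (H.subgroupOf X).Normal := Cores.subgroupOf_normal_of_le_normalizer le_rfl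
  -- the centraliser of `b` in the `p`-part has order `p`
  let C : Subgroup G := Q ⊓ centralizer ({b} : Set G)
  have hmemC : ∀ w ∈ C, g⁻¹ * w * g ∈ X := fun w hw => by
    refine h.toClosed.mem_normalizer_of_commute (hQH hg) (fun e => hb1 ?_) ?_
    · have : g * (g⁻¹ * b * g) * g⁻¹ = 1 := by rw [e, mul_one, mul_inv_cancel]
      simpa [mul_assoc] using this
    · have := (Commute.conj_iff g⁻¹).2 (show Commute w b from mem_centralizer_singleton_iff.1 hw.2)
      simpa [mul_assoc] using this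
  let φ : C →* X := MonoidHom.mk' (fun w => ⟨g⁻¹ * w * g, hmemC w w.2⟩)
    fun v w => Subtype.ext (by simp [mul_assoc])
  have hψ : Function.Injective ((QuotientGroup.mk' (H.subgroupOf X)).comp φ) := by
    rw [← MonoidHom.ker_eq_bot_iff, eq_bot_iff_forall]
    intro w hw
    by_contra hw1
    have hwH : g⁻¹ * (w : G) * g ∈ H := (QuotientGroup.eq_one_iff (N := H.subgroupOf X) (φ w)).1 hw
    refine hgX (inv_mem_iff.1 (h.toClosed.mem_of_conj (g := g⁻¹) (hQH w.2.1)
      (fun e => hw1 (Subtype.ext e)) ?_))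
    rwa [inv_inv]
  have hcardC : Nat.card C ∣ p := by
    have := Subgroup.card_dvd_of_injective _ hψ
    rwa [← index_eq_card, show (H.subgroupOf X).index = p from h.relIndex_eq] at this
  have haC : a ∈ C := ⟨ha, mem_centralizer_singleton_iff.2 hc.eq⟩
  have hao : orderOf a = p := by
    have h1 : orderOf a ∣ p := (Subgroup.orderOf_dvd_natCard C haC).trans hcardC
    exact ((Nat.dvd_prime h.prime).1 h1).resolve_left fun e => ha1 (orderOf_eq_one_iff.1 e)
  have hCa : C = zpowers a := (eq_of_le_of_card_ge (zpowers_le.2 haC)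
    (by rw [Nat.card_zpowers, hao]; exact Nat.le_of_dvd h.prime.pos hcardC)).symm
  have hmax : ∀ w ∈ Q, Commute w b → w ∈ zpowers a := fun w hw hwb =>
    hCa.le ⟨hw, mem_centralizer_singleton_iff.2 hwb.eq⟩
  refine ⟨hbX, hgX, ?_, hmax⟩
  -- `a` is central in the `p`-subgroup generated by the `p`-part and `b`
  set T := Q ⊔ zpowers b with hT
  haveI : (Q.subgroupOf T).Normal := Cores.subgroupOf_normal_of_le_normalizer
    (sup_le le_normalizer (zpowers_le.2 (h.le_normalizer_part hbX)))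
  have hne : Q.subgroupOf T ≠ ⊥ := fun e => ha1 <| by
    have : (⟨a, le_sup_left (b := zpowers b) ha⟩ : T) ∈ Q.subgroupOf T := ha
    rw [e, mem_bot] at this
    exact congrArg Subtype.val this
  obtain ⟨z, hzQ, hzc, hzo⟩ := PGroup.exists_central_order_p (h.isPGroup_join hbX hb) hne
  have hzC : ∀ w ∈ T, Commute (z : G) w := fun w hw =>
    (congrArg Subtype.val (mem_center_iff.1 hzc ⟨w, hw⟩)).symm
  have hzz : (z : G) ∈ zpowers a := hmax _ hzQ (hzC b ((le_sup_right : zpowers b ≤ T) (mem_zpowers b)))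
  have haz : a ∈ zpowers (z : G) := by
    have he : zpowers (z : G) = zpowers a := eq_of_le_of_card_ge (zpowers_le.2 hzz)
      (by rw [Nat.card_zpowers, Nat.card_zpowers, hao, orderOf_coe, hzo])
    exact he ▸ mem_zpowers a
  have haQ : ∀ w ∈ Q, Commute w a := fun w hw => by
    obtain ⟨i, rfl⟩ := mem_zpowers_iff.1 haz
    exact ((hzC w ((le_sup_left : Q ≤ T) hw)).zpow_left i).symm
  exact h.centralizes (commute_of_pPartSub h.nil ha haQ) hbX hb hc.symm

/-- No element of the `p`-part commutes with a conjugate of one lying outside. -/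
theorem no_pair (hbig : Nat.card (pPartSub (P.comp t) p) ≠ p) {a b g : G}
    (ha : a ∈ pPartSub (P.comp t) p) (ha1 : a ≠ 1) (hc : Commute a b)
    (hg : g⁻¹ * b * g ∈ pPartSub (P.comp t) p) : b ∈ P.comp t := by
  by_contra hb
  haveI := Fact.mk h.prime
  set H := P.comp t with hH
  set X := normalizer (H : Set G) with hX
  set Q := pPartSub H p with hQ
  have hQH : Q ≤ H := pPartSub_le _ _
  obtain ⟨hbX, hgX, hacent, -⟩ := h.key ha ha1 hb hc hg
  -- the symmetric configuration
  set c := g⁻¹ * b * g with hcdef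
  set a' := g⁻¹ * a * g with ha'def
  have hc1 : c ≠ 1 := fun e => hb (by
    have : b = g * c * g⁻¹ := by rw [hcdef]; group
    rw [this, e, mul_one, mul_inv_cancel]; exact one_mem _)
  have hca' : Commute c a' := by
    have := (Commute.conj_iff g⁻¹).2 hc.symm
    simpa [hcdef, ha'def, mul_assoc] using this
  have ha'H : a' ∉ H := by
    intro ha'
    refine hb ?_
    have hb1 : b ≠ 1 := fun e => hb (e ▸ one_mem _)
    have hmema : a ∈ P.comp (g * t * g⁻¹) := (P.mem_conj_iff h.toClosed.t_ne).2 ha'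
    have hmemb : b ∈ P.comp (g * t * g⁻¹) := (P.mem_conj_iff h.toClosed.t_ne).2 (hQH hg)
    have hgt : g * t * g⁻¹ ≠ 1 := fun e => h.toClosed.t_ne (conj_eq_one_iff.1 e)
    have h1 := (P.eq_of_mem hgt ha1 hmema).symm.trans (P.eq_of_mem h.toClosed.t_ne ha1 (hQH ha))
    exact h1.le hmemb
  obtain ⟨ha'X, -, -, hmax'⟩ := h.key hg hc1 ha'H hca' (g := g⁻¹)
    (by rw [ha'def]; simpa [mul_assoc] using ha)
  -- replace `b` by the conjugate of `a`
  set b' := g * a * g⁻¹ with hb'def
  have hab' : Commute a b' := by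
    obtain ⟨i, hi⟩ := mem_zpowers_iff.1 (hmax' a ha (hacent a' ha'X).symm)
    have : b' = b ^ i := by
      rw [hb'def, ← hi, hcdef, ← conj_zpow]
      congr 1
      group
    rw [this]
    exact hc.zpow_right i
  have hb'H : b' ∉ H := fun hmem => hgX (h.toClosed.mem_of_conj (hQH ha) ha1 hmem)
  have hgb' : g⁻¹ * b' * g ∈ Q := by rw [hb'def]; simpa [mul_assoc] using ha
  obtain ⟨hb'X, -, -, hmax⟩ := h.key ha ha1 hb'H hab' hgb'
  obtain ⟨u, hu, hux⟩ := h.toClosed.exists_swap hgX
  have huu : u * u = 1 := Involution.mul_self hu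
  have hui : u⁻¹ = u := Involution.inv_eq hu
  have hua : u * a * u⁻¹ = b' := by
    have := (hacent _ hux).eq
    calc u * a * u⁻¹ = g * ((g⁻¹ * u) * a) * (g⁻¹ * u)⁻¹ * g⁻¹ := by group
      _ = b' := by rw [this, hb'def]; group
  have hub : u * b' * u⁻¹ = a := by
    rw [← hua, hui]
    calc u * (u * a * u) * u = (u * u) * a * (u * u) := by group
      _ = a := by rw [huu, one_mul, mul_one]
  -- an element of the `p`-part moving `b'` to `a⁻¹ * b'`
  set T := Q ⊔ zpowers b' with hT
  set D := zpowers a ⊔ zpowers b' with hD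
  have hDle : D ≤ T := sup_le_sup_right (zpowers_le.2 ha) _
  have hDcomm : ∀ d ∈ D, Commute d b' := fun d hd => by
    have : D ≤ centralizer ({b'} : Set G) := sup_le
      (zpowers_le.2 (mem_centralizer_singleton_iff.2 hab'.eq))
      (zpowers_le.2 (mem_centralizer_singleton_iff.2 rfl))
    exact mem_centralizer_singleton_iff.1 (this hd)
  have haQ : zpowers a ≤ Q := zpowers_le.2 ha
  have hne : D ≠ T := fun e => hbig <| by
    have hQa : Q = zpowers a := le_antisymm (fun w hw => hmax w hw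
      (hDcomm w (e ▸ (le_sup_left : Q ≤ T) hw))) haQ
    rw [hQa, Nat.card_zpowers, ← h.orderOf_outside hb'X hb'H, hb'def, Involution.orderOf_conj]
  obtain ⟨n, ⟨hnD, hnT⟩, hnn⟩ := SetLike.exists_of_lt
    (SmallOrders.lt_normalizer_inf (h.isPGroup_join hb'X hb'H) (lt_of_le_of_ne hDle hne))
  obtain ⟨q, hq, z, hz, rfl⟩ : ∃ q ∈ Q, ∃ z ∈ zpowers b', q * z = n := by
    have hn' : n ∈ ((Q ⊔ zpowers b' : Subgroup G) : Set G) := hnT
    rw [coe_mul_of_right_le_normalizer_left Q _ (zpowers_le.2 (h.le_normalizer_part hb'X))] at hn'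
    obtain ⟨q, hq, z, hz, e⟩ := hn'
    exact ⟨q, hq, z, hz, e⟩
  have hzD : z ∈ D := (le_sup_right : zpowers b' ≤ D) hz
  have hqD : q ∈ normalizer (D : Set G) :=
    (mul_mem_cancel_right (le_normalizer hzD)).1 hnD
  have hqn : q ∉ D := fun hqd => hnn (mul_mem hqd hzD)
  set e := q * b' * q⁻¹ * b'⁻¹ with he
  have heD : e ∈ D := mul_mem ((mem_normalizer_iff.1 hqD b').1 ((le_sup_right : zpowers b' ≤ D) (mem_zpowers b')))
    (inv_mem ((le_sup_right : zpowers b' ≤ D) (mem_zpowers b')))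
  have heQ : e ∈ Q := by
    rw [he, show q * b' * q⁻¹ * b'⁻¹ = q * (b' * q⁻¹ * b'⁻¹) by group]
    exact mul_mem hq (h.conj_part hb'X (inv_mem hq))
  have he1 : e ≠ 1 := fun e1 => hqn <| (le_sup_left : zpowers a ≤ D)
    (hmax q hq (mul_inv_eq_iff_eq_mul.1 (mul_inv_eq_one.1 e1)))
  have hea : e ∈ zpowers a := hmax e heQ (hDcomm e heD)
  have hao : orderOf a = p := by
    rw [← Involution.orderOf_conj g a, ← hb'def, h.orderOf_outside hb'X hb'H]
  have hae : a⁻¹ ∈ zpowers e := by
    have heo : orderOf e = p := by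
      refine ((Nat.dvd_prime h.prime).1 ?_).resolve_left fun e1 => he1 (orderOf_eq_one_iff.1 e1)
      exact (Subgroup.orderOf_dvd_natCard _ hea).trans (dvd_of_eq (by rw [Nat.card_zpowers, hao]))
    have : zpowers e = zpowers a := eq_of_le_of_card_ge (zpowers_le.2 hea)
      (by rw [Nat.card_zpowers, Nat.card_zpowers, hao, heo])
    exact this ▸ inv_mem (mem_zpowers a)
  obtain ⟨j, hj⟩ := (Submonoid.mem_powers_iff _ _).1 (mem_powers_iff_mem_zpowers.2 hae)
  have hqe : Commute q e := by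
    obtain ⟨i, hi⟩ := mem_zpowers_iff.1 hea
    exact hi ▸ (hacent q (le_normalizer (hQH hq))).zpow_right i
  have hqb : ∀ i : ℕ, q ^ i * b' * (q ^ i)⁻¹ = e ^ i * b' := by
    intro i
    induction i with
    | zero => simp
    | succ i ih =>
      rw [pow_succ q, show q ^ i * q * b' * (q ^ i * q)⁻¹ = q ^ i * (q * b' * q⁻¹) * (q ^ i)⁻¹ by group,
        show q * b' * q⁻¹ = e * b' by rw [he]; group,
        show q ^ i * (e * b') * (q ^ i)⁻¹ = (q ^ i * e * (q ^ i)⁻¹) * (q ^ i * b' * (q ^ i)⁻¹) by group,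
        (hqe.pow_left i).eq, mul_inv_cancel_right, ih, ← mul_assoc, ← pow_succ']
  set w := q ^ j with hw
  have hwb : w * b' * w⁻¹ = a⁻¹ * b' := by rw [hw, hqb, hj]
  -- an element inverting `a`
  set u₂ := u⁻¹ * (w⁻¹ * u * w) * u with hu₂
  have hinv : u₂ * a * u₂⁻¹ = a⁻¹ := by
    calc u₂ * a * u₂⁻¹ = u⁻¹ * (w⁻¹ * (u * (w * (u * a * u⁻¹) * w⁻¹) * u⁻¹) * w) * u := by
          rw [hu₂]; group
      _ = u⁻¹ * (w⁻¹ * ((u * a * u⁻¹)⁻¹ * (u * b' * u⁻¹)) * w) * u := by
          rw [show w * (u * a * u⁻¹) * w⁻¹ = a⁻¹ * b' by rw [hua, hwb]]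
          group
      _ = u⁻¹ * (w⁻¹ * (b'⁻¹ * a) * w) * u := by rw [hua, hub]
      _ = u⁻¹ * b'⁻¹ * u := by
          have h1 : b'⁻¹ * a = w * b'⁻¹ * w⁻¹ := by
            have := congrArg (·⁻¹) hwb
            simp only [mul_inv_rev, inv_inv] at this
            rw [← this, mul_assoc]
          rw [h1]; group
      _ = a⁻¹ := by rw [← hua]; group
  have hu₂X : u₂ ∈ X := h.toClosed.mem_of_conj (hQH ha) ha1 (hinv ▸ inv_mem (hQH ha))
  have hsq : a ^ 2 = 1 := by
    have := (hacent u₂ hu₂X).eq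
    rw [this, mul_inv_cancel_right] at hinv
    rw [pow_two]
    nth_rewrite 1 [hinv]
    exact inv_mul_cancel a
  exact h.ne_two ((Nat.prime_dvd_prime_iff_eq h.prime Nat.prime_two).1 (hao ▸ orderOf_dvd_of_pow_eq_one hsq))

/-- Normalisers of subgroups of the normaliser meeting the `p`-part. -/
theorem normalizer_le (hbig : Nat.card (pPartSub (P.comp t) p) ≠ p) {R : Subgroup G}
    (hR : R ≤ normalizer (P.comp t : Set G)) {e : G} (heR : e ∈ R) (he : e ∈ pPartSub (P.comp t) p)
    (he1 : e ≠ 1) : normalizer (R : Set G) ≤ normalizer (P.comp t : Set G) := by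
  intro g hg
  by_contra hgX
  set b := g * e * g⁻¹ with hb
  have hQH := pPartSub_le (P.comp t) p
  have hbR : b ∈ R := (mem_normalizer_iff.1 hg e).1 heR
  have hg' : g⁻¹ * e * g ∈ R := by
    have := (mem_normalizer_iff.1 (Subgroup.inv_mem _ hg) e).1 heR
    rwa [inv_inv] at this
  have hbn : b ∉ P.comp t := fun hmem => hgX (h.toClosed.mem_of_conj (hQH he) he1 hmem)
  have h1 : e * b * e⁻¹ * b⁻¹ ∈ pPartSub (P.comp t) p := by
    rw [show e * b * e⁻¹ * b⁻¹ = e * (b * e⁻¹ * b⁻¹) by group]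
    exact mul_mem he (h.conj_part (hR hbR) (inv_mem he))
  have h2 : g⁻¹ * (e * b * e⁻¹ * b⁻¹) * g ∈ pPartSub (P.comp t) p := by
    rw [show g⁻¹ * (e * b * e⁻¹ * b⁻¹) * g = (g⁻¹ * e * g) * e * (g⁻¹ * e * g)⁻¹ * e⁻¹ by rw [hb]; group]
    exact mul_mem (h.conj_part (hR hg') he) (inv_mem he)
  refine hbn (h.no_pair hbig he he1 ?_ (g := g) (by rw [hb]; simpa [mul_assoc] using he))
  by_contra hne
  have hne' : e * b * e⁻¹ * b⁻¹ ≠ 1 := fun e1 => hne (mul_inv_eq_iff_eq_mul.1 (mul_inv_eq_one.1 e1))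
  refine hgX (inv_mem_iff.1 (h.toClosed.mem_of_conj (g := g⁻¹) (hQH h1) hne' ?_))
  rw [inv_inv]
  exact hQH h2

/-- A Sylow subgroup of the normaliser whose focal subgroup lies in the member gives a contradiction. -/
theorem false_of_focal [Fact p.Prime] (R : Sylow p G) (hR : (R : Subgroup G) ≤ normalizer (P.comp t : Set G))
    (hQR : pPartSub (P.comp t) p ≤ R) {y : G} (hyR : y ∈ (R : Subgroup G)) (hyn : y ∉ P.comp t)
    (hfoc : (R : Subgroup G) ⊓ _root_.commutator G ≤ pPartSub (P.comp t) p) : False := by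
  set H := P.comp t with hH
  set X := normalizer (H : Set G) with hX
  have hRH : (R : Subgroup G) ⊓ H = pPartSub H p := le_antisymm (fun a ha => (mem_pPartSub h.nil).2
      ⟨ha.2, by obtain ⟨k, hk⟩ := R.isPGroup' ⟨a, ha.1⟩; exact ⟨k, congrArg Subtype.val hk⟩⟩)
    (le_inf hQR (pPartSub_le _ _))
  have hidx : (pPartSub H p).relIndex (R : Subgroup G) = p := by
    rw [← hRH, inf_relIndex_left]
    have hd : H.relIndex (R : Subgroup G) ∣ p := by
      refine dvd_trans ?_ (dvd_of_eq h.relIndex_eq)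
      haveI : (H.subgroupOf X).Normal := Cores.subgroupOf_normal_of_le_normalizer le_rfl
      have := relIndex_dvd_index_of_normal (H.subgroupOf X) ((R : Subgroup G).subgroupOf X)
      rwa [relIndex_subgroupOf hR] at this
    exact ((Nat.dvd_prime h.prime).1 hd).resolve_left fun e => hyn (relIndex_eq_one.1 e hyR)
  obtain ⟨M, hM, hMi, hMR⟩ := exists_normal_index R _ hQR hidx hfoc
  have hMd : ∀ a : G, (orderOf a).Coprime p → a ∈ M := by
    intro a ha
    haveI := hM
    refine Transfer.pResidual_le_of_index (k := 1) (N := M) (by rw [hMi, pow_one]) ?_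
    exact Transfer.mem_pResidual_of_coprime ha
  have hHM : H ≤ M := by
    intro a ha
    obtain ⟨x, z, rfl, hx, hz, ⟨k, hk⟩, hzo⟩ := Transfer.exists_pPart_mul (p := p) a
    refine mul_mem ?_ (hMd z hzo)
    exact (hMR.ge ((mem_pPartSub h.nil).2
      ⟨zpowers_le.2 ha hx, k, by rw [← hk, pow_orderOf_eq_one]⟩)).2
  have hyM : y ∉ M := fun hy => hyn (pPartSub_le _ _ (hMR.le ⟨hyR, hy⟩))
  have hXM : ∀ a ∈ X, a ∈ M → a ∈ H := by
    intro a haX haM
    by_contra han
    haveI : (H.subgroupOf X).Normal := Cores.subgroupOf_normal_of_le_normalizer le_rfl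
    have hcard : Nat.card (X ⧸ H.subgroupOf X) = p := by
      rw [← index_eq_card]; exact h.relIndex_eq
    obtain ⟨i, hi⟩ := mem_zpowers_iff.1 (mem_zpowers_of_prime_card hcard
      (g := QuotientGroup.mk' (H.subgroupOf X) ⟨a, haX⟩)
      (fun e => han ((QuotientGroup.eq_one_iff (N := H.subgroupOf X) _).1 e))
      (g' := QuotientGroup.mk' (H.subgroupOf X) ⟨y, hR hyR⟩))
    rw [← map_zpow, QuotientGroup.mk'_apply, QuotientGroup.mk'_apply, QuotientGroup.eq] at hi
    have h1 : (a ^ i)⁻¹ * y ∈ H := by simpa [mem_subgroupOf] using hi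
    have h2 := mul_mem (Subgroup.zpow_mem M haM i) (hHM h1)
    exact hyM (by rwa [mul_inv_cancel_left] at h2)
  -- all involutions of the member are conjugate in it
  have hMtop : ¬ M ≤ X := fun hle => by
    have hMH : M = H := le_antisymm (fun a ha => hXM a (hle ha) ha) hHM
    exact h.nn t h.toClosed.t_ne (show H.Normal from hMH ▸ hM)
  have hse : Cfsg.IsStronglyEmbedded (X.subgroupOf M) :=
    Involution.isStronglyEmbedded_iff_forall.2 ⟨fun e => hMtop (subgroupOf_eq_top.1 e),
      even_iff_two_dvd.2 (by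
        have := Subgroup.orderOf_dvd_natCard (X.subgroupOf M) (x := (⟨t, hHM h.toClosed.t_mem⟩ : M))
          (mem_subgroupOf.2 (le_normalizer h.toClosed.t_mem))
        rwa [orderOf_mk, h.two] at this),
      fun g a ha haX hg => h.toClosed.mem_of_conj (g := (g : G)) (a := (a : G))
        (h.toClosed.inv_mem haX (by rwa [orderOf_coe]))
        (fun e => Involution.ne_one ha (Subtype.ext e))
        (h.toClosed.inv_mem hg (by
          simp only [Subgroup.coe_mul, Subgroup.coe_inv, Involution.orderOf_conj, orderOf_coe, ha]))⟩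
  refine hyn (h.toClosed.mem_of_commute_t (mul_inv_eq_iff_eq_mul.1 ?_))
  set t' := y * t * y⁻¹
  have ht'H : t' ∈ H := P.conj_mem (hR hyR) h.toClosed.t_mem
  obtain ⟨g, hgX, hg⟩ := Involution.exists_conj_in hse (s := (⟨t, hHM h.toClosed.t_mem⟩ : M))
    (t := ⟨t', hHM ht'H⟩) (by rw [orderOf_mk, h.two]) (le_normalizer h.toClosed.t_mem)
    (by rw [orderOf_mk, Involution.orderOf_conj, h.two]) (le_normalizer ht'H)
  have hgH : (g : G) ∈ H := hXM g hgX g.2
  have := congrArg Subtype.val hg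
  simp only [Subgroup.coe_mul, Subgroup.coe_inv] at this
  rw [← this, (h.t_central g hgH).eq, mul_inv_cancel_right]

/-- The case of a `p`-part of order greater than `p`. -/
theorem false_big (hbig : Nat.card (pPartSub (P.comp t) p) ≠ p) : False := by
  haveI := Fact.mk h.prime
  set Q := pPartSub (P.comp t) p with hQ
  set X := normalizer (P.comp t : Set G) with hX
  obtain ⟨y, hy, hyn, -⟩ := h.exists_y
  obtain ⟨⟨e, he⟩, he1'⟩ := ne_bot_iff_exists_ne_one.1 h.card_part_pos
  have he1 : e ≠ 1 := fun h' => he1' (Subtype.ext h')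
  obtain ⟨R, hR⟩ := (h.isPGroup_join hy hyn).exists_le_sylow
  have hQR : Q ≤ (R : Subgroup G) := le_sup_left.trans hR
  have hyR : y ∈ (R : Subgroup G) := hR ((le_sup_right : zpowers y ≤ _) (mem_zpowers y))
  have hRX : (R : Subgroup G) ≤ X := by
    by_contra hn
    have hlt : (R : Subgroup G) ⊓ X < (R : Subgroup G) :=
      lt_of_le_of_ne inf_le_left fun e' => hn (e' ▸ inf_le_right)
    obtain ⟨g, ⟨hgN, hgR⟩, hgn⟩ := SetLike.exists_of_lt (SmallOrders.lt_normalizer_inf R.isPGroup' hlt)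
    exact hgn ⟨hgR, h.normalizer_le hbig (R := (R : Subgroup G) ⊓ X) inf_le_right
      ⟨hQR he, le_normalizer (pPartSub_le _ _ he)⟩ he he1 hgN⟩
  refine h.false_of_focal R hRX hQR hyR hyn ?_
  have hmem : ∀ a ∈ (R : Subgroup G), ∀ b ∈ X, a * b * a⁻¹ * b⁻¹ ∈ (R : Subgroup G) →
      a * b * a⁻¹ * b⁻¹ ∈ Q := fun a ha b hb hR' => (mem_pPartSub h.nil).2
    ⟨h.commutator_mem (hRX ha) hb, by
      obtain ⟨k, hk⟩ := R.isPGroup' ⟨_, hR'⟩; exact ⟨k, congrArg Subtype.val hk⟩⟩
  rw [S4250.result p R, sup_le_iff]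
  refine ⟨commutator_le.2 fun a ha b hb => ?_, iSup_le fun Q' => iSup_le fun _ => iSup_le fun x =>
    iSup_le fun hx => commutator_le.2 fun a ha b hb => ?_⟩
  · refine hmem a ha b (h.normalizer_le hbig hRX (hQR he) he he1 hb) ?_
    rw [show a * b * a⁻¹ * b⁻¹ = a * (b * a⁻¹ * b⁻¹) by group]
    exact mul_mem ha ((mem_normalizer_iff.1 hb _).1 (inv_mem ha))
  · obtain ⟨hxN, k, hk⟩ := hx
    set E := (R : Subgroup G) ⊓ (Q' : Subgroup G) with hE
    have hbN : b ∈ normalizer (E : Set G) := zpowers_le.2 hxN hb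
    have hcomm : a * b * a⁻¹ * b⁻¹ ∈ E := by
      rw [show a * b * a⁻¹ * b⁻¹ = a * (b * a⁻¹ * b⁻¹) by group]
      exact mul_mem ha ((mem_normalizer_iff.1 hbN _).1 (inv_mem ha))
    by_cases hex : ∃ e' ∈ E, e' ∈ Q ∧ e' ≠ 1
    · obtain ⟨e', he'E, he'Q, he'1⟩ := hex
      exact hmem a ha.1 b (h.normalizer_le hbig (inf_le_left.trans hRX) he'E he'Q he'1 hbN) hcomm.1
    · push Not at hex
      have hEc : Nat.card E ∣ p := by
        refine dvd_trans ?_ (dvd_of_eq h.relIndex_eq)
        haveI : ((P.comp t).subgroupOf X).Normal := Cores.subgroupOf_normal_of_le_normalizer le_rfl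
        have hb' : E ⊓ P.comp t = ⊥ := (eq_bot_iff_forall _).2 fun z hz => hex z hz.1
          ((mem_pPartSub h.nil).2 ⟨hz.2, by
            obtain ⟨k, hk⟩ := R.isPGroup' ⟨z, hz.1.1⟩; exact ⟨k, congrArg Subtype.val hk⟩⟩)
        have h1 := relIndex_dvd_index_of_normal ((P.comp t).subgroupOf X) (E.subgroupOf X)
        rw [relIndex_subgroupOf (inf_le_left.trans hRX), ← inf_relIndex_right, inf_comm, hb',
          relIndex_bot_left] at h1
        exact h1
      suffices hab : Commute a b by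
        rw [show ⁅a, b⁆ = 1 from commutatorElement_eq_one_iff_mul_comm.2 hab.eq]
        exact one_mem _
      obtain ⟨i, rfl⟩ := mem_zpowers_iff.1 hb
      refine Commute.zpow_right ?_ i
      -- a `p`-element acts trivially on a group of order dividing `p`
      by_cases ha1 : a = 1
      · rw [ha1]; exact Commute.one_left x
      have hP : IsPGroup p (zpowers x) := IsPGroup.of_card (n := k) (by rw [Nat.card_zpowers, hk])
      obtain ⟨v, ⟨hv, hv1⟩, hfix⟩ := Signalizer.exists_fixed_mem hP {v : G | v ∈ E ∧ v ≠ 1} (by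
          have e' : {v : G | v ∈ E ∧ v ≠ 1} = (E : Set G) \ {1} := rfl
          rw [e', Nat.card_coe_set_eq, Set.ncard_sdiff_singleton_of_mem (one_mem E),
            ← Nat.card_coe_set_eq, SetLike.coe_sort_coe]
          have hne : Nat.card E ≠ 1 := fun e1 => ha1 (mem_bot.1 (card_eq_one.1 e1 ▸ ha))
          rw [((Nat.dvd_prime h.prime).1 hEc).resolve_left hne]
          intro h'
          have h2 := h.prime.two_le
          have := Nat.le_of_dvd (by omega) h'
          omega)
        (fun c hc v hv => ⟨(mem_normalizer_iff.1 (zpowers_le.2 hxN hc) v).1 hv.1,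
          fun e' => hv.2 (conj_eq_one_iff.1 e')⟩)
      have hva : a ∈ zpowers v := by
        have : zpowers v = E := eq_of_le_of_card_ge (zpowers_le.2 hv) (by
          rw [Nat.card_zpowers]
          refine (Nat.le_of_dvd h.prime.pos hEc).trans (le_of_eq ?_)
          exact (((Nat.dvd_prime h.prime).1 ((Subgroup.orderOf_dvd_natCard E hv).trans hEc)).resolve_left
            fun e' => hv1 (orderOf_eq_one_iff.1 e')).symm)
        exact this.symm ▸ ha
      obtain ⟨j, rfl⟩ := mem_zpowers_iff.1 hva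
      exact (Commute.zpow_left (mul_inv_eq_iff_eq_mul.1 (hfix x (mem_zpowers x))).symm j)

end Bad

end Cfsg.Agent.PartCls
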