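/-
A member containing the centraliser of a central involution: the case of a Sylow subgroup of order
`p ^ 2`, and the conclusion.

Main results (namespace `Cfsg.Agent.PartCls`): `Bad.false_small`, `Closed.cent_le`, `Closed.classify`.
-/
import Cfsg.Agent.Lib.PartitionClass.SEBad

set_option autoImplicit false

namespace Cfsg.Agent.PartCls

open Subgroup
open scoped commutatorElement

universe u

variable {G : Type u} [Group G] [Finite G]

/-- A `p`-element normalising a group of order dividing `p` centralises it. -/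
theorem commute_of_card_dvd {p : ℕ} [hp : Fact p.Prime] {E : Subgroup G} (hE : Nat.card E ∣ p) {x : G}
    {k : ℕ} (hk : orderOf x = p ^ k) (hx : x ∈ normalizer (E : Set G)) {a : G} (ha : a ∈ E) :
    Commute x a := by
  by_cases ha1 : a = 1
  · rw [ha1]; exact Commute.one_right x
  have hcard : Nat.card E = p :=
    ((Nat.dvd_prime hp.out).1 hE).resolve_left fun e => ha1 (mem_bot.1 (card_eq_one.1 e ▸ ha))
  obtain ⟨v, ⟨hv, hv1⟩, hfix⟩ := Signalizer.exists_fixed_mem
    (IsPGroup.of_card (G := zpowers x) (p := p) (n := k) (by rw [Nat.card_zpowers, hk]))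
    {v : G | v ∈ E ∧ v ≠ 1} (by
      have e' : {v : G | v ∈ E ∧ v ≠ 1} = (E : Set G) \ {1} := rfl
      rw [e', Nat.card_coe_set_eq, Set.ncard_sdiff_singleton_of_mem (one_mem E),
        ← Nat.card_coe_set_eq, SetLike.coe_sort_coe, hcard]
      intro h'
      have h2 := hp.out.two_le
      have := Nat.le_of_dvd (by omega) h'
      omega)
    (fun c hc v hv => ⟨(mem_normalizer_iff.1 (zpowers_le.2 hx hc) v).1 hv.1,
      fun e' => hv.2 (conj_eq_one_iff.1 e')⟩)
  have hva : a ∈ zpowers v := by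
    have : zpowers v = E := eq_of_le_of_card_ge (zpowers_le.2 hv) (by
      rw [Nat.card_zpowers, hcard]
      exact le_of_eq (((Nat.dvd_prime hp.out).1 ((Subgroup.orderOf_dvd_natCard E hv).trans hE)).resolve_left
        fun e' => hv1 (orderOf_eq_one_iff.1 e')).symm)
    exact this.symm ▸ ha
  obtain ⟨j, rfl⟩ := mem_zpowers_iff.1 hva
  exact Commute.zpow_right (mul_inv_eq_iff_eq_mul.1 (hfix x (mem_zpowers x))) j

namespace Bad

variable {P : Part G} {t : G} {p : ℕ} (h : Bad P t p)
  (hsmall : Nat.card (pPartSub (P.comp t) p) = p)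
include h hsmall

theorem exists_gen : ∃ r, r ∈ pPartSub (P.comp t) p ∧ r ≠ 1 ∧ orderOf r = p ∧
    pPartSub (P.comp t) p = zpowers r ∧ ∀ x ∈ normalizer (P.comp t : Set G), Commute x r := by
  haveI := Fact.mk h.prime
  obtain ⟨⟨r, hr⟩, hr1'⟩ := ne_bot_iff_exists_ne_one.1 h.card_part_pos
  have hr1 : r ≠ 1 := fun e => hr1' (Subtype.ext e)
  have hro : orderOf r = p := ((Nat.dvd_prime h.prime).1
    (hsmall ▸ Subgroup.orderOf_dvd_natCard _ hr)).resolve_left fun e => hr1 (orderOf_eq_one_iff.1 e)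
  have hQ : pPartSub (P.comp t) p = zpowers r :=
    (eq_of_le_of_card_ge (zpowers_le.2 hr) (by rw [Nat.card_zpowers, hro, hsmall])).symm
  refine ⟨r, hr, hr1, hro, hQ, ?_⟩
  obtain ⟨y, hy, hyn, hyo⟩ := h.exists_y
  have hyc : Commute y r := commute_of_card_dvd (E := pPartSub (P.comp t) p) (dvd_of_eq hsmall)
    (k := 1) (by rw [hyo, pow_one]) (h.le_normalizer_part hy) hr
  refine h.centralizes (commute_of_pPartSub h.nil hr fun w hw => ?_) hy hyn hyc
  rw [hQ] at hw
  obtain ⟨i, rfl⟩ := mem_zpowers_iff.1 hw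
  exact (Commute.refl r).zpow_left i

/-- The `p`-subgroups of the normaliser. -/
theorem eq_join {b : G} (hb : b ∈ normalizer (P.comp t : Set G)) (hbn : b ∉ P.comp t) {T : Subgroup G}
    (hT : IsPGroup p T) (hTX : T ≤ normalizer (P.comp t : Set G))
    (hle : pPartSub (P.comp t) p ⊔ zpowers b ≤ T) : T = pPartSub (P.comp t) p ⊔ zpowers b := by
  haveI := Fact.mk h.prime
  set H := P.comp t
  set X := normalizer (H : Set G)
  refine (eq_of_le_of_card_ge hle ?_).symm
  haveI : (H.subgroupOf X).Normal := Cores.subgroupOf_normal_of_le_normalizer le_rfl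
  have h1 : (H ⊓ T).relIndex T ∣ p := by
    refine dvd_trans ?_ (dvd_of_eq h.relIndex_eq)
    rw [inf_relIndex_right]
    have := relIndex_dvd_index_of_normal (H.subgroupOf X) (T.subgroupOf X)
    rwa [relIndex_subgroupOf hTX] at this
  have h2 : Nat.card (H ⊓ T : Subgroup G) ≤ p := by
    refine (card_le_of_le ?_).trans (le_of_eq hsmall)
    exact fun a ha => (mem_pPartSub h.nil).2 ⟨ha.1, by
      obtain ⟨k, hk⟩ := hT ⟨a, ha.2⟩; exact ⟨k, congrArg Subtype.val hk⟩⟩
  have h3 : Nat.card T ≤ p * p := by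
    rw [← relIndex_bot_left, ← relIndex_mul_relIndex ⊥ (H ⊓ T) T bot_le inf_le_right, relIndex_bot_left]
    exact Nat.mul_le_mul h2 (Nat.le_of_dvd h.prime.pos h1)
  refine h3.trans ?_
  set J := pPartSub H p ⊔ zpowers b
  obtain ⟨n, hn⟩ := (hT.to_le hle).exists_card_eq
  have hlt : p < Nat.card J := by
    by_contra hle'
    push Not at hle'
    have heq : pPartSub H p = J := eq_of_le_of_card_ge le_sup_left (hle'.trans (le_of_eq hsmall.symm))
    exact hbn (pPartSub_le _ _ (heq.ge ((le_sup_right : zpowers b ≤ J) (mem_zpowers b))))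
  rw [hn] at hlt ⊢
  have h2n : 2 ≤ n := by
    by_contra h'
    push Not at h'
    have := Nat.pow_le_pow_right h.prime.pos (show n ≤ 1 by omega)
    rw [pow_one] at this
    omega
  rw [← pow_two]
  exact Nat.pow_le_pow_right h.prime.pos h2n

/-- Elements of the normaliser normalising the abelian `p`-subgroup centralise it. -/
theorem centralizes_join {b n : G} (hb : b ∈ normalizer (P.comp t : Set G)) (hbn : b ∉ P.comp t)
    (hn : n ∈ normalizer (P.comp t : Set G))
    (hnD : n ∈ normalizer ((pPartSub (P.comp t) p ⊔ zpowers b : Subgroup G) : Set G)) :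
    Commute n b := by
  haveI := Fact.mk h.prime
  obtain ⟨r, hr, hr1, hro, hQ, hrc⟩ := h.exists_gen hsmall
  set H := P.comp t
  set X := normalizer (H : Set G)
  set D := pPartSub H p ⊔ zpowers b
  obtain ⟨x, z, rfl, hx, hz, ⟨k, hk⟩, hzo⟩ := Transfer.exists_pPart_mul (p := p) n
  have hxX : x ∈ X := zpowers_le.2 hn hx
  have hzX : z ∈ X := zpowers_le.2 hn hz
  have hxD : x ∈ normalizer (D : Set G) := zpowers_le.2 hnD hx
  have hzD : z ∈ normalizer (D : Set G) := zpowers_le.2 hnD hz
  have hbD : b ∈ D := (le_sup_right : zpowers b ≤ D) (mem_zpowers b)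
  have hDle : D ≤ centralizer ({b} : Set G) := sup_le (fun w hw => by
      rw [hQ] at hw
      obtain ⟨i, rfl⟩ := mem_zpowers_iff.1 hw
      exact mem_centralizer_singleton_iff.2 (((hrc b hb).zpow_right i).symm).eq)
    (zpowers_le.2 (mem_centralizer_singleton_iff.2 rfl))
  refine Commute.mul_left ?_ ?_
  · have hP : IsPGroup p (D ⊔ zpowers x : Subgroup G) := (h.isPGroup_join hb hbn).to_sup_of_normal_left'
      (IsPGroup.of_card (n := k) (by rw [Nat.card_zpowers, hk])) (zpowers_le.2 hxD)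
    have hX : D ⊔ zpowers x ≤ X := sup_le
      (sup_le ((pPartSub_le _ _).trans le_normalizer) (zpowers_le.2 hb)) (zpowers_le.2 hxX)
    have := h.eq_join hsmall hb hbn hP hX le_sup_left
    exact mem_centralizer_singleton_iff.1
      (hDle (this.le ((le_sup_right : zpowers x ≤ D ⊔ zpowers x) (mem_zpowers x))))
  · set e := z * b * z⁻¹ * b⁻¹ with he
    have heD : e ∈ D := mul_mem ((mem_normalizer_iff.1 hzD b).1 hbD) (inv_mem hbD)
    have heH : e ∈ H := h.commutator_mem hzX hb
    have heQ : e ∈ pPartSub H p := (mem_pPartSub h.nil).2 ⟨heH, by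
      obtain ⟨j, hj⟩ := h.isPGroup_join hb hbn ⟨e, heD⟩; exact ⟨j, congrArg Subtype.val hj⟩⟩
    have hze : Commute z e := by
      rw [hQ] at heQ
      obtain ⟨i, hi⟩ := mem_zpowers_iff.1 heQ
      exact hi ▸ (hrc z hzX).zpow_right i
    have hpow : ∀ i : ℕ, z ^ i * b * (z ^ i)⁻¹ = e ^ i * b := by
      intro i
      induction i with
      | zero => simp
      | succ i ih =>
        rw [pow_succ z, show z ^ i * z * b * (z ^ i * z)⁻¹ = z ^ i * (z * b * z⁻¹) * (z ^ i)⁻¹ by group,
          show z * b * z⁻¹ = e * b by rw [he]; group,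
          show z ^ i * (e * b) * (z ^ i)⁻¹ = (z ^ i * e * (z ^ i)⁻¹) * (z ^ i * b * (z ^ i)⁻¹) by group,
          (hze.pow_left i).eq, mul_inv_cancel_right, ih, ← mul_assoc, ← pow_succ']
    have h1 := hpow (orderOf z)
    rw [pow_orderOf_eq_one, one_mul, inv_one, mul_one, eq_comm, mul_eq_right] at h1
    have h2 : orderOf e ∣ p := hsmall ▸ Subgroup.orderOf_dvd_natCard _ heQ
    have h3 := Nat.eq_one_of_dvd_coprimes hzo (orderOf_dvd_of_pow_eq_one h1) h2
    exact mul_inv_eq_iff_eq_mul.1 (mul_inv_eq_one.1 (orderOf_eq_one_iff.1 h3))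

/-- The case of a `p`-part of order `p`. -/
theorem false_small : False := by
  haveI := Fact.mk h.prime
  obtain ⟨r, hr, hr1, hro, hQ, hrc⟩ := h.exists_gen hsmall
  obtain ⟨y, hy, hyn, hyo⟩ := h.exists_y
  set H := P.comp t with hH
  set X := normalizer (H : Set G) with hX
  set D := pPartSub H p ⊔ zpowers y with hD
  have hQH : pPartSub H p ≤ H := pPartSub_le _ _
  have hDp : IsPGroup p D := h.isPGroup_join hy hyn
  have hDX : D ≤ X := sup_le (hQH.trans le_normalizer) (zpowers_le.2 hy)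
  have hrD : r ∈ D := (le_sup_left : pPartSub H p ≤ D) hr
  have hyD : y ∈ D := (le_sup_right : zpowers y ≤ D) (mem_zpowers y)
  have hDgen : ∀ b ∈ D, b ∉ H → D = pPartSub H p ⊔ zpowers b := fun b hb hbn =>
    h.eq_join hsmall (hDX hb) hbn hDp hDX (sup_le le_sup_left (zpowers_le.2 hb))
  have hDcomm : ∀ a ∈ D, ∀ c ∈ D, Commute a c := by
    have hDy : ∀ a ∈ D, Commute a y := fun a ha => by
      refine h.centralizes_join hsmall hy hyn (hDX ha) (le_normalizer ha)
    intro a ha c hc
    have hle : D ≤ centralizer ({a} : Set G) := sup_le (fun w hw => by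
        rw [hQ] at hw
        obtain ⟨i, rfl⟩ := mem_zpowers_iff.1 hw
        exact mem_centralizer_singleton_iff.2 (((hrc a (hDX ha)).zpow_right i).symm).eq)
      (zpowers_le.2 (mem_centralizer_singleton_iff.2 (hDy a ha).symm.eq))
    exact (show Commute c a from mem_centralizer_singleton_iff.1 (hle hc)).symm
  have hdecomp : ∀ a ∈ D, ∀ b ∈ D, b ∉ H → ∃ i j : ℤ, a = r ^ i * b ^ j := by
    intro a ha b hb hbn
    have ha' : a ∈ ((pPartSub H p ⊔ zpowers b : Subgroup G) : Set G) := (hDgen b hb hbn).le ha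
    rw [coe_mul_of_right_le_normalizer_left _ _ (zpowers_le.2 (h.le_normalizer_part (hDX hb)))] at ha'
    obtain ⟨u, hu, v, hv, e⟩ := ha'
    rw [SetLike.mem_coe, hQ] at hu
    obtain ⟨i, rfl⟩ := mem_zpowers_iff.1 hu
    obtain ⟨j, rfl⟩ := mem_zpowers_iff.1 hv
    exact ⟨i, j, e.symm⟩
  have hcentX : ∀ n ∈ X, n ∈ normalizer (D : Set G) → ∀ a ∈ D, Commute n a := by
    intro n hn hnD a ha
    obtain ⟨i, j, rfl⟩ := hdecomp a ha y hyD hyn
    exact ((hrc n hn).zpow_right i).mul_right ((h.centralizes_join hsmall hy hyn hn hnD).zpow_right j)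
  -- the involutions swapping the lines
  have hswap : ∀ n ∈ normalizer (D : Set G), n ∉ X →
      n * r * n⁻¹ ∉ H ∧ ∀ a ∈ D, n * (n * a * n⁻¹) * n⁻¹ = a := by
    intro n hn hnX
    have hbn : n * r * n⁻¹ ∉ H := fun hm => hnX (h.toClosed.mem_of_conj (hQH hr) hr1 hm)
    have hbD : n * r * n⁻¹ ∈ D := (mem_normalizer_iff.1 hn r).1 hrD
    refine ⟨hbn, ?_⟩
    obtain ⟨u, hu, hux⟩ := h.toClosed.exists_swap hnX
    have huu : u * u = 1 := Involution.mul_self hu
    have hui : u⁻¹ = u := Involution.inv_eq hu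
    have hur : u * r * u⁻¹ = n * r * n⁻¹ := by
      calc u * r * u⁻¹ = n * ((n⁻¹ * u) * r) * (n⁻¹ * u)⁻¹ * n⁻¹ := by group
        _ = n * r * n⁻¹ := by rw [(hrc _ hux).eq]; group
    have hub : u * (n * r * n⁻¹) * u⁻¹ = r := by
      rw [← hur, hui, show u * (u * r * u) * u = u * u * r * (u * u) by group, huu, one_mul, mul_one]
    have huD : u ∈ normalizer (D : Set G) := by
      have hle : D ≤ D.comap (MulAut.conj u).toMonoidHom := by
        conv_lhs => rw [hDgen _ hbD hbn]
        refine sup_le ?_ (zpowers_le.2 (mem_comap.2 ?_))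
        · rw [hQ]
          refine zpowers_le.2 (mem_comap.2 ?_)
          show u * r * u⁻¹ ∈ D
          rw [hur]; exact hbD
        · show u * (n * r * n⁻¹) * u⁻¹ ∈ D
          rw [hub]; exact hrD
      exact mem_normalizer_fintype fun a ha => hle ha
    have hxD : n⁻¹ * u ∈ normalizer (D : Set G) := mul_mem (Subgroup.inv_mem _ hn) huD
    have hsame : ∀ a ∈ D, n * a * n⁻¹ = u * a * u⁻¹ := fun a ha => by
      have := (hcentX _ hux hxD a ha).eq
      calc n * a * n⁻¹ = n * (a * (n⁻¹ * u)) * (n⁻¹ * u)⁻¹ * n⁻¹ := by group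
        _ = u * a * u⁻¹ := by rw [← this]; group
    intro a ha
    rw [hsame _ ((mem_normalizer_iff.1 hn a).1 ha), hsame a ha, hui,
      show u * (u * a * u) * u = u * u * a * (u * u) by group, huu, one_mul, mul_one]
  have hsq : ∀ n ∈ normalizer (D : Set G), ∀ a ∈ D, n * (n * a * n⁻¹) * n⁻¹ = a := by
    intro n hn a ha
    by_cases hnX : n ∈ X
    · rw [(hcentX n hnX hn a ha).eq, mul_inv_cancel_right, (hcentX n hnX hn a ha).eq, mul_inv_cancel_right]
    · exact (hswap n hn hnX).2 a ha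
  have hpc : ∀ x ∈ normalizer (D : Set G), ∀ k, orderOf x = p ^ k → ∀ a ∈ D, Commute x a := by
    intro x hx k hk a ha
    have hodd : Odd (orderOf x) := hk ▸ (h.prime.odd_of_ne_two h.ne_two).pow
    obtain ⟨l, hl⟩ := hodd
    have hx2 : Commute (x * x) a := by
      refine mul_inv_eq_iff_eq_mul.1 ?_
      rw [show x * x * a * (x * x)⁻¹ = x * (x * a * x⁻¹) * x⁻¹ by group]
      exact hsq x hx a ha
    have := hx2.pow_left (l + 1)
    rwa [← pow_two, ← pow_mul, show 2 * (l + 1) = orderOf x + 1 by omega, pow_succ, pow_orderOf_eq_one,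
      one_mul] at this
  obtain ⟨R, hR⟩ := hDp.exists_le_sylow
  have hRD : (R : Subgroup G) = D := by
    by_contra hne
    obtain ⟨n, ⟨hnN, hnR⟩, hnD⟩ := SetLike.exists_of_lt
      (SmallOrders.lt_normalizer_inf R.isPGroup' (lt_of_le_of_ne hR (Ne.symm hne)))
    obtain ⟨k, hk⟩ := R.isPGroup' ⟨n, hnR⟩
    obtain ⟨j, -, hj⟩ := (Nat.dvd_prime_pow h.prime).1
      (orderOf_dvd_of_pow_eq_one (congrArg Subtype.val hk : n ^ p ^ k = 1))
    have hnX : n ∈ X := h.toClosed.mem_normalizer_of_commute (hQH hr) hr1 (hpc n hnN j hj r hrD)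
    refine hnD ?_
    have hP : IsPGroup p (D ⊔ zpowers n : Subgroup G) :=
      R.isPGroup'.to_le (sup_le hR (zpowers_le.2 hnR))
    have := h.eq_join hsmall hy hyn hP (sup_le hDX (zpowers_le.2 hnX)) le_sup_left
    exact this.le ((le_sup_right : zpowers n ≤ D ⊔ zpowers n) (mem_zpowers n))
  -- the focal subgroup
  have hfoc : ∀ W : Subgroup G, (∀ n ∈ normalizer (D : Set G), ∀ a ∈ D, a * n * a⁻¹ * n⁻¹ ∈ W) →
      (R : Subgroup G) ⊓ _root_.commutator G ≤ W := by
    intro W hW
    rw [S4250.result p R, sup_le_iff]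
    refine ⟨commutator_le.2 fun a ha b hb => hW b (hRD ▸ hb) a (hRD ▸ ha),
      iSup_le fun Q' => iSup_le fun _ => iSup_le fun x => iSup_le fun hx => commutator_le.2 fun a ha b hb => ?_⟩
    obtain ⟨hxN, k, hk⟩ := hx
    suffices hab : Commute x a by
      obtain ⟨i, rfl⟩ := mem_zpowers_iff.1 hb
      rw [commutatorElement_eq_one_iff_mul_comm.2 (hab.zpow_left i).symm.eq]
      exact one_mem _
    have hEle : (R : Subgroup G) ⊓ (Q' : Subgroup G) ≤ D := inf_le_left.trans hRD.le
    by_cases hE : (R : Subgroup G) ⊓ (Q' : Subgroup G) = D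
    · exact hpc x (hE ▸ hxN) k hk a (hEle ha)
    refine commute_of_card_dvd ?_ hk hxN ha
    have hDcard : Nat.card D ∣ p * p := by
      obtain ⟨n, hn⟩ := hDp.exists_card_eq
      have h1 : Nat.card D ≤ p * p := by
        haveI : (H.subgroupOf X).Normal := Cores.subgroupOf_normal_of_le_normalizer le_rfl
        have h2 : H.relIndex D ≤ p := by
          refine Nat.le_of_dvd h.prime.pos (dvd_trans ?_ (dvd_of_eq h.relIndex_eq))
          have := relIndex_dvd_index_of_normal (H.subgroupOf X) (D.subgroupOf X)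
          rwa [relIndex_subgroupOf hDX] at this
        rw [← relIndex_bot_left, ← relIndex_mul_relIndex ⊥ (H ⊓ D) D bot_le inf_le_right, relIndex_bot_left,
          inf_relIndex_right]
        refine Nat.mul_le_mul ((card_le_of_le ?_).trans (le_of_eq hsmall)) h2
        exact fun a ha => (mem_pPartSub h.nil).2 ⟨ha.1, by
          obtain ⟨k, hk⟩ := hDp ⟨a, ha.2⟩; exact ⟨k, congrArg Subtype.val hk⟩⟩
      rw [hn, ← pow_two] at h1 ⊢
      exact pow_dvd_pow p ((Nat.pow_le_pow_iff_right h.prime.one_lt).1 h1)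
    obtain ⟨n, hn2, hn⟩ := (Nat.dvd_prime_pow h.prime).1 ((pow_two p).symm ▸ (card_dvd_of_le hEle).trans hDcard)
    rw [hn]
    refine (pow_dvd_pow p (show n ≤ 1 from ?_)).trans (pow_one p).dvd
    by_contra hn1
    refine hE (eq_of_le_of_card_ge hEle ?_)
    rw [hn, show n = 2 by omega, pow_two]
    exact Nat.le_of_dvd (Nat.mul_pos h.prime.pos h.prime.pos) hDcard
  have hrR : pPartSub H p ≤ (R : Subgroup G) := le_sup_left.trans hR
  by_cases hall : ∀ n ∈ normalizer (D : Set G), n ∈ X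
  · refine h.false_of_focal R (hRD ▸ hDX) hrR (hR hyD) hyn (hfoc _ fun n hn a ha => ?_)
    rw [(hcentX n (hall n hn) hn a ha).eq.symm, mul_inv_cancel_right, mul_inv_cancel]
    exact one_mem _
  push Not at hall
  obtain ⟨u₀, hu₀, hu₀X⟩ := hall
  obtain ⟨u, hu, hux⟩ := h.toClosed.exists_swap hu₀X
  set b := u₀ * r * u₀⁻¹ with hb
  have hbn : b ∉ H := (hswap u₀ hu₀ hu₀X).1
  have hbD : b ∈ D := (mem_normalizer_iff.1 hu₀ r).1 hrD
  have hbo : orderOf b = p := by rw [hb, Involution.orderOf_conj, hro]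
  have hbu : b * r = r * b := (hDcomm b hbD r hrD).eq
  have hbH : ∀ i : ℤ, b ^ i ∈ H → b ^ i = 1 := by
    intro i hi
    by_contra hne
    exact hbn ((P.eq_of_mem h.toClosed.t_ne hne hi).le ((P.zpow hne).ge (P.mem fun e => hbn (e ▸ one_mem _))))
  have hbr : ∀ i : ℤ, b ^ i = 1 ↔ r ^ i = 1 := fun i => by
    rw [← orderOf_dvd_iff_zpow_eq_one, ← orderOf_dvd_iff_zpow_eq_one, hbo, hro]
  have hcz : ∀ (g a c : G) (i j : ℤ), g * (a ^ i * c ^ j) * g⁻¹ = (g * a * g⁻¹) ^ i * (g * c * g⁻¹) ^ j := by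
    intro g a c i j
    rw [conj_zpow, conj_zpow]
    group
  -- every element of the normaliser outside swaps the same lines
  have hsame : ∀ n ∈ normalizer (D : Set G), n ∉ X → n * r * n⁻¹ = b := by
    intro n hn hnX
    obtain ⟨i, j, hij⟩ := hdecomp (n * r * n⁻¹) ((mem_normalizer_iff.1 hn r).1 hrD) b hbD hbn
    set m := u₀ * n with hm
    have hmD : m ∈ normalizer (D : Set G) := mul_mem hu₀ hn
    have hu₀b : u₀ * b * u₀⁻¹ = r := hsq u₀ hu₀ r hrD
    have hmr : m * r * m⁻¹ = b ^ i * r ^ j := by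
      calc m * r * m⁻¹ = u₀ * (n * r * n⁻¹) * u₀⁻¹ := by rw [hm]; group
        _ = (u₀ * r * u₀⁻¹) ^ i * (u₀ * b * u₀⁻¹) ^ j := by rw [hij, hcz]
        _ = b ^ i * r ^ j := by rw [hu₀b]
    by_cases hmX : m ∈ X
    · rw [(hrc m hmX).eq, mul_inv_cancel_right] at hmr
      have hbi : b ^ i = 1 := hbH i (by
        have : b ^ i = r * (r ^ j)⁻¹ := eq_mul_inv_of_mul_eq hmr.symm
        rw [this]
        exact mul_mem (hQH hr) (inv_mem (Subgroup.zpow_mem _ (hQH hr) j)))
      rw [hbi, one_mul] at hmr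
      have hbj : b ^ j = b := by
        have h1 : r ^ (j - 1) = 1 := by rw [zpow_sub, zpow_one, ← hmr, mul_inv_cancel]
        have h2 := (hbr _).2 h1
        rw [zpow_sub, zpow_one, mul_inv_eq_one] at h2
        exact h2
      rw [hij, (hbr i).1 hbi, one_mul, hbj]
    · exfalso
      have hm2 := (hswap m hmD hmX).2
      have hmb : m * b * m⁻¹ = n * r * n⁻¹ := by
        have h1 : m * b * m⁻¹ = m⁻¹ * b * m := by
          conv_rhs => rw [← hm2 b hbD]
          group
        rw [h1, hm]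
        calc (u₀ * n)⁻¹ * b * (u₀ * n) = n⁻¹ * (u₀⁻¹ * b * u₀) * n := by group
          _ = n⁻¹ * r * n := by rw [hb]; group
          _ = n * r * n⁻¹ := by
              conv_lhs => rw [← hsq n hn r hrD]
              group
      have h3 := hm2 r hrD
      rw [hmr] at h3
      rw [hcz m b r i j, hmb, hij, hmr] at h3
      have hrb : ∀ k l : ℤ, Commute (r ^ k) (b ^ l) := fun k l =>
        (show Commute b r from hbu).symm.zpow_zpow k l
      rw [(hrb i j).mul_zpow, (hrb j i).symm.mul_zpow, ← zpow_mul, ← zpow_mul, ← zpow_mul, ← zpow_mul] at h3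
      have hb2 : b ^ (j * i + i * j) = 1 := hbH _ (by
        have : b ^ (j * i + i * j) = r * (r ^ (i * i + j * j))⁻¹ := by
          refine eq_mul_inv_of_mul_eq (Eq.trans ?_ h3)
          rw [zpow_add, zpow_add, show r ^ (i * i) * b ^ (j * i) * (b ^ (i * j) * r ^ (j * j)) =
            (r ^ (i * i) * (b ^ (j * i) * b ^ (i * j))) * r ^ (j * j) by group,
            (((hrb (i * i) (j * i)).mul_right (hrb (i * i) (i * j)))).eq]
          group
        rw [this]
        exact mul_mem (hQH hr) (inv_mem (Subgroup.zpow_mem _ (hQH hr) _)))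
      rw [← orderOf_dvd_iff_zpow_eq_one, hbo, show j * i + i * j = 2 * (i * j) by ring] at hb2
      have hp2 : ¬ ((p : ℤ) ∣ 2) := fun hd => h.ne_two
        ((Nat.prime_dvd_prime_iff_eq h.prime Nat.prime_two).1 (by exact_mod_cast hd))
      rcases (Nat.prime_iff_prime_int.1 h.prime).dvd_mul.1
        (((Nat.prime_iff_prime_int.1 h.prime).dvd_mul.1 hb2).resolve_left hp2) with hi | hj
      · refine hmX (h.toClosed.mem_of_conj (hQH hr) hr1 ?_)
        rw [hmr, show b ^ i = 1 from orderOf_dvd_iff_zpow_eq_one.1 (by rw [hbo]; exact hi), one_mul]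
        exact Subgroup.zpow_mem _ (hQH hr) j
      · refine hnX (h.toClosed.mem_of_conj (hQH hr) hr1 ?_)
        rw [hij, show b ^ j = 1 from orderOf_dvd_iff_zpow_eq_one.1 (by rw [hbo]; exact hj), mul_one]
        exact Subgroup.zpow_mem _ (hQH hr) i
  set d := r * b⁻¹ with hd
  have hd1 : d ≠ 1 := fun e => hbn ((mul_inv_eq_one.1 e) ▸ hQH hr)
  have hdD : d ∈ D := mul_mem hrD (inv_mem hbD)
  have hdo : orderOf d = p := orderOf_eq_prime (by
    rw [hd, (hDcomm r hrD b⁻¹ (inv_mem hbD)).mul_pow, inv_pow, ← hro, pow_orderOf_eq_one, hro, ← hbo,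
      pow_orderOf_eq_one, inv_one, mul_one]) hd1
  have hle := hfoc (zpowers d) fun n hn a ha => by
    by_cases hnX : n ∈ X
    · rw [(hcentX n hnX hn a ha).eq.symm, mul_inv_cancel_right, mul_inv_cancel]
      exact one_mem _
    have hnr := hsame n hn hnX
    have hnb : n * b * n⁻¹ = r := by rw [← hnr]; exact hsq n hn r hrD
    obtain ⟨i, j, rfl⟩ := hdecomp a ha b hbD hbn
    refine mem_zpowers_iff.2 ⟨i - j, ?_⟩
    have hrb : ∀ k l : ℤ, Commute (r ^ k) (b ^ l) := fun k l =>
      (show Commute b r from hbu).symm.zpow_zpow k l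
    calc d ^ (i - j) = r ^ i * b ^ j * (b ^ i * r ^ j)⁻¹ := by
          rw [hd, (show Commute r b⁻¹ from (show Commute b r from hbu).symm.inv_right).mul_zpow, zpow_sub,
            zpow_sub, inv_zpow, inv_zpow, inv_inv, mul_inv_rev,
            show r ^ i * b ^ j * ((r ^ j)⁻¹ * (b ^ i)⁻¹) = r ^ i * (b ^ j * (r ^ j)⁻¹) * (b ^ i)⁻¹ by group,
            ((hrb j j).inv_left).symm.eq]
          have := ((hrb 0 0)).eq
          rw [show (b ^ i)⁻¹ * b ^ j = b ^ j * (b ^ i)⁻¹ from ((Commute.refl b).zpow_zpow j i).inv_right.eq.symm]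
          group
      _ = r ^ i * b ^ j * n * (r ^ i * b ^ j)⁻¹ * n⁻¹ := by
          rw [show r ^ i * b ^ j * n * (r ^ i * b ^ j)⁻¹ * n⁻¹ =
            r ^ i * b ^ j * (n * (r ^ i * b ^ j) * n⁻¹)⁻¹ by group, hcz, hnr, hnb]
  -- transfer
  have hdcard : (zpowers d).relIndex D = p := by
    haveI : (H.subgroupOf X).Normal := Cores.subgroupOf_normal_of_le_normalizer le_rfl
    have h1 := Subgroup.relIndex_mul_relIndex ⊥ (zpowers d) D bot_le (zpowers_le.2 hdD)
    rw [relIndex_bot_left, relIndex_bot_left, Nat.card_zpowers, hdo] at h1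
    have h2 := Subgroup.relIndex_mul_relIndex ⊥ (pPartSub H p) D bot_le le_sup_left
    rw [relIndex_bot_left, relIndex_bot_left, hsmall, ← h1] at h2
    have h3 : (pPartSub H p).relIndex D ∣ p := by
      refine dvd_trans ?_ (dvd_of_eq h.relIndex_eq)
      have e : pPartSub H p = H ⊓ D := le_antisymm (le_inf hQH le_sup_left)
        fun a ha => (mem_pPartSub h.nil).2 ⟨ha.1, by
          obtain ⟨k, hk⟩ := hDp ⟨a, ha.2⟩; exact ⟨k, congrArg Subtype.val hk⟩⟩
      rw [e, inf_relIndex_right]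
      have := relIndex_dvd_index_of_normal (H.subgroupOf X) (D.subgroupOf X)
      rwa [relIndex_subgroupOf hDX] at this
    rw [← Nat.eq_of_mul_eq_mul_left h.prime.pos h2]
    refine ((Nat.dvd_prime h.prime).1 h3).resolve_left fun e => hyn (hQH (relIndex_eq_one.1 e hyD))
  obtain ⟨M, hMn, hMi, hMR⟩ := exists_normal_index R (zpowers d) (hRD.symm ▸ zpowers_le.2 hdD)
    (hRD.symm ▸ hdcard) hle
  have hMd : ∀ a : G, (orderOf a).Coprime p → a ∈ M := by
    intro a ha
    haveI := hMn
    refine Transfer.pResidual_le_of_index (k := 1) (N := M) (by rw [hMi, pow_one]) ?_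
    exact Transfer.mem_pResidual_of_coprime ha
  have hrM : r ∉ M := by
    intro hrM
    obtain ⟨k, hk⟩ := mem_zpowers_iff.1 (hMR.le ⟨hR hrD, hrM⟩)
    rw [hd, (show Commute r b⁻¹ from (show Commute b r from hbu).symm.inv_right).mul_zpow, inv_zpow] at hk
    have hbk : b ^ k = 1 := hbH k (by
      rw [eq_inv_mul_of_mul_eq (a := b ^ k) (b := r) (c := r ^ k) (mul_inv_eq_iff_eq_mul.1 hk).symm]
      exact mul_mem (inv_mem (hQH hr)) (Subgroup.zpow_mem _ (hQH hr) k))
    rw [(hbr k).1 hbk, hbk, inv_one, one_mul] at hk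
    exact hr1 hk.symm
  have htM : t ∈ M := hMd t (by rw [h.two]; exact (Nat.coprime_primes Nat.prime_two h.prime).2 h.ne_two.symm)
  have huM : u ∈ M := hMd u (by rw [hu]; exact (Nat.coprime_primes Nat.prime_two h.prime).2 h.ne_two.symm)
  haveI := hMn
  have hub : u * r * u⁻¹ = b := by
    rw [hb]
    calc u * r * u⁻¹ = u₀ * ((u₀⁻¹ * u) * r) * (u₀⁻¹ * u)⁻¹ * u₀⁻¹ := by group
      _ = u₀ * r * u₀⁻¹ := by rw [(hrc _ hux).eq]; group
  have huX : u ∉ X := fun hm => hbn (hub ▸ P.conj_mem hm (hQH hr))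
  have hM2 := InvertedOdd.noSolvableNormal_sub h.hs M
  have hTI : FrobSystem.TIHyp (X.subgroupOf M) (H.subgroupOf M) :=
    { le := fun a ha => le_normalizer (H := H) ha
      normal := fun m hm a ha => P.conj_mem hm ha
      fpf := fun a haX haH w hw hc => by
        by_contra hw1
        have hwG : (w : G) ≠ 1 := fun e => hw1 (Subtype.ext e)
        have hc' : Commute (w : G) (a : G) := congrArg Subtype.val hc
        have haH' : (a : G) ∉ H := haH
        have hw' : (w : G) ∈ H := hw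
        obtain ⟨he, -⟩ := (P.mem_or_eq hwG (fun e => haH' (by rw [e]; exact one_mem _)) hc').resolve_left
          fun hh => haH' ((P.eq_of_mem h.toClosed.t_ne hwG hw').le hh)
        rw [h.orderOf_outside (g := (a : G)) haX haH'] at he
        have hwQ : (w : G) ∈ pPartSub H p :=
          (mem_pPartSub h.nil).2 ⟨hw', 1, by rw [pow_one, ← he, pow_orderOf_eq_one]⟩
        have : pPartSub H p = zpowers (w : G) := (eq_of_le_of_card_ge (zpowers_le.2 hwQ)
          (by rw [Nat.card_zpowers, he, hsmall])).symm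
        exact hrM (zpowers_le.2 w.2 (this ▸ hr))
      ti := fun g hg a ha hga => by
        by_contra ha1
        exact hg (h.toClosed.mem_of_conj ha (fun e => ha1 (Subtype.ext e)) hga)
      invol := ⟨⟨t, htM⟩, h.toClosed.t_mem, by rw [orderOf_mk, h.two]⟩
      ne_top := fun e => huX (subgroupOf_eq_top.1 e huM) }
  have hsolv : Group.IsSolvable X := by
    haveI : (H.subgroupOf X).Normal := Cores.subgroupOf_normal_of_le_normalizer le_rfl
    haveI : Group.IsNilpotent (H.subgroupOf X) := by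
      haveI := h.nil
      exact Group.nilpotent_of_mulEquiv (subgroupOfEquivOfLe (le_normalizer (H := H))).symm
    haveI : IsCyclic (X ⧸ H.subgroupOf X) :=
      isCyclic_of_prime_card (p := p) (by rw [← index_eq_card]; exact h.relIndex_eq)
    letI := IsCyclic.commGroup (α := X ⧸ H.subgroupOf X)
    exact (Group.isSolvable_iff_subgroup_quotient (H.subgroupOf X)).2 ⟨inferInstance, inferInstance⟩
  have hcore : r ∈ X.normalCore := by
    suffices hr' : ∀ g : G, g⁻¹ * r * g ∈ X by
      intro g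
      have := hr' g⁻¹
      rwa [inv_inv] at this
    intro g
    by_cases hgX : g ∈ X
    · have h1 := (hrc _ (Subgroup.inv_mem _ hgX)).eq
      rw [h1, mul_assoc, inv_mul_cancel, mul_one]
      exact le_normalizer (hQH hr)
    haveI := Fact.mk h.prime
    have hcard : Nat.card (G ⧸ M) = p := by rw [← index_eq_card, hMi]
    obtain ⟨i, hi⟩ := mem_zpowers_iff.1 (mem_zpowers_of_prime_card hcard
      (g := QuotientGroup.mk' M r) (fun e => hrM ((QuotientGroup.eq_one_iff r).1 e))
      (g' := QuotientGroup.mk' M g))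
    set m := g * (r ^ i)⁻¹ with hm
    have hmM : m ∈ M := (QuotientGroup.eq_one_iff m).1 (by
      rw [← QuotientGroup.mk'_apply, hm, map_mul, map_inv, map_zpow, hi, mul_inv_cancel])
    have hri : r ^ i ∈ X := Subgroup.zpow_mem _ (le_normalizer (hQH hr)) i
    have hmX : m ∉ X := fun hm' => hgX (by
      have := mul_mem hm' hri
      rwa [hm, inv_mul_cancel_right] at this)
    obtain ⟨f, hf, hfm⟩ := hTI.exists_regular hM2
      (p := ((⟨u, huM⟩ : M) : M ⧸ X.subgroupOf M)) (q := ((⟨m, hmM⟩ : M) : M ⧸ X.subgroupOf M))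
      (fun e => huX (by
        have := QuotientGroup.eq.1 e
        rw [mem_subgroupOf] at this
        simpa using this))
      (fun e => hmX (by
        have := QuotientGroup.eq.1 e
        rw [mem_subgroupOf] at this
        simpa using this))
    rw [MulAction.Quotient.smul_coe, smul_eq_mul, QuotientGroup.eq, mem_subgroupOf] at hfm
    set x := ((f * ⟨u, huM⟩ : M)⁻¹ * ⟨m, hmM⟩ : M) with hx
    have hm_eq : m = (f : G) * u * (x : G) := by
      rw [hx]
      simp only [Subgroup.coe_mul, Subgroup.coe_inv]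
      group
    have hu2 : u⁻¹ * r * u ∈ X := by
      rw [show u⁻¹ * r * u = u * r * u⁻¹ by rw [Involution.inv_eq hu]]
      rw [hub]
      exact hDX hbD
    have hg : g = (f : G) * u * (x : G) * r ^ i := by rw [← hm_eq, hm, inv_mul_cancel_right]
    have hcf : (f : G)⁻¹ * r * (f : G) = r := by
      rw [(hrc (f : G)⁻¹ (Subgroup.inv_mem _ (le_normalizer hf))).eq, mul_assoc, inv_mul_cancel, mul_one]
    rw [hg, show ((f : G) * u * (x : G) * r ^ i)⁻¹ * r * ((f : G) * u * (x : G) * r ^ i) =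
      ((x : G) * r ^ i)⁻¹ * (u⁻¹ * ((f : G)⁻¹ * r * (f : G)) * u) * ((x : G) * r ^ i) by group, hcf]
    exact mul_mem (mul_mem (Subgroup.inv_mem _ (mul_mem hfm hri)) hu2) (mul_mem hfm hri)
  haveI := hsolv
  have hbot := h.hs X.normalCore inferInstance (Group.isSolvable_of_isSolvable_injective
    (f := inclusion (normalCore_le X)) (inclusion_injective _))
  rw [hbot, mem_bot] at hcore
  exact hr1 hcore

end Bad

namespace Closed

variable {P : Part G} {t : G} (h : Closed P t)
include h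

/-- The member contains the centralisers of its elements. -/
theorem cent_le : ∀ a ∈ P.comp t, a ≠ 1 → ∀ g, Commute g a → g ∈ P.comp t := by
  intro a ha ha1 g hg
  by_contra hgn
  have hgX := h.mem_normalizer_of_commute ha ha1 hg
  obtain ⟨hnil, hp, he⟩ := P.isNilpotent_of_commute h.t_ne hgX hgn ha ha1 hg
  have hbad : Bad P t (orderOf g) :=
    { toClosed := h
      prime := hp
      nil := hnil
      dvd := he ▸ Subgroup.orderOf_dvd_natCard _ ha
      exists_y := ⟨g, hgX, hgn, rfl⟩ }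
  by_cases hsmall : Nat.card (pPartSub (P.comp t) (orderOf g)) = orderOf g
  · exact hbad.false_small hsmall
  · exact hbad.false_big hsmall

theorem classify :
    (∃ (K : Type) (_ : Field K) (_ : Fintype K), 4 ≤ Fintype.card K ∧
        Nonempty (G ≃* Matrix.ProjectiveSpecialLinearGroup (Fin 2) K)) ∨ Cfsg.Lie.IsoSuzuki G :=
  classify_tiHyp' h.hs (h.tiHyp h.cent_le)

end Closed

end Cfsg.Agent.PartCls
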