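/-
Finite groups with a non-trivial partition: the case division of Baer, Kegel and Suzuki.

Main results (namespace `Cfsg.Agent.PartCls`): `exists_abelian_normal_of_solvable`, `Part.classify`.
-/
import Cfsg.Agent.Lib.PartitionClass.AbelianNormal
import Cfsg.Agent.Lib.PartitionClass.SESmall
import Cfsg.Agent.Lib.PartitionClass.PGLExt
import Cfsg.Agent.Lib.OddOrderTheorem.Basic
import Cfsg.Agent.S1230

set_option autoImplicit false

namespace Cfsg.Agent.PartCls

open Subgroup

universe u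

variable {G : Type u} [Group G] [Finite G]

/-- A non-trivial solvable normal subgroup gives an abelian one. -/
theorem exists_abelian_normal_of_solvable {N : Subgroup G} (hN : N.Normal) (h : Group.IsSolvable N)
    (hne : N ≠ ⊥) : ∃ A : Subgroup G, A.Normal ∧ A ≠ ⊥ ∧ IsMulCommutative A := by
  classical
  let D : ℕ → Subgroup G := fun k => (derivedSeries N k).map N.subtype
  have h0 : D 0 = N := by
    show (derivedSeries N 0).map N.subtype = N
    rw [derivedSeries_zero, ← MonoidHom.range_eq_map, range_subtype]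
  have hsucc : ∀ k, D (k + 1) = ⁅D k, D k⁆ := fun k => by
    show (derivedSeries N (k + 1)).map N.subtype = _
    rw [derivedSeries_succ, map_commutator]
  have hnorm : ∀ k, (D k).Normal := by
    intro k
    induction k with
    | zero => rw [h0]; exact hN
    | succ k ih => haveI := ih; rw [hsucc]; exact commutator_normal _ _
  have hex : ∃ n, D n = ⊥ := by
    obtain ⟨n, hn⟩ := h.solvable
    exact ⟨n, by show (derivedSeries N n).map N.subtype = ⊥; rw [hn, Subgroup.map_bot]⟩
  have hpos : Nat.find hex ≠ 0 := fun e => hne (by rw [← h0, ← e]; exact Nat.find_spec hex)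
  obtain ⟨m, hm⟩ := Nat.exists_eq_succ_of_ne_zero hpos
  refine ⟨D m, hnorm m, Nat.find_min hex (by omega), ⟨⟨fun a b => ?_⟩⟩⟩
  have h1 := Nat.find_spec hex
  rw [hm, hsucc, commutator_eq_bot_iff_le_centralizer] at h1
  exact Subtype.ext (mem_centralizer_iff.1 (h1 b.2) a a.2)

theorem exists_central_involution (h2 : 2 ∣ Nat.card G) (S : Sylow 2 G) :
    ∃ t, t ∈ (S : Subgroup G) ∧ orderOf t = 2 ∧ ∀ s ∈ (S : Subgroup G), Commute s t := by
  haveI := Fact.mk Nat.prime_two
  haveI : Nontrivial (S : Subgroup G) := (nontrivial_iff_ne_bot _).2 (S.ne_bot_of_dvd_card h2)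
  haveI := S.isPGroup'.center_nontrivial
  obtain ⟨k, hk0, hk⟩ := (S.isPGroup'.to_subgroup (center (S : Subgroup G))).nontrivial_iff_card.1 ‹_›
  obtain ⟨z, hz⟩ := exists_prime_orderOf_dvd_card' (G := center (S : Subgroup G)) 2
    (hk ▸ dvd_pow_self 2 (by omega))
  refine ⟨((z : (S : Subgroup G)) : G), (z : (S : Subgroup G)).2, ?_, fun s hs => ?_⟩
  · rw [Subgroup.orderOf_coe, Subgroup.orderOf_coe, hz]
  · exact congrArg Subtype.val (mem_center_iff.1 z.2 ⟨s, hs⟩)

theorem psl_of_elementary (hs : InvertedOdd.NoSolvableNormal G) (h2 : 2 ∣ Nat.card G)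
    (hC : ∀ (S : Sylow 2 G) (t : G), t ∈ (S : Subgroup G) → orderOf t = 2 →
      (∀ s ∈ (S : Subgroup G), Commute s t) → ∀ c, Commute c t → c * c = 1) :
    ∃ (F : Type) (_ : Field F) (_ : Fintype F), 4 ≤ Fintype.card F ∧
      Nonempty (G ≃* Matrix.ProjectiveSpecialLinearGroup (Fin 2) F) := by
  haveI := Fact.mk Nat.prime_two
  have hex2 : ∀ {H : Subgroup G}, (∀ c ∈ H, c * c = 1) → ∀ a ∈ H, ∀ b ∈ H, Commute a b := by
    intro H hH a ha b hb
    have hinv : ∀ c ∈ H, c⁻¹ = c := fun c hc => inv_eq_of_mul_eq_one_left (hH c hc)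
    show a * b = b * a
    conv_lhs => rw [← hinv _ (mul_mem ha hb), mul_inv_rev, hinv a ha, hinv b hb]
  have hall : ∀ u : G, orderOf u = 2 → ∀ c, Commute c u → c * c = 1 := by
    intro u hu
    obtain ⟨S, hS⟩ := (IsPGroup.of_card (G := zpowers u) (n := 1)
      (by rw [Nat.card_zpowers, hu, pow_one])).exists_le_sylow (G := G)
    obtain ⟨t, htS, ht2, htc⟩ := exists_central_involution h2 S
    refine hC S u (hS (mem_zpowers u)) hu fun s hsS => ?_
    exact hex2 (H := centralizer {t}) (fun c hc => hC S t htS ht2 htc c (mem_centralizer_singleton_iff.1 hc))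
      s (mem_centralizer_singleton_iff.2 (htc s hsS).eq) u
      (mem_centralizer_singleton_iff.2 (htc u (hS (mem_zpowers u))).eq)
  obtain ⟨T⟩ : Nonempty (Sylow 2 G) := inferInstance
  have hT0 : (T : Subgroup G) ≠ ⊥ := T.ne_bot_of_dvd_card h2
  obtain ⟨t, htT, ht2, htc⟩ := exists_central_involution h2 T
  have hTexp : ∀ c ∈ (T : Subgroup G), c * c = 1 := fun c hc => hall t ht2 c (htc c hc)
  have hnn : ¬ (T : Subgroup G).Normal := fun hn => by
    haveI : Group.IsNilpotent (T : Subgroup G) := T.isPGroup'.isNilpotent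
    exact hT0 (hs _ hn inferInstance)
  have hnc : ¬ IsCyclic (T : Subgroup G) := by
    intro hcyc
    obtain ⟨g, hg⟩ := hcyc.exists_generator
    have hg2 : orderOf g ∣ 2 :=
      orderOf_dvd_of_pow_eq_one (Subtype.ext (by rw [pow_two]; exact hTexp g g.2))
    have hle : Nat.card (T : Subgroup G) ≤ 2 :=
      Nat.le_of_dvd two_pos (orderOf_eq_card_of_forall_mem_zpowers hg ▸ hg2)
    haveI : Nontrivial (T : Subgroup G) := (nontrivial_iff_ne_bot _).2 hT0
    have hcard : Nat.card (T : Subgroup G) = 2 :=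
      le_antisymm hle Finite.one_lt_card
    obtain ⟨y, -, hy⟩ := (Nat.card_eq_two_iff' (1 : (T : Subgroup G))).1 hcard
    refine FrobSystem.false_of_unique_involution hs T ht2 htT fun s hsT hs2 => ?_
    have e1 := hy ⟨s, hsT⟩ fun e => Involution.ne_one hs2 (congrArg Subtype.val e)
    have e2 := hy ⟨t, htT⟩ fun e => Involution.ne_one ht2 (congrArg Subtype.val e)
    exact congrArg Subtype.val (e1.trans e2.symm)
  obtain ⟨F, iF, iT, hcard, he⟩ := S1230.result T hnc hnn fun u hu =>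
    ⟨⟨⟨fun a b => Subtype.ext (hex2 (H := centralizer {u})
        (fun c hc => hall u hu c (mem_centralizer_singleton_iff.1 hc)) a a.2 b b.2).eq⟩⟩,
      fun c hc => by rw [pow_two]; exact hall u hu c (mem_centralizer_singleton_iff.1 hc)⟩
  refine ⟨F, iF, iT, ?_, he⟩
  obtain ⟨k, hk⟩ := T.isPGroup'.exists_card_eq
  have hk2 : 2 ≤ k := by
    by_contra hlt
    have : k = 0 ∨ k = 1 := by omega
    rcases this with rfl | rfl
    · exact hT0 (card_eq_one.1 (by rw [hk, pow_zero]))
    · exact hnc (isCyclic_of_prime_card (p := 2) (by rw [hk, pow_one]))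
  rw [hcard, hk]
  exact (by norm_num : 4 = 2 ^ 2).trans_le (Nat.pow_le_pow_right two_pos hk2)

/-- The classification of finite groups with a non-trivial partition. -/
theorem Part.classify (P : Part G) (hnt : ∃ x : G, x ≠ 1) :
    Nonempty (G ≃* Equiv.Perm (Fin 4)) ∨
    (∃ p : ℕ, p.Prime ∧ Subgroup.closure {g : G | g ^ p ≠ 1} ≠ ⊤) ∨
    (∃ H : Subgroup G, Cfsg.IsFrobeniusComplement H) ∨
    (∃ (F : Type) (_ : Field F) (_ : Fintype F), 4 ≤ Fintype.card F ∧
        Nonempty (G ≃* Matrix.ProjectiveSpecialLinearGroup (Fin 2) F)) ∨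
    (∃ (F : Type) (_ : Field F) (_ : Fintype F), 5 ≤ Fintype.card F ∧ Odd (Fintype.card F) ∧
        Nonempty (G ≃* (GL (Fin 2) F ⧸ Subgroup.center (GL (Fin 2) F)))) ∨
    Cfsg.Lie.IsoSuzuki G := by
  by_cases hn : ∃ x : G, x ≠ 1 ∧ (P.comp x).Normal
  · obtain ⟨x, hx, hN⟩ := hn
    haveI := hN
    rcases P.hughes_or_frobenius hx with h | h
    · exact Or.inr (Or.inl h)
    · exact Or.inr (Or.inr (Or.inl h))
  push Not at hn
  by_cases hab : ∃ A : Subgroup G, A.Normal ∧ A ≠ ⊥ ∧ IsMulCommutative A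
  · obtain ⟨A, hA, hA0, hAc⟩ := hab
    rcases P.abelian_normal hn hA0 with h | h | h
    · exact Or.inl h
    · exact Or.inr (Or.inl h)
    · exact Or.inr (Or.inr (Or.inl h))
  have hs : InvertedOdd.NoSolvableNormal G := fun N hN hsol => by
    by_contra hne
    exact hab (exists_abelian_normal_of_solvable hN hsol hne)
  have h2 : 2 ∣ Nat.card G := by
    by_contra h
    obtain ⟨x, hx⟩ := hnt
    have hodd : Odd (Nat.card (⊤ : Subgroup G)) := by
      rw [card_top, ← Nat.not_even_iff_odd, even_iff_two_dvd]; exact h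
    have h' := hs ⊤ inferInstance (OddOrderTheorem.solvable hodd)
    exact hx (mem_bot.1 (h' ▸ mem_top x))
  by_cases hcl : ∃ (S : Sylow 2 G) (t : G), orderOf t = 2 ∧ (∀ s ∈ (S : Subgroup G), Commute s t) ∧
      centralizer ({t} : Set G) ≤ P.comp t
  · obtain ⟨S, t, ht2, htc, hle⟩ := hcl
    rcases (⟨hs, hn, ht2, ⟨S, htc⟩, hle⟩ : Closed P t).classify with h | h
    · exact Or.inr (Or.inr (Or.inr (Or.inl h)))
    · exact Or.inr (Or.inr (Or.inr (Or.inr (Or.inr h))))
  push Not at hcl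
  by_cases hex : ∃ (S : Sylow 2 G) (t : G), t ∈ (S : Subgroup G) ∧ orderOf t = 2 ∧
      (∀ s ∈ (S : Subgroup G), Commute s t) ∧ ∃ a ∈ P.comp t, a * a ≠ 1
  · obtain ⟨S, t, htS, ht2, htc, hexp⟩ := hex
    rcases (⟨hs, ht2, htS, htc, hcl S t ht2 htc, hexp⟩ : Split P S t).classify with h | h
    · exact Or.inr (Or.inr (Or.inr (Or.inl h)))
    · exact Or.inr (Or.inr (Or.inr (Or.inr (Or.inl h))))
  push Not at hex
  refine Or.inr (Or.inr (Or.inr (Or.inl (psl_of_elementary hs h2 fun S t htS ht2 htc c hc => ?_))))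
  by_cases hcm : c ∈ P.comp t
  · exact hex S t htS ht2 htc c hcm
  have hc1 : c ≠ 1 := fun e => hcm (e ▸ one_mem _)
  have h3 := ((P.mem_or_eq (Involution.ne_one ht2) hc1 hc.symm).resolve_left hcm).1
  rw [← pow_two, show (2 : ℕ) = orderOf c from ht2.symm.trans h3, pow_orderOf_eq_one]

end Cfsg.Agent.PartCls
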